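import Mathlib.CategoryTheory.Sites.Pullback
import Mathlib.CategoryTheory.Functor.Flat
import Mathlib.CategoryTheory.Comma.StructuredArrow.Small
import Mathlib.CategoryTheory.Abelian.GrothendieckAxioms.Basic
import Mathlib.Algebra.Category.Grp.AB
import Mathlib.CategoryTheory.Sites.Equivalence

/-! Inverse images along flat functors of essentially small sites are exact. -/

universe w v₁ v₂ u₁ u₂

set_option autoImplicit false

open CategoryTheory CategoryTheory.Limits Opposite

namespace AnLib

variable {C : Type u₁} [Category.{v₁} C] {D : Type u₂} [Category.{v₂} D]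

theorem hasColimitsOfShape_costructuredArrow [EssentiallySmall.{w} C] [LocallySmall.{w} D] (G : C ⥤ D) (X : Dᵒᵖ) :
    HasColimitsOfShape (CostructuredArrow G.op X) AddCommGrpCat.{w} := by
  haveI : EssentiallySmall.{w} Cᵒᵖ := inferInstance
  haveI : EssentiallySmall.{w} (CostructuredArrow G.op X) := inferInstance
  exact hasColimitsOfShape_of_equivalence (equivSmallModel.{w} (CostructuredArrow G.op X)).symm

theorem hasLeftKanExtension [EssentiallySmall.{w} C] [LocallySmall.{w} D] (G : C ⥤ D)
    (F : Cᵒᵖ ⥤ AddCommGrpCat.{w}) : G.op.HasLeftKanExtension F := by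
  haveI := fun X => hasColimitsOfShape_costructuredArrow.{w} G X
  infer_instance

theorem colim_preservesFiniteLimits [EssentiallySmall.{w} C] [LocallySmall.{w} D] (G : C ⥤ D) [RepresentablyFlat G]
    (X : Dᵒᵖ) [HasColimitsOfShape (CostructuredArrow G.op X) AddCommGrpCat.{w}] :
    PreservesFiniteLimits (colim (J := CostructuredArrow G.op X) (C := AddCommGrpCat.{w})) := by
  haveI : EssentiallySmall.{w} Cᵒᵖ := inferInstance
  haveI : EssentiallySmall.{w} (CostructuredArrow G.op X) := inferInstance
  haveI : IsFiltered (CostructuredArrow G.op X) :=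
    IsFiltered.of_equivalence (structuredArrowOpEquivalence G (unop X))
  haveI : IsFiltered (SmallModel.{w} (CostructuredArrow G.op X)) :=
    IsFiltered.of_equivalence (equivSmallModel.{w} (CostructuredArrow G.op X))
  exact (HasExactColimitsOfShape.of_domain_equivalence AddCommGrpCat.{w}
    (equivSmallModel.{w} (CostructuredArrow G.op X)).symm).preservesFiniteLimits

set_option backward.defeqAttrib.useBackward true in
set_option backward.isDefEq.respectTransparency false in
/-- Evaluation of a left Kan extension is a colimit over costructured arrows. -/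
noncomputable def evalLanIso {C' D' E : Type*} [Category* C'] [Category* D'] [Category* E] (F : C' ⥤ D') (X : D')
    [∀ G : C' ⥤ E, F.HasLeftKanExtension G] [∀ X : D', HasColimitsOfShape (CostructuredArrow F X) E] :
    F.lan ⋙ (evaluation D' E).obj X ≅
      (Functor.whiskeringLeft _ _ E).obj (CostructuredArrow.proj F X) ⋙ colim :=
  NatIso.ofComponents (fun G =>
    IsColimit.coconePointUniqueUpToIso
    (Functor.isPointwiseLeftKanExtensionLeftKanExtensionUnit F G X)
    (colimit.isColimit _)) (fun {G₁ G₂} φ => by
      apply (Functor.isPointwiseLeftKanExtensionLeftKanExtensionUnit F G₁ X).hom_ext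
      intro T
      have h₁ := fun (G : C' ⥤ E) => IsColimit.comp_coconePointUniqueUpToIso_hom
        (Functor.isPointwiseLeftKanExtensionLeftKanExtensionUnit F G X) (colimit.isColimit _) T
      have h₂ := congr_app (F.lanUnit.naturality φ) T.left
      dsimp at h₁ h₂ ⊢
      simp only [Category.assoc] at h₁ ⊢
      simp only [Functor.lan, Functor.lanUnit] at h₂ ⊢
      rw [reassoc_of% h₁, NatTrans.naturality_assoc, ← reassoc_of% h₂, h₁,
        ι_colimMap, Functor.whiskerLeft_app]
      rfl)

theorem lan_preservesFiniteLimits [EssentiallySmall.{w} C] [LocallySmall.{w} D] (G : C ⥤ D) [RepresentablyFlat G]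
    [∀ F : Cᵒᵖ ⥤ AddCommGrpCat.{w}, G.op.HasLeftKanExtension F] :
    PreservesFiniteLimits (G.op.lan : (Cᵒᵖ ⥤ AddCommGrpCat.{w}) ⥤ Dᵒᵖ ⥤ AddCommGrpCat.{w}) := by
  haveI := fun X => hasColimitsOfShape_costructuredArrow.{w} G X
  haveI := fun X => colim_preservesFiniteLimits.{w} G X
  refine ⟨fun J _ _ => preservesLimitsOfShape_of_evaluation _ J fun K => ?_⟩
  exact preservesLimitsOfShape_of_natIso (evalLanIso G.op K).symm

theorem sheafPullback_preservesFiniteLimits [EssentiallySmall.{w} C] [EssentiallySmall.{w} D] (G : C ⥤ D) [RepresentablyFlat G]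
    (J : GrothendieckTopology C) (K : GrothendieckTopology D) [G.IsContinuous J K]
    [HasSheafify J AddCommGrpCat.{w}] [HasSheafify K AddCommGrpCat.{w}]
    [(G.sheafPushforwardContinuous AddCommGrpCat.{w} J K).IsRightAdjoint] :
    PreservesFiniteLimits (G.sheafPullback AddCommGrpCat.{w} J K) := by
  haveI := hasLeftKanExtension.{w} G
  haveI := lan_preservesFiniteLimits.{w} G
  exact Functor.sheafPullbackConstruction.preservesFiniteLimits G AddCommGrpCat.{w} J K

end AnLib
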