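import Groth.Prelude.Def_AnPts
import Mathlib.AlgebraicGeometry.AlgClosed.Basic
import Mathlib.AlgebraicGeometry.Morphisms.Immersion
import Mathlib.Analysis.Complex.Polynomial.Basic
import Mathlib.Topology.Algebra.MvPolynomial

/-! Basic facts on the complex topology of `ℂ`-points: affine charts and the convergence criterion. -/

set_option autoImplicit false

open CategoryTheory AlgebraicGeometry TopologicalSpace Topology Filter An Opposite

namespace AnLib

variable {X : Scheme.{0}} [X.Over SC] {Y : Scheme.{0}} [Y.Over SC]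

/-- Evaluation at a point as a ring homomorphism. -/
noncomputable def evHom (x : Pts X) (U : X.Opens) (h : x.pt ∈ U) : Γ(X, U) →+* ℂ :=
  (Scheme.ΓSpecIso (CommRingCat.of ℂ)).hom.hom.comp (x.1.appLE U ⊤ (Pts.top_le_preimage x h)).hom

theorem ev_map_le (x : Pts X) {U V : X.Opens} (hVU : V ≤ U) (h : x.pt ∈ V) (f : Γ(X, U)) :
    x.ev V h (X.presheaf.map (homOfLE hVU).op f) = x.ev U (hVU h) f := by
  unfold An.Pts.ev
  congr 1
  rw [← ConcreteCategory.comp_apply, Scheme.Hom.map_appLE]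

/-- The constants in the sections over an open. -/
noncomputable def strOn (U : X.Opens) : ℂ →+* Γ(X, U) :=
  (X.presheaf.map (homOfLE le_top).op).hom.comp (strHom X)

theorem ev_strOn (x : Pts X) (U : X.Opens) (h : x.pt ∈ U) (c : ℂ) : x.ev U h (strOn U c) = c := by
  show x.ev U h (X.presheaf.map (homOfLE (le_top : U ≤ ⊤)).op (strHom X c)) = c
  rw [ev_map_le]
  have h1 := congrArg (fun k : SC ⟶ SC => k.appTop ((Scheme.ΓSpecIso (CommRingCat.of ℂ)).inv c)) x.2
  simp only [Scheme.Hom.comp_appTop, Scheme.Hom.id_appTop] at h1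
  show (Scheme.ΓSpecIso (CommRingCat.of ℂ)).hom (x.1.appLE ⊤ ⊤ _ _) = c
  rw [Scheme.Hom.appLE]
  simp only [ConcreteCategory.comp_apply, CategoryTheory.Functor.map_id, homOfLE_refl, op_id]
  show (Scheme.ΓSpecIso (CommRingCat.of ℂ)).hom (x.1.appTop ((X ↘ SC).appTop _)) = c
  rw [show x.1.appTop ((X ↘ SC).appTop ((Scheme.ΓSpecIso (CommRingCat.of ℂ)).inv c)) =
    (Scheme.ΓSpecIso (CommRingCat.of ℂ)).inv c from h1]
  exact Iso.inv_hom_id_apply (Scheme.ΓSpecIso (CommRingCat.of ℂ)) c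

theorem specMap_evHom (x : Pts X) {U : X.Opens} (hU : IsAffineOpen U) (h : x.pt ∈ U) :
    Spec.map (CommRingCat.ofHom (evHom x U h)) ≫ hU.fromSpec = x.1 := by
  have e : CommRingCat.ofHom (evHom x U h) =
      x.1.appLE U ⊤ (Pts.top_le_preimage x h) ≫ (Scheme.ΓSpecIso (CommRingCat.of ℂ)).hom := rfl
  rw [e, Spec.map_comp, Category.assoc, hU.SpecMap_appLE_fromSpec x.1 (isAffineOpen_top SC)
    (Pts.top_le_preimage x h), IsAffineOpen.fromSpec_top, ← Category.assoc]
  refine Eq.trans ?_ (Category.id_comp _)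
  congr 1
  have := Scheme.isoSpec_Spec_inv (R := CommRingCat.of ℂ)
  rw [this, ← Spec.map_comp, Iso.inv_hom_id, Spec.map_id]

theorem ext_of_ev {x y : Pts X} {U : X.Opens} (hU : IsAffineOpen U) (hx : x.pt ∈ U) (hy : y.pt ∈ U)
    (h : ∀ f, x.ev U hx f = y.ev U hy f) : x = y := by
  refine Subtype.ext ?_
  rw [← specMap_evHom x hU hx, ← specMap_evHom y hU hy, show evHom x U hx = evHom y U hy from RingHom.ext h]

theorem specMap_strOn {U : X.Opens} (hU : IsAffineOpen U) :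
    Spec.map (CommRingCat.ofHom (strOn U)) = hU.fromSpec ≫ (X ↘ SC) := by
  have h1 := IsAffineOpen.SpecMap_appLE_fromSpec (X ↘ SC) (isAffineOpen_top SC) hU (U := ⊤) (V := U) (by simp)
  rw [← h1, IsAffineOpen.fromSpec_top, Scheme.isoSpec_Spec_inv, ← Spec.map_comp]
  congr 1

/-- The point given by a character of the sections over an affine open. -/
noncomputable def ofHom {U : X.Opens} (hU : IsAffineOpen U) (φ : Γ(X, U) →+* ℂ)
    (hφ : ∀ c, φ (strOn U c) = c) : Pts X :=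
  ⟨Spec.map (CommRingCat.ofHom φ) ≫ hU.fromSpec, by
    rw [Category.assoc, ← specMap_strOn hU, ← Spec.map_comp,
      show CommRingCat.ofHom (strOn U) ≫ CommRingCat.ofHom φ = 𝟙 _ from CommRingCat.hom_ext (RingHom.ext hφ),
      Spec.map_id]⟩

theorem pt_ofHom {U : X.Opens} (hU : IsAffineOpen U) (φ : Γ(X, U) →+* ℂ) (hφ) :
    (ofHom hU φ hφ).pt ∈ U := by
  show (Spec.map (CommRingCat.ofHom φ) ≫ hU.fromSpec) cpt ∈ U
  rw [Scheme.Hom.comp_apply]
  have := hU.range_fromSpec.le ⟨Spec.map (CommRingCat.ofHom φ) cpt, rfl⟩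
  exact this

theorem ev_ofHom {U : X.Opens} (hU : IsAffineOpen U) (φ : Γ(X, U) →+* ℂ) (hφ) (f : Γ(X, U)) :
    (ofHom hU φ hφ).ev U (pt_ofHom hU φ hφ) f = φ f := by
  have h1 := specMap_evHom (ofHom hU φ hφ) hU (pt_ofHom hU φ hφ)
  exact congrArg (fun k : CommRingCat.of Γ(X, U) ⟶ CommRingCat.of ℂ => k.hom f)
    (Spec.map_injective ((cancel_mono hU.fromSpec).1 h1))

theorem mem_basicOpen_iff (x : Pts X) {U : X.Opens} (h : x.pt ∈ U) (s : Γ(X, U)) :
    x.pt ∈ X.basicOpen s ↔ x.ev U h s ≠ 0 := by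
  have h1 := Scheme.basicOpen_appLE x.1 ⊤ U (Pts.top_le_preimage x h) s
  rw [top_inf_eq] at h1
  have h2 : x.pt ∈ X.basicOpen s ↔ cpt ∈ SC.basicOpen (x.1.appLE U ⊤ (Pts.top_le_preimage x h) s) := by
    rw [h1]; rfl
  rw [h2]
  show _ ↔ (Scheme.ΓSpecIso (CommRingCat.of ℂ)).hom _ ≠ 0
  rw [← isUnit_iff_ne_zero]
  constructor
  · intro h3
    refine IsUnit.map _ (SC.toRingedSpace.isUnit_of_isUnit_germ _ _ fun p _ => ?_)
    rw [eq_cpt p]
    exact (SC.mem_basicOpen _ cpt (Set.mem_univ _)).1 h3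
  · intro h3
    rw [SC.mem_basicOpen _ cpt (Set.mem_univ _)]
    refine (IsUnit.map _ ?_ : IsUnit (SC.presheaf.germ ⊤ cpt (Set.mem_univ _) _))
    have h4 := h3.map (Scheme.ΓSpecIso (CommRingCat.of ℂ)).inv.hom
    rwa [show (Scheme.ΓSpecIso (CommRingCat.of ℂ)).inv.hom ((Scheme.ΓSpecIso (CommRingCat.of ℂ)).hom _) = _
      from Iso.hom_inv_id_apply _ _] at h4

open Classical in
/-- Evaluation, extended by `0` outside the open. -/
noncomputable def evOn (U : X.Opens) (f : Γ(X, U)) (x : Pts X) : ℂ :=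
  if h : x.pt ∈ U then x.ev U h f else 0

theorem evOn_eq {U : X.Opens} (f : Γ(X, U)) {x : Pts X} (h : x.pt ∈ U) : evOn U f x = x.ev U h f := dif_pos h

theorem continuousAt_evOn {U : X.Opens} (f : Γ(X, U)) {x : Pts X} (h : x.pt ∈ U) :
    ContinuousAt (evOn U f) x := by
  intro V hV
  rw [mem_map]
  obtain ⟨V₀, hV₀, ho, hx⟩ := mem_nhds_iff.1 hV
  refine mem_nhds_iff.2 ⟨Pts.basicSet U f V₀, ?_, Pts.isOpen_basicSet U f ho, h, evOn_eq f h ▸ hx⟩
  rintro y ⟨hy, hy'⟩
  exact hV₀ (by rw [evOn_eq f hy]; exact hy')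

/-- Convergence is detected by the sections over one affine open. -/
theorem tendsto_nhds_of_affine {ι : Type*} {l : Filter ι} {g : ι → Pts X} {x : Pts X} {U : X.Opens}
    (hU : IsAffineOpen U) (hx : x.pt ∈ U) (h1 : ∀ᶠ i in l, (g i).pt ∈ U)
    (h2 : ∀ a : Γ(X, U), Tendsto (fun i => evOn U a (g i)) l (𝓝 (evOn U a x))) :
    Tendsto g l (𝓝 x) := by
  rw [tendsto_nhds_generateFrom_iff]
  rintro _ ⟨U', f, V, hV, rfl⟩ ⟨hx', hxV⟩
  obtain ⟨s, hsU', hxs⟩ := hU.exists_basicOpen_le (V := U') ⟨x.pt, hx'⟩ hx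
  haveI := hU.isLocalization_basicOpen s
  obtain ⟨a, ⟨_, n, rfl⟩, hfa⟩ := IsLocalization.exists_mk'_eq (Submonoid.powers s)
    (X.presheaf.map (homOfLE hsU').op f)
  have hev : ∀ y : Pts X, ∀ (hy : y.pt ∈ X.basicOpen s),
      y.ev U' (hsU' hy) f = evOn U a y / evOn U s y ^ n := by
    intro y hy
    have hyU := X.basicOpen_le s hy
    have hne := (mem_basicOpen_iff y hyU s).1 hy
    rw [evOn_eq a hyU, evOn_eq s hyU, eq_div_iff (pow_ne_zero _ hne)]
    have h3 := congrArg (evHom y _ hy) (IsLocalization.mk'_spec (Γ(X, X.basicOpen s)) a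
      (⟨s ^ n, n, rfl⟩ : Submonoid.powers s))
    rw [hfa, map_mul] at h3
    have h4 : ∀ b, evHom y _ hy (algebraMap Γ(X, U) Γ(X, X.basicOpen s) b) = y.ev U hyU b :=
      fun b => ev_map_le y (X.basicOpen_le s) hy b
    rw [h4, h4] at h3
    rw [← ev_map_le y hsU' hy f]
    refine Eq.trans ?_ h3
    exact congrArg (_ * ·) (map_pow (evHom y U hyU) s n).symm
  have hne := (mem_basicOpen_iff x hx s).1 hxs
  rw [← evOn_eq s hx] at hne
  have ht : Tendsto (fun i => evOn U a (g i) / evOn U s (g i) ^ n) l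
      (𝓝 (evOn U a x / evOn U s x ^ n)) := (h2 a).div ((h2 s).pow n) (pow_ne_zero _ hne)
  rw [← hev x hxs] at ht
  filter_upwards [h1, (h2 s).eventually_ne hne, ht.eventually_mem (hV.mem_nhds hxV)] with i hi hi' hi''
  rw [evOn_eq s hi] at hi'
  have hy := (mem_basicOpen_iff (g i) hi s).2 hi'
  exact ⟨hsU' hy, by rw [hev _ hy]; exact hi''⟩

/-- The set where evaluation lies in a subalgebra-closed condition: generators suffice. -/
theorem tendsto_evOn_of_gens {ι : Type*} {l : Filter ι} {g : ι → Pts X} {x : Pts X} {U : X.Opens}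
    (hx : x.pt ∈ U) (h1 : ∀ᶠ i in l, (g i).pt ∈ U) {κ : Type*} (s : κ → Γ(X, U))
    (hs : Function.Surjective (MvPolynomial.eval₂Hom (strOn U) s))
    (h2 : ∀ k, Tendsto (fun i => evOn U (s k) (g i)) l (𝓝 (evOn U (s k) x))) (a : Γ(X, U)) :
    Tendsto (fun i => evOn U a (g i)) l (𝓝 (evOn U a x)) := by
  obtain ⟨p, rfl⟩ := hs a
  induction p using MvPolynomial.induction_on with
  | C c =>
    rw [MvPolynomial.eval₂Hom_C, evOn_eq _ hx, ev_strOn]
    refine tendsto_const_nhds.congr' ?_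
    filter_upwards [h1] with i hi
    rw [evOn_eq _ hi, ev_strOn]
  | add p q hp hq =>
    rw [map_add, evOn_eq _ hx, show x.ev U hx _ = evHom x U hx _ from rfl, map_add]
    have := hp.add hq
    rw [evOn_eq _ hx, evOn_eq _ hx] at this
    refine this.congr' ?_
    filter_upwards [h1] with i hi
    rw [evOn_eq _ hi, evOn_eq _ hi, evOn_eq _ hi]
    exact (map_add (evHom (g i) U hi) _ _).symm
  | mul_X p k hp =>
    rw [map_mul, MvPolynomial.eval₂Hom_X', evOn_eq _ hx, show x.ev U hx _ = evHom x U hx _ from rfl, map_mul]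
    have := hp.mul (h2 k)
    rw [evOn_eq _ hx, evOn_eq _ hx] at this
    refine this.congr' ?_
    filter_upwards [h1] with i hi
    rw [evOn_eq _ hi, evOn_eq _ hi, evOn_eq _ hi]
    exact (map_mul (evHom (g i) U hi) _ _).symm

/-- Convergence is detected by generators of the sections over one affine open. -/
theorem tendsto_nhds_of_gens {ι : Type*} {l : Filter ι} {g : ι → Pts X} {x : Pts X} {U : X.Opens}
    (hU : IsAffineOpen U) (hx : x.pt ∈ U) (h1 : ∀ᶠ i in l, (g i).pt ∈ U) {κ : Type*} (s : κ → Γ(X, U))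
    (hs : Function.Surjective (MvPolynomial.eval₂Hom (strOn U) s))
    (h2 : ∀ k, Tendsto (fun i => evOn U (s k) (g i)) l (𝓝 (evOn U (s k) x))) :
    Tendsto g l (𝓝 x) :=
  tendsto_nhds_of_affine hU hx h1 (tendsto_evOn_of_gens hx h1 s hs h2)

theorem finiteType_strOn [LocallyOfFiniteType (X ↘ SC)] {U : X.Opens} (hU : IsAffineOpen U) :
    (strOn U).FiniteType := by
  haveI : LocallyOfFiniteType (Spec.map (CommRingCat.ofHom (strOn U))) := by
    rw [specMap_strOn hU]; infer_instance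
  exact HasRingHomProperty.Spec_iff.1 this

theorem exists_gens [LocallyOfFiniteType (X ↘ SC)] {U : X.Opens} (hU : IsAffineOpen U) :
    ∃ (n : ℕ) (s : Fin n → Γ(X, U)), Function.Surjective (MvPolynomial.eval₂Hom (strOn U) s) := by
  letI := (strOn U).toAlgebra
  haveI : Algebra.FiniteType ℂ Γ(X, U) := finiteType_strOn hU
  obtain ⟨n, f, hf⟩ := Algebra.FiniteType.iff_quotient_mvPolynomial''.1 ‹_›
  refine ⟨n, fun k => f (MvPolynomial.X k), ?_⟩
  have : MvPolynomial.eval₂Hom (strOn U) (fun k => f (MvPolynomial.X k)) = f.toRingHom :=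
    MvPolynomial.ringHom_ext (fun c => by
      rw [MvPolynomial.eval₂Hom_C]; exact (f.commutes c).symm) (fun k => by simp)
  rw [this]
  exact hf

theorem isClosed_singleton_pt [LocallyOfFiniteType (X ↘ SC)] (x : Pts X) : IsClosed ({x.pt} : Set X) :=
  mem_closedPoints_iff.1 (by
    have := (pointEquivClosedPoint (X ↘ SC) ⟨x.1, x.2⟩).2
    rw [pointEquivClosedPoint_apply_coe, eq_cpt (IsLocalRing.closedPoint ℂ)] at this
    exact this)

theorem pt_injective [LocallyOfFiniteType (X ↘ SC)] : Function.Injective (Pts.pt : Pts X → X) := by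
  intro x y h
  exact Subtype.ext (ext_of_apply_closedPoint_eq (X ↘ SC) x.2 y.2
    (by rw [eq_cpt (IsLocalRing.closedPoint ℂ)]; exact h))

theorem exists_pt_eq [LocallyOfFiniteType (X ↘ SC)] {x : X} (hx : IsClosed {x}) : ∃ p : Pts X, p.pt = x :=
  ⟨⟨pointOfClosedPoint (X ↘ SC) x hx, pointOfClosedPoint_comp _ _ _⟩, pointOfClosedPoint_apply _ _ _ _⟩

theorem jacobsonSpace [LocallyOfFiniteType (X ↘ SC)] : JacobsonSpace X :=
  LocallyOfFiniteType.jacobsonSpace (X ↘ SC)

theorem exists_pt_mem [LocallyOfFiniteType (X ↘ SC)] {Z : Set X} (hZ : Z.Nonempty)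
    (hZ' : IsLocallyClosed Z) : ∃ p : Pts X, p.pt ∈ Z := by
  haveI : JacobsonSpace X := jacobsonSpace
  obtain ⟨y, hy, hc⟩ := nonempty_inter_closedPoints hZ hZ'
  obtain ⟨p, rfl⟩ := exists_pt_eq hc
  exact ⟨p, hy⟩

theorem nonempty_iff [LocallyOfFiniteType (X ↘ SC)] : Nonempty X ↔ Nonempty (Pts X) :=
  ⟨fun ⟨x⟩ => ⟨(exists_pt_mem (Z := Set.univ) ⟨x, trivial⟩ isClosed_univ.isLocallyClosed).choose⟩,
    fun ⟨p⟩ => ⟨p.pt⟩⟩

theorem isEmbedding_ev {U : X.Opens} (hU : IsAffineOpen U) {κ : Type*} (s : κ → Γ(X, U))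
    (hs : Function.Surjective (MvPolynomial.eval₂Hom (strOn U) s)) :
    Topology.IsEmbedding (fun (x : {x : Pts X // x.pt ∈ U}) (k : κ) => x.1.ev U x.2 (s k)) := by
  refine ⟨isInducing_iff_nhds.2 fun x => le_antisymm ?_ ?_, fun x y h => ?_⟩
  · rw [← map_le_iff_le_comap]
    refine tendsto_pi_nhds.2 fun k => ?_
    have h1 := ((continuousAt_evOn (s k) x.2).comp continuous_subtype_val.continuousAt).tendsto
    simp only [Function.comp_apply, evOn_eq _ x.2] at h1
    exact h1.congr fun y => evOn_eq _ y.2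
  · rw [nhds_subtype_eq_comap, ← map_le_iff_le_comap]
    refine tendsto_nhds_of_gens hU x.2 (Eventually.of_forall fun y => y.2) s hs fun k => ?_
    rw [evOn_eq _ x.2]
    have h1 := (tendsto_pi_nhds.1 (tendsto_comap (f := fun (y : {x : Pts X // x.pt ∈ U}) (k : κ) =>
      y.1.ev U y.2 (s k)) (x := 𝓝 (fun k => x.1.ev U x.2 (s k))))) k
    exact h1.congr fun y => (evOn_eq _ y.2).symm
  · refine Subtype.ext (ext_of_ev hU x.2 y.2 fun a => ?_)
    obtain ⟨p, rfl⟩ := hs a
    have h1 : (evHom x.1 U x.2).comp (MvPolynomial.eval₂Hom (strOn U) s) =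
        (evHom y.1 U y.2).comp (MvPolynomial.eval₂Hom (strOn U) s) := by
      refine MvPolynomial.ringHom_ext (fun c => ?_) (fun k => ?_)
      · simp only [RingHom.comp_apply, MvPolynomial.eval₂Hom_C]
        exact (ev_strOn x.1 U x.2 c).trans (ev_strOn y.1 U y.2 c).symm
      · simp only [RingHom.comp_apply, MvPolynomial.eval₂Hom_X']
        exact congrFun h k
    exact RingHom.congr_fun h1 p

theorem range_ev {U : X.Opens} (hU : IsAffineOpen U) {κ : Type*} (s : κ → Γ(X, U))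
    (hs : Function.Surjective (MvPolynomial.eval₂Hom (strOn U) s)) :
    Set.range (fun (x : {x : Pts X // x.pt ∈ U}) (k : κ) => x.1.ev U x.2 (s k)) =
      {z | ∀ p ∈ RingHom.ker (MvPolynomial.eval₂Hom (strOn U) s), MvPolynomial.eval z p = 0} := by
  ext z
  constructor
  · rintro ⟨x, rfl⟩ p hp
    have h1 : MvPolynomial.eval (fun k => x.1.ev U x.2 (s k)) =
        (evHom x.1 U x.2).comp (MvPolynomial.eval₂Hom (strOn U) s) := by
      refine MvPolynomial.ringHom_ext (fun c => ?_) (fun k => ?_)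
      · simp only [RingHom.comp_apply, MvPolynomial.eval₂Hom_C, MvPolynomial.eval_C]
        exact (ev_strOn x.1 U x.2 c).symm
      · simp only [RingHom.comp_apply, MvPolynomial.eval₂Hom_X', MvPolynomial.eval_X]
        rfl
    rw [h1, RingHom.comp_apply, RingHom.mem_ker.1 hp, map_zero]
  · intro hz
    let φ : Γ(X, U) →+* ℂ := (MvPolynomial.eval₂Hom (strOn U) s).liftOfSurjective hs
      ⟨MvPolynomial.eval z, fun p hp => hz p hp⟩
    have hφ : ∀ p, φ (MvPolynomial.eval₂Hom (strOn U) s p) = MvPolynomial.eval z p := fun p =>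
      RingHom.liftOfRightInverse_comp_apply _ _ _ _ p
    have hc : ∀ c, φ (strOn U c) = c := fun c => by simpa using hφ (MvPolynomial.C c)
    refine ⟨⟨ofHom hU φ hc, pt_ofHom hU φ hc⟩, funext fun k => ?_⟩
    refine (ev_ofHom hU φ hc _).trans ?_
    simpa using hφ (MvPolynomial.X k)

theorem isClosedEmbedding_ev {U : X.Opens} (hU : IsAffineOpen U) {n : ℕ} (s : Fin n → Γ(X, U))
    (hs : Function.Surjective (MvPolynomial.eval₂Hom (strOn U) s)) :
    Topology.IsClosedEmbedding (fun (x : {x : Pts X // x.pt ∈ U}) (k : Fin n) => x.1.ev U x.2 (s k)) := by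
  refine ⟨isEmbedding_ev hU s hs, ?_⟩
  rw [range_ev hU s hs]
  simp only [Set.setOf_forall]
  exact isClosed_iInter fun p => isClosed_iInter fun _ =>
    isClosed_eq (MvPolynomial.continuous_eval p) continuous_const

theorem locallyCompactSpace [LocallyOfFiniteType (X ↘ SC)] : LocallyCompactSpace (Pts X) := by
  refine ⟨fun x N hN => ?_⟩
  obtain ⟨U, hU, hxU, -⟩ := exists_isAffineOpen_mem_and_subset (x := x.pt) (U := ⊤) trivial
  obtain ⟨n, s, hs⟩ := exists_gens hU
  haveI : LocallyCompactSpace {x : Pts X // x.pt ∈ U} := (isClosedEmbedding_ev hU s hs).locallyCompactSpace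
  have ho : IsOpenEmbedding (Subtype.val : {x : Pts X // x.pt ∈ U} → Pts X) :=
    (Pts.isOpen_preimage_pt U).isOpenEmbedding_subtypeVal
  obtain ⟨K, hK, hKN, hKc⟩ := local_compact_nhds
    (continuous_subtype_val.continuousAt (x := (⟨x, hxU⟩ : {x : Pts X // x.pt ∈ U})) hN)
  refine ⟨_, ?_, Set.image_subset_iff.2 hKN, hKc.image continuous_subtype_val⟩
  rw [← ho.map_nhds_eq ⟨x, hxU⟩]
  exact image_mem_map hK

end AnLib
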