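import Groth.Agent.AnLib.Roots
import Mathlib.RingTheory.NoetherNormalization
import Mathlib.RingTheory.Ideal.GoingUp
import Mathlib.RingTheory.Jacobson.Ring
import Mathlib.FieldTheory.Minpoly.IsIntegrallyClosed
import Mathlib.RingTheory.Polynomial.UniqueFactorization
import Mathlib.RingTheory.Polynomial.RationalRoot
import Mathlib.Algebra.MvPolynomial.Funext
import Mathlib.Topology.Algebra.MvPolynomial
import Mathlib.Topology.MetricSpace.ProperSpace
import Mathlib.FieldTheory.IsAlgClosed.Basic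

/-! Zariski-dense opens are dense for the topology of pointwise convergence on complex points. -/

set_option autoImplicit false

open Polynomial Filter Topology

namespace AnLib

theorem exists_algHom_of_isMaximal {A : Type*} [CommRing A] [Algebra ℂ A] [Algebra.FiniteType ℂ A]
    (m : Ideal A) [m.IsMaximal] : ∃ ψ : A →ₐ[ℂ] ℂ, RingHom.ker ψ.toRingHom = m := by
  letI := Ideal.Quotient.field m
  haveI : Algebra.FiniteType ℂ (A ⧸ m) := .of_surjective (Ideal.Quotient.mkₐ ℂ m) Ideal.Quotient.mk_surjective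
  haveI := finite_of_finite_type_of_isJacobsonRing ℂ (A ⧸ m)
  have hb := IsAlgClosed.algebraMap_bijective_of_isIntegral (k := ℂ) (K := A ⧸ m)
  let e : ℂ ≃ₐ[ℂ] A ⧸ m := AlgEquiv.ofBijective (Algebra.ofId ℂ (A ⧸ m)) hb
  refine ⟨e.symm.toAlgHom.comp (Ideal.Quotient.mkₐ ℂ m), ?_⟩
  ext a
  show e.symm (Ideal.Quotient.mk m a) = 0 ↔ a ∈ m
  rw [EmbeddingLike.map_eq_zero_iff, Ideal.Quotient.eq_zero_iff_mem]

theorem algHom_eq_of_ker_le {A : Type*} [CommRing A] [Algebra ℂ A] {ψ χ : A →ₐ[ℂ] ℂ}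
    (h : ∀ a, ψ a = 0 → χ a = 0) : ψ = χ := by
  ext a
  have := h (a - algebraMap ℂ A (ψ a)) (by simp)
  rw [map_sub, AlgHom.commutes] at this
  exact (sub_eq_zero.1 this).symm

variable {A : Type*} [CommRing A] [Algebra ℂ A] [Algebra.FiniteType ℂ A]

/-- Points extend along integral subalgebras. -/
theorem exists_algHom_extend {B : Type*} [CommRing B] [Algebra ℂ B] [Algebra B A] [IsScalarTower ℂ B A]
    [Algebra.IsIntegral B A] (hinj : Function.Injective (algebraMap B A)) (ψ₀ : B →ₐ[ℂ] ℂ) :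
    ∃ ψ : A →ₐ[ℂ] ℂ, ∀ b, ψ (algebraMap B A b) = ψ₀ b := by
  haveI : (RingHom.ker ψ₀.toRingHom).IsMaximal :=
    RingHom.ker_isMaximal_of_surjective _ fun c => ⟨algebraMap ℂ B c, ψ₀.commutes c⟩
  obtain ⟨Q, hQ, hQ'⟩ := Ideal.exists_ideal_over_maximal_of_isIntegral (S := A)
    (RingHom.ker ψ₀.toRingHom) (by
      rw [(RingHom.injective_iff_ker_eq_bot _).1 hinj]; exact bot_le)
  obtain ⟨ψ, hψ⟩ := exists_algHom_of_isMaximal Q
  refine ⟨ψ, fun b => (AlgHom.congr_fun (algHom_eq_of_ker_le (ψ := ψ₀)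
    (χ := ψ.comp (IsScalarTower.toAlgHom ℂ B A)) fun x hx => ?_) b).symm⟩
  have h1 : x ∈ Q.comap (algebraMap B A) := hQ'.symm ▸ hx
  rw [← hψ] at h1
  exact h1

theorem mem_closure_ne_zero {n : ℕ} {g : MvPolynomial (Fin n) ℂ} (hg : g ≠ 0) (p : Fin n → ℂ) :
    p ∈ closure {q : Fin n → ℂ | MvPolynomial.eval q g ≠ 0} := by
  obtain ⟨v, hv⟩ : ∃ v, MvPolynomial.eval v g ≠ 0 := by
    by_contra h
    push Not at h
    exact hg (MvPolynomial.funext fun v => by rw [h v, map_zero])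
  let L : ℂ[X] := MvPolynomial.aeval (fun i => Polynomial.C (p i) + Polynomial.X * Polynomial.C (v i - p i)) g
  have hL : ∀ t : ℂ, L.eval t = MvPolynomial.eval (fun i => p i + t * (v i - p i)) g := fun t => by
    rw [show L.eval t = (Polynomial.aeval t).toRingHom L from (Polynomial.coe_aeval_eq_eval t ▸ rfl)]
    show Polynomial.aeval t (MvPolynomial.aeval _ g) = _
    rw [MvPolynomial.comp_aeval_apply]
    simp [MvPolynomial.aeval_eq_eval]
  have hL0 : L ≠ 0 := fun h => hv (by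
    have := hL 1
    rw [h, eval_zero] at this
    simpa using this.symm)
  have hd : Dense ({t : ℂ | L.eval t ≠ 0}) := by
    have h1 := (dense_univ (X := ℂ)).sdiff_finite L.roots.toFinset.finite_toSet
    refine h1.mono fun t ht h => ht.2 ?_
    rw [Finset.mem_coe, Multiset.mem_toFinset, mem_roots hL0]
    exact h
  have h2 : (fun i => p i + (0 : ℂ) * (v i - p i)) ∈
      closure ((fun t : ℂ => fun i => p i + t * (v i - p i)) '' {t | L.eval t ≠ 0}) :=
    image_closure_subset_closure_image (f := fun t : ℂ => fun i => p i + t * (v i - p i)) (by fun_prop)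
      ⟨0, hd 0, rfl⟩
  simp only [zero_mul, add_zero] at h2
  refine closure_mono ?_ h2
  rintro _ ⟨t, ht, rfl⟩
  show MvPolynomial.eval _ g ≠ 0
  rw [← hL]
  exact ht

/-- On an integral finite type algebra, any point is a limit of points where `a ≠ 0`. -/
theorem mem_closure_setOf_ne_zero [IsDomain A] {a : A} (ha : a ≠ 0) (χ : A →ₐ[ℂ] ℂ) :
    (χ : A → ℂ) ∈ closure ((fun ψ : A →ₐ[ℂ] ℂ => (ψ : A → ℂ)) '' {ψ | ψ a ≠ 0}) := by
  classical
  obtain ⟨n, φ, hφi, hφf⟩ := exists_finite_inj_algHom_of_fg ℂ A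
  letI := φ.toRingHom.toAlgebra
  haveI : IsScalarTower ℂ (MvPolynomial (Fin n) ℂ) A := IsScalarTower.of_algebraMap_eq fun c => (φ.commutes c).symm
  haveI : Module.Finite (MvPolynomial (Fin n) ℂ) A := hφf
  haveI : Module.IsTorsionFree (MvPolynomial (Fin n) ℂ) A :=
    (faithfulSMul_iff_algebraMap_injective _ A).2 hφi |>.to_isTorsionFree
  obtain ⟨g, hgI, hg⟩ := (Submodule.ne_bot_iff _).1 (Ideal.comap_ne_bot_of_integral_mem
    (R := MvPolynomial (Fin n) ℂ) ha (Ideal.mem_span_singleton_self a)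
    (Algebra.IsIntegral.isIntegral a))
  let p : Fin n → ℂ := fun i => χ (φ (MvPolynomial.X i))
  have hres : ∀ (ψ : A →ₐ[ℂ] ℂ) (q : Fin n → ℂ), (∀ i, ψ (φ (MvPolynomial.X i)) = q i) →
      ∀ f, ψ (φ f) = MvPolynomial.eval q f := fun ψ q h f => by
    have : ψ.comp φ = MvPolynomial.aeval q := MvPolynomial.algHom_ext fun i => by simpa using h i
    refine (AlgHom.congr_fun this f).trans ?_
    rw [MvPolynomial.aeval_eq_eval]
  have hroot : ∀ (b : A) (ψ : A →ₐ[ℂ] ℂ) (q : Fin n → ℂ), (∀ i, ψ (φ (MvPolynomial.X i)) = q i) →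
      ((minpoly (MvPolynomial (Fin n) ℂ) b).map (MvPolynomial.eval q)).IsRoot (ψ b) := fun b ψ q h => by
    have h1 := minpoly.aeval (MvPolynomial (Fin n) ℂ) b
    rw [IsRoot, eval_map]
    have h2 := congrArg ψ h1
    rw [map_zero, aeval_def] at h2
    rw [← h2, show ψ (eval₂ _ b _) = ψ.toRingHom (eval₂ _ b _) from rfl, hom_eval₂]
    exact eval₂_congr (RingHom.ext fun f => (hres ψ q h f).symm) rfl rfl
  have hfib : {ψ : A →ₐ[ℂ] ℂ | ∀ i, ψ (φ (MvPolynomial.X i)) = p i}.Finite := by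
    obtain ⟨s, hs⟩ := (‹Algebra.FiniteType ℂ A›).out
    refine Set.Finite.of_finite_image (f := fun ψ (b : s) => ψ b.1) ?_ ?_
    · refine (Set.Finite.pi fun b : s => ((minpoly (MvPolynomial (Fin n) ℂ) b.1).map
        (MvPolynomial.eval p)).roots.toFinset.finite_toSet).subset ?_
      rintro _ ⟨ψ, hψ, rfl⟩ b -
      rw [Finset.mem_coe, Multiset.mem_toFinset, mem_roots]
      · exact hroot b.1 ψ p hψ
      · exact ((minpoly.monic (Algebra.IsIntegral.isIntegral _)).map _).ne_zero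
    · intro ψ _ ψ' _ h
      exact AlgHom.ext_of_adjoin_eq_top hs fun b hb => congrFun h ⟨b, hb⟩
  obtain ⟨h, hh0, hh⟩ : ∃ h : A, χ h = 0 ∧ ∀ ψ : A →ₐ[ℂ] ℂ, (∀ i, ψ (φ (MvPolynomial.X i)) = p i) →
      ψ h = 0 → ψ = χ := by
    have : ¬ ((RingHom.ker χ.toRingHom : Ideal A) : Set A) ⊆
        ⋃ ψ ∈ (↑(hfib.toFinset.erase χ) : Set (A →ₐ[ℂ] ℂ)), ((RingHom.ker ψ.toRingHom : Ideal A) : Set A) := by
      rw [Ideal.subset_union_prime χ χ fun ψ _ _ _ => RingHom.ker_isPrime _]
      rintro ⟨ψ, hψ, hle⟩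
      exact (Finset.mem_erase.1 hψ).1 (algHom_eq_of_ker_le fun b hb => hle hb).symm
    obtain ⟨h, h1, h2⟩ := Set.not_subset.1 this
    refine ⟨h, h1, fun ψ hψ h3 => by_contra fun h4 => h2 ?_⟩
    simp only [Set.mem_iUnion, Finset.mem_coe]
    exact ⟨ψ, Finset.mem_erase.2 ⟨h4, hfib.mem_toFinset.2 hψ⟩, h3⟩
  let P := minpoly (MvPolynomial (Fin n) ℂ) h
  have hint : IsIntegral (MvPolynomial (Fin n) ℂ) h := Algebra.IsIntegral.isIntegral h
  have hPm : P.Monic := minpoly.monic hint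
  have hdeg : ∀ q : Fin n → ℂ, (P.map (MvPolynomial.eval q)).natDegree = P.natDegree := fun q =>
    hPm.natDegree_map _
  have hd : 0 < P.natDegree := minpoly.natDegree_pos hint
  have hlift : ∀ q : Fin n → ℂ, ∃ ψ : A →ₐ[ℂ] ℂ, (∀ i, ψ (φ (MvPolynomial.X i)) = q i) ∧
      ‖ψ h‖ ^ P.natDegree ≤ ‖MvPolynomial.eval q (P.coeff 0)‖ := fun q => by
    obtain ⟨r, hr, hr'⟩ := exists_root_norm_pow_le (hPm.map (MvPolynomial.eval q)) ((hdeg q).symm ▸ hd) 0
    rw [sub_zero, hdeg q, ← coeff_zero_eq_eval_zero, coeff_map] at hr'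
    let ψ₁ : AdjoinRoot P →ₐ[ℂ] ℂ := AdjoinRoot.liftAlgHom P (MvPolynomial.aeval q) r (by
      rw [← eval_map, show ((MvPolynomial.aeval q : MvPolynomial (Fin n) ℂ →ₐ[ℂ] ℂ) : MvPolynomial (Fin n) ℂ →+* ℂ) = MvPolynomial.eval q from
        RingHom.ext fun f => congrFun (MvPolynomial.aeval_eq_eval q) f]
      exact hr)
    let e := minpoly.equivAdjoin hint
    let B := Algebra.adjoin (MvPolynomial (Fin n) ℂ) ({h} : Set A)
    let ψ₀ : B →ₐ[ℂ] ℂ := ψ₁.comp (e.symm.restrictScalars ℂ).toAlgHom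
    haveI : Algebra.IsIntegral B A := Algebra.IsIntegral.tower_top (R := MvPolynomial (Fin n) ℂ)
    obtain ⟨ψ, hψ⟩ := exists_algHom_extend (B := B) Subtype.val_injective ψ₀
    refine ⟨ψ, fun i => ?_, ?_⟩
    · have h1 := hψ (algebraMap (MvPolynomial (Fin n) ℂ) B (MvPolynomial.X i))
      refine h1.trans ?_
      show ψ₁ (e.symm (algebraMap (MvPolynomial (Fin n) ℂ) B (MvPolynomial.X i))) = q i
      rw [AlgEquiv.commutes, AdjoinRoot.algebraMap_eq]
      exact (AdjoinRoot.liftAlgHom_of (p := P) _ _ _ _).trans (MvPolynomial.aeval_X q i)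
    · have h1 : ψ h = r := by
        refine (hψ ⟨h, Algebra.subset_adjoin rfl⟩).trans ?_
        show ψ₁ (e.symm ⟨h, _⟩) = r
        rw [show e.symm ⟨h, Algebra.subset_adjoin rfl⟩ = AdjoinRoot.root P from
          e.symm_apply_eq.2 (Subtype.ext (by simp [e, P]))]
        simp [ψ₁]
      rw [h1]
      exact hr'
  choose Ψ hΨ hΨh using hlift
  haveI : (𝓝[{q | MvPolynomial.eval q g ≠ 0}] p).NeBot := mem_closure_iff_nhdsWithin_neBot.1 (mem_closure_ne_zero hg p)
  let l : Ultrafilter (Fin n → ℂ) := Ultrafilter.of (𝓝[{q | MvPolynomial.eval q g ≠ 0}] p)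
  have hl : (l : Filter (Fin n → ℂ)) ≤ 𝓝[{q | MvPolynomial.eval q g ≠ 0}] p := Ultrafilter.of_le _
  have hlp : Tendsto (fun q => q) (l : Filter (Fin n → ℂ)) (𝓝 p) := hl.trans nhdsWithin_le_nhds
  have hlim : ∀ b : A, ∃ c : ℂ, Tendsto (fun q => Ψ q b) (l : Filter (Fin n → ℂ)) (𝓝 c) := fun b => by
    let Q := minpoly (MvPolynomial (Fin n) ℂ) b
    let bd : (Fin n → ℂ) → ℝ := fun q => 1 + ∑ i ∈ Finset.range Q.natDegree, ‖MvPolynomial.eval q (Q.coeff i)‖
    have hbd : Continuous bd := continuous_const.add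
      (continuous_finsetSum _ fun i _ => (MvPolynomial.continuous_eval _).norm)
    have h1 : ∀ᶠ q in (l : Filter (Fin n → ℂ)), Ψ q b ∈ Metric.closedBall (0 : ℂ) (bd p + 1) := by
      filter_upwards [(hbd.continuousAt.tendsto.comp hlp).eventually (gt_mem_nhds (lt_add_one (bd p)))] with q hq
      have := norm_root_le ((minpoly.monic (Algebra.IsIntegral.isIntegral b)).map _) (hroot b (Ψ q) q (hΨ q))
      rw [(minpoly.monic (Algebra.IsIntegral.isIntegral b)).natDegree_map] at this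
      simp only [coeff_map] at this
      rw [Metric.mem_closedBall, dist_zero_right]
      exact this.trans (le_of_lt hq)
    obtain ⟨c, -, hc⟩ := (isCompact_closedBall (0 : ℂ) (bd p + 1)).ultrafilter_le_nhds
      (l.map fun q => Ψ q b) (le_principal_iff.2 h1)
    exact ⟨c, hc⟩
  choose L hL using hlim
  let Lhom : A →ₐ[ℂ] ℂ :=
    { toFun := L
      map_one' := tendsto_nhds_unique (hL 1) (by simp only [map_one]; exact tendsto_const_nhds)
      map_mul' := fun x y => tendsto_nhds_unique (hL (x * y)) (by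
        simp only [map_mul]; exact (hL x).mul (hL y))
      map_zero' := tendsto_nhds_unique (hL 0) (by simp only [map_zero]; exact tendsto_const_nhds)
      map_add' := fun x y => tendsto_nhds_unique (hL (x + y)) (by
        simp only [map_add]; exact (hL x).add (hL y))
      commutes' := fun c => tendsto_nhds_unique (hL _) (by
        simp only [AlgHom.commutes]; exact tendsto_const_nhds) }
  have hLp : ∀ i, Lhom (φ (MvPolynomial.X i)) = p i := fun i =>
    tendsto_nhds_unique (hL _) ((((continuous_apply i).tendsto p).comp hlp).congr fun q => (hΨ q i).symm)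
  have hLh : Lhom h = 0 := by
    have h0 : MvPolynomial.eval p (P.coeff 0) = 0 := by
      have := hroot h χ p fun i => rfl
      rw [IsRoot, hh0, ← coeff_zero_eq_eval_zero, coeff_map] at this
      exact this
    have h1 : Tendsto (fun q => ‖Ψ q h‖ ^ P.natDegree) (l : Filter (Fin n → ℂ)) (𝓝 0) := by
      refine squeeze_zero (fun q => by positivity) hΨh ?_
      have := ((MvPolynomial.continuous_eval (P.coeff 0)).norm.continuousAt.tendsto (x := p)).comp hlp
      simpa [h0, Function.comp_def] using this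
    have h2 := tendsto_nhds_unique ((hL h).norm.pow P.natDegree) h1
    show L h = 0
    simpa [hd.ne'] using h2
  rw [← hh Lhom hLp hLh]
  refine mem_closure_of_tendsto (b := (l : Filter (Fin n → ℂ))) (tendsto_pi_nhds.2 hL) ?_
  filter_upwards [hl self_mem_nhdsWithin] with q hq
  refine ⟨Ψ q, fun hz => hq ?_, rfl⟩
  obtain ⟨c, hc⟩ := Ideal.mem_span_singleton'.1 (Ideal.mem_comap.1 hgI)
  have := congrArg (Ψ q) hc
  rw [map_mul, hz, mul_zero] at this
  rw [← hres (Ψ q) q (hΨ q) g]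
  exact this.symm

end AnLib
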