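import Groth.Agent.AnLib.Maps
import Groth.Agent.AnLib.Dense
import Mathlib.RingTheory.Spectrum.Prime.ConstructibleSet
import Mathlib.RingTheory.Ideal.MinimalPrime.Localization
import Mathlib.AlgebraicGeometry.Morphisms.FinitePresentation
import Mathlib.AlgebraicGeometry.Noetherian
import Mathlib.AlgebraicGeometry.Morphisms.UniversallyInjective

/-! Closures of constructible sets are computed on `ℂ`-points. -/

set_option autoImplicit false

open CategoryTheory CategoryTheory.Limits AlgebraicGeometry TopologicalSpace Topology Filter An Opposite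

namespace AnLib

variable {X : Scheme.{0}} [X.Over SC] {Y : Scheme.{0}} [Y.Over SC]

/-- The prime of an affine chart at a point. -/
noncomputable def primeAt {U : X.Opens} (x : Pts X) (hx : x.pt ∈ U) : ↥(Spec Γ(X, U)) :=
  ⟨RingHom.ker (evHom x U hx), RingHom.ker_isPrime _⟩

theorem fromSpec_primeAt {U : X.Opens} (hU : IsAffineOpen U) (x : Pts X) (hx : x.pt ∈ U) :
    hU.fromSpec (primeAt x hx) = x.pt := by
  conv_rhs => rw [An.Pts.pt, ← specMap_evHom x hU hx, Scheme.Hom.comp_apply]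
  refine congrArg hU.fromSpec (PrimeSpectrum.ext ?_)
  show RingHom.ker (evHom x U hx) = Ideal.comap (evHom x U hx) (cpt : PrimeSpectrum ℂ).asIdeal
  rw [show (cpt : PrimeSpectrum ℂ).asIdeal = ⊥ from
    ((Ideal.eq_bot_or_top _).resolve_right (cpt : PrimeSpectrum ℂ).2.ne_top)]
  rfl

theorem isLocallyNoetherian [LocallyOfFiniteType (X ↘ SC)] : IsLocallyNoetherian X :=
  LocallyOfFiniteType.isLocallyNoetherian (X ↘ SC)

/-- A point of the closure of a locally constructible set is a specialization of one of its points,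
together with an open neighbourhood of that point in its closure. -/
theorem exists_piece {U : X.Opens} (hU : IsAffineOpen U) {T : Set X} (hT : IsLocallyConstructible T)
    (x : Pts X) (hx : x.pt ∈ U) (hxT : x.pt ∈ closure T) :
    ∃ (P : Ideal Γ(X, U)) (s : Γ(X, U)), P.IsPrime ∧ P ≤ RingHom.ker (evHom x U hx) ∧ s ∉ P ∧
      ∀ z : PrimeSpectrum Γ(X, U), P ≤ z.asIdeal → s ∉ z.asIdeal → hU.fromSpec z ∈ T := by
  have hT' : IsConstructible (X := PrimeSpectrum Γ(X, U)) (hU.fromSpec ⁻¹' T) :=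
    (hT.preimage_of_isOpenEmbedding hU.fromSpec.isOpenEmbedding).isConstructible
  have hxT' : primeAt x hx ∈ closure (hU.fromSpec ⁻¹' T) := by
    have h1 : primeAt x hx ∈ hU.fromSpec ⁻¹' closure T := by
      rw [Set.mem_preimage, fromSpec_primeAt hU x hx]; exact hxT
    rw [hU.fromSpec.isOpenEmbedding.isOpenMap.preimage_closure_eq_closure_preimage hU.fromSpec.continuous] at h1
    exact h1
  obtain ⟨R', _, f, hf⟩ := PrimeSpectrum.exists_range_eq_of_isConstructible hT'
  replace hxT' : (primeAt x hx : PrimeSpectrum Γ(X, U)) ∈ closure (Set.range (PrimeSpectrum.comap f)) := by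
    rw [hf]; exact hxT'
  rw [PrimeSpectrum.closure_range_comap] at hxT'
  obtain ⟨P, hP, hPx⟩ := Ideal.exists_minimalPrimes_le (J := (primeAt x hx).asIdeal) hxT'
  obtain ⟨Q, hQ, -, hQP⟩ := Ideal.exists_comap_eq_of_mem_minimalPrimes (I := (⊥ : Ideal R')) f P hP
  have hPm : (⟨P, hP.1.1⟩ : PrimeSpectrum Γ(X, U)) ∈ Set.range (PrimeSpectrum.comap f) :=
    ⟨⟨Q, hQ⟩, PrimeSpectrum.ext hQP⟩
  rw [hf] at hPm
  obtain ⟨S, hS⟩ := PrimeSpectrum.exists_constructibleSetData_iff.2 hT'
  rw [← hS] at hPm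
  simp only [PrimeSpectrum.ConstructibleSetData.toSet, Set.mem_iUnion] at hPm
  obtain ⟨C, hC, hC1, hC2⟩ := hPm
  refine ⟨P, C.f, hP.1.1, hPx, fun h => hC2 (by simpa [PrimeSpectrum.mem_zeroLocus] using h), fun z hz hz' => ?_⟩
  have : z ∈ S.toSet := by
    simp only [PrimeSpectrum.ConstructibleSetData.toSet, Set.mem_iUnion]
    refine ⟨C, hC, ?_, fun h => hz' (by simpa [PrimeSpectrum.mem_zeroLocus] using h)⟩
    rw [PrimeSpectrum.mem_zeroLocus] at hC1 ⊢
    exact hC1.trans hz
  rw [hS] at this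
  exact this

/-- Closures of locally constructible sets are computed on `ℂ`-points. -/
theorem preimage_closure [LocallyOfFiniteType (X ↘ SC)] {T : Set X} (hT : IsLocallyConstructible T) :
    (Pts.pt ⁻¹' closure T : Set (Pts X)) = closure (Pts.pt ⁻¹' T) := by
  refine subset_antisymm (fun x hxT => ?_) (Pts.continuous_pt.closure_preimage_subset T)
  obtain ⟨U, hU, hxU, -⟩ := exists_isAffineOpen_mem_and_subset (x := x.pt) (U := ⊤) trivial
  obtain ⟨P, s, hP, hPx, hsP, hT'⟩ := exists_piece hU hT x hxU hxT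
  letI := (strOn U).toAlgebra
  haveI : Algebra.FiniteType ℂ Γ(X, U) := finiteType_strOn hU
  haveI : Algebra.FiniteType ℂ (Γ(X, U) ⧸ P) :=
    .of_surjective (Ideal.Quotient.mkₐ ℂ P) Ideal.Quotient.mk_surjective
  let χ : Γ(X, U) ⧸ P →ₐ[ℂ] ℂ := Ideal.Quotient.liftₐ P
    ⟨evHom x U hxU, fun c => ev_strOn x U hxU c⟩ fun a ha => hPx ha
  have hcl := mem_closure_setOf_ne_zero (a := Ideal.Quotient.mk P s)
    (by rwa [Ne, Ideal.Quotient.eq_zero_iff_mem]) χ
  let g : (Γ(X, U) ⧸ P →ₐ[ℂ] ℂ) → Pts X := fun ψ =>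
    ofHom hU (ψ.comp (Ideal.Quotient.mkₐ ℂ P)).toRingHom fun c => AlgHom.commutes (ψ.comp (Ideal.Quotient.mkₐ ℂ P)) c
  rw [mem_closure_iff_nhdsWithin_neBot] at hcl
  let l : Filter (Γ(X, U) ⧸ P →ₐ[ℂ] ℂ) :=
    comap (fun ψ => (ψ : Γ(X, U) ⧸ P → ℂ)) (𝓝 (χ : Γ(X, U) ⧸ P → ℂ)) ⊓ 𝓟 {ψ | ψ (Ideal.Quotient.mk P s) ≠ 0}
  haveI : l.NeBot := by
    rw [← map_neBot_iff fun ψ : Γ(X, U) ⧸ P →ₐ[ℂ] ℂ => (ψ : Γ(X, U) ⧸ P → ℂ),
      Filter.push_pull', map_principal]
    exact hcl
  have hg : Tendsto g l (𝓝 x) := by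
    refine tendsto_nhds_of_affine hU hxU (Eventually.of_forall fun ψ => pt_ofHom hU _ _) fun a => ?_
    have h1 : Tendsto (fun ψ : Γ(X, U) ⧸ P →ₐ[ℂ] ℂ => ψ (Ideal.Quotient.mk P a)) l
        (𝓝 (χ (Ideal.Quotient.mk P a))) :=
      (((continuous_apply (Ideal.Quotient.mk P a)).tendsto _).comp tendsto_comap).mono_left inf_le_left
    rw [evOn_eq _ hxU]
    refine (h1.congr fun ψ => ?_)
    rw [evOn_eq _ (pt_ofHom hU _ _)]
    exact (ev_ofHom hU (ψ.comp (Ideal.Quotient.mkₐ ℂ P)).toRingHom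
      (fun c => AlgHom.commutes (ψ.comp (Ideal.Quotient.mkₐ ℂ P)) c) a).symm
  refine mem_closure_of_tendsto hg ?_
  filter_upwards [mem_inf_of_right (mem_principal_self _)] with ψ hψ
  have hp := pt_ofHom hU (ψ.comp (Ideal.Quotient.mkₐ ℂ P)).toRingHom
    fun c => AlgHom.commutes (ψ.comp (Ideal.Quotient.mkₐ ℂ P)) c
  show (g ψ).pt ∈ T
  rw [← fromSpec_primeAt hU (g ψ) hp]
  refine hT' _ (fun a ha => ?_) fun h => hψ ?_
  · show (g ψ).ev U hp a = 0
    refine (ev_ofHom hU _ _ a).trans ?_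
    show ψ (Ideal.Quotient.mk P a) = 0
    rw [Ideal.Quotient.eq_zero_iff_mem.2 ha, map_zero]
  · exact (ev_ofHom hU _ _ s).symm.trans (RingHom.mem_ker.1 h)

theorem compl_isLocallyConstructible {Z : Type*} [TopologicalSpace Z] {T : Set Z} (hT : IsLocallyConstructible T) :
    IsLocallyConstructible Tᶜ := fun x => by
  obtain ⟨U, hU, ho, hc⟩ := hT x
  exact ⟨U, hU, ho, by rw [Set.preimage_compl]; exact hc.compl⟩

theorem isLocallyConstructible_of_isOpen [IsLocallyNoetherian X] {T : Set X} (hT : IsOpen T) :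
    IsLocallyConstructible T := fun x => by
  obtain ⟨U, hU, hxU, -⟩ := exists_isAffineOpen_mem_and_subset (x := x) (U := ⊤) trivial
  refine ⟨U, U.2.mem_nhds hxU, U.2, IsRetrocompact.isConstructible (hT.preimage continuous_subtype_val) ?_⟩
  haveI : IsLocallyNoetherian U.toScheme := isLocallyNoetherian_of_isOpenImmersion U.ι
  haveI : CompactSpace U.toScheme := isCompact_iff_compactSpace.1 hU.isCompact
  haveI : IsNoetherian U.toScheme := {}
  haveI : NoetherianSpace U.toScheme := inferInstance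
  exact fun V _ _ => NoetherianSpace.isCompact (α := U.toScheme) _

/-- A nonempty locally constructible set has a `ℂ`-point, also inside any closed set it meets. -/
theorem exists_pt_mem_constructible [LocallyOfFiniteType (X ↘ SC)] {T Z : Set X} (hT : IsLocallyConstructible T)
    (hZ : IsClosed Z) {y : X} (hyT : y ∈ T) (hyZ : y ∈ Z) : ∃ p : Pts X, p.pt ∈ T ∧ p.pt ∈ Z := by
  obtain ⟨U, hU, hyU, -⟩ := exists_isAffineOpen_mem_and_subset (x := y) (U := ⊤) trivial
  obtain ⟨z, rfl⟩ : y ∈ Set.range hU.fromSpec := by rw [hU.range_fromSpec]; exact hyU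
  have hT' : IsConstructible (X := PrimeSpectrum Γ(X, U)) (hU.fromSpec ⁻¹' T) :=
    (hT.preimage_of_isOpenEmbedding hU.fromSpec.isOpenEmbedding).isConstructible
  obtain ⟨S, hS⟩ := PrimeSpectrum.exists_constructibleSetData_iff.2 hT'
  have hz : z ∈ S.toSet := by rw [hS]; exact hyT
  obtain ⟨C, hC, hz⟩ := Set.mem_iUnion₂.1 (show z ∈ ⋃ C ∈ S, C.toSet from hz)
  have hCS : (C.toSet : Set (PrimeSpectrum Γ(X, U))) ⊆ hU.fromSpec ⁻¹' T := by
    rw [← hS]
    exact fun w hw => Set.mem_biUnion hC hw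
  have hlc : IsLocallyClosed (hU.fromSpec '' (C.toSet ∩ hU.fromSpec ⁻¹' Z)) := by
    refine IsLocallyClosed.image (IsLocallyClosed.inter ?_ (hZ.preimage hU.fromSpec.continuous).isLocallyClosed)
      hU.fromSpec.isOpenEmbedding.isInducing hU.fromSpec.isOpenEmbedding.isOpen_range.isLocallyClosed
    exact (PrimeSpectrum.isClosed_zeroLocus _).isLocallyClosed.inter
      (PrimeSpectrum.isClosed_zeroLocus _).isOpen_compl.isLocallyClosed
  obtain ⟨p, w, ⟨hw1, hw2⟩, hw⟩ := exists_pt_mem (Z := hU.fromSpec '' (C.toSet ∩ hU.fromSpec ⁻¹' Z))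
    ⟨_, Set.mem_image_of_mem hU.fromSpec ⟨hz, hyZ⟩⟩ hlc
  exact ⟨p, hw ▸ hCS hw1, hw ▸ hw2⟩

theorem dense_iff [LocallyOfFiniteType (X ↘ SC)] {T : Set X} (hT : IsLocallyConstructible T) :
    Dense T ↔ Dense (Pts.pt ⁻¹' T : Set (Pts X)) := by
  rw [dense_iff_closure_eq, dense_iff_closure_eq, ← preimage_closure hT]
  refine ⟨fun h => by rw [h]; rfl, fun h => ?_⟩
  haveI : JacobsonSpace X := jacobsonSpace
  refine eq_top_iff.2 ?_
  rw [Set.top_eq_univ, ← closure_closedPoints]
  refine closure_minimal (fun z hz => ?_) isClosed_closure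
  obtain ⟨p, rfl⟩ := exists_pt_eq hz
  exact h.ge (Set.mem_univ p)

theorem isClosed_iff [LocallyOfFiniteType (X ↘ SC)] {T : Set X} (hT : IsLocallyConstructible T) :
    IsClosed T ↔ IsClosed (Pts.pt ⁻¹' T : Set (Pts X)) := by
  refine ⟨fun h => h.preimage Pts.continuous_pt, fun h => ?_⟩
  rw [← closure_subset_iff_isClosed] at h ⊢
  intro y hy
  by_contra hyT
  obtain ⟨p, hp, hp'⟩ := exists_pt_mem_constructible (compl_isLocallyConstructible hT) isClosed_closure hyT hy
  exact hp (h ((preimage_closure hT).le hp'))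

theorem isOpen_iff [LocallyOfFiniteType (X ↘ SC)] {T : Set X} (hT : IsLocallyConstructible T) :
    IsOpen T ↔ IsOpen (Pts.pt ⁻¹' T : Set (Pts X)) := by
  rw [← isClosed_compl_iff, isClosed_iff (compl_isLocallyConstructible hT), Set.preimage_compl, isClosed_compl_iff]

theorem lfp_of_over (f : X ⟶ Y) [f.IsOver SC] [LocallyOfFiniteType (X ↘ SC)] [LocallyOfFiniteType (Y ↘ SC)] :
    LocallyOfFinitePresentation f := by
  haveI := isLocallyNoetherian (X := Y)
  haveI := lft_of_over f
  exact LocallyOfFinitePresentation.iff_locallyOfFiniteType.2 inferInstance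

theorem isLocallyConstructible_range (f : X ⟶ Y) [f.IsOver SC] [LocallyOfFiniteType (X ↘ SC)]
    [LocallyOfFiniteType (Y ↘ SC)] [QuasiCompact f] : IsLocallyConstructible (Set.range f) := by
  haveI := lfp_of_over f
  rw [← Set.image_univ]
  exact f.isLocallyConstructible_image IsLocallyConstructible.univ

theorem surjective_iff (f : X ⟶ Y) [f.IsOver SC] [LocallyOfFiniteType (X ↘ SC)]
    [LocallyOfFiniteType (Y ↘ SC)] [QuasiCompact f] :
    Function.Surjective f ↔ Function.Surjective (Pts.map f) := by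
  rw [← Set.range_eq_univ, ← Set.range_eq_univ, range_map]
  refine ⟨fun h => by rw [h]; rfl, fun h => Set.eq_univ_of_forall fun y => ?_⟩
  by_contra hy
  obtain ⟨p, hp, -⟩ := exists_pt_mem_constructible (compl_isLocallyConstructible (isLocallyConstructible_range f)) isClosed_univ hy trivial
  exact hp (h.ge (Set.mem_univ p))

theorem denseRange_iff (f : X ⟶ Y) [f.IsOver SC] [LocallyOfFiniteType (X ↘ SC)]
    [LocallyOfFiniteType (Y ↘ SC)] [QuasiCompact f] :
    DenseRange f ↔ DenseRange (Pts.map f) := by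
  rw [DenseRange, DenseRange, range_map]
  exact dense_iff (isLocallyConstructible_range f)

theorem injective_iff (f : X ⟶ Y) [f.IsOver SC] [LocallyOfFiniteType (X ↘ SC)]
    [LocallyOfFiniteType (Y ↘ SC)] :
    Function.Injective f ↔ Function.Injective (Pts.map f) := by
  refine ⟨fun h a b hab => pt_injective (h (by rw [← Pts.pt_map, ← Pts.pt_map, hab])), fun h => ?_⟩
  haveI := lft_of_over f
  haveI : LocallyOfFiniteType (pullback f f ↘ SC) := by
    show LocallyOfFiniteType (pullback.fst f f ≫ (X ↘ SC))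
    infer_instance
  haveI : (pullback.diagonal f).IsOver SC := ⟨by
    show pullback.diagonal f ≫ pullback.fst f f ≫ (X ↘ SC) = _
    rw [pullback.diagonal_fst_assoc]⟩
  haveI := isLocallyNoetherian (X := X)
  haveI : QuasiCompact (pullback.diagonal f) := inferInstance
  have hs : Function.Surjective (Pts.map (pullback.diagonal f)) := fun z => by
    refine ⟨Pts.map (pullback.fst f f) z, (isHomeomorph_pullback f f).injective (Subtype.ext (Prod.ext ?_ ?_))⟩
    · exact Subtype.ext (by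
        show (((z.1 ≫ pullback.fst f f) ≫ pullback.diagonal f) ≫ pullback.fst f f) = z.1 ≫ pullback.fst f f
        simp)
    · refine (Subtype.ext ?_).trans (h (An.Pts.map_pullback_condition f f z))
      show (((z.1 ≫ pullback.fst f f) ≫ pullback.diagonal f) ≫ pullback.snd f f) = z.1 ≫ pullback.fst f f
      simp
  haveI : Surjective (pullback.diagonal f) := ⟨(surjective_iff (pullback.diagonal f)).2 hs⟩
  haveI : UniversallyInjective f := (UniversallyInjective.iff_diagonal f).2 inferInstance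
  exact f.injective

theorem discreteTopology_iff [LocallyOfFiniteType (X ↘ SC)] :
    DiscreteTopology X ↔ DiscreteTopology (Pts X) := by
  refine ⟨fun _ => DiscreteTopology.of_continuous_injective Pts.continuous_pt pt_injective, fun _ => ?_⟩
  haveI := isLocallyNoetherian (X := X)
  haveI : JacobsonSpace X := jacobsonSpace
  have hop : ∀ x ∈ closedPoints X, IsOpen ({x} : Set X) := fun x hx => by
    obtain ⟨p, rfl⟩ := exists_pt_eq hx
    have hlc : IsLocallyConstructible ({p.pt}ᶜ : Set X) :=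
      isLocallyConstructible_of_isOpen hx.isOpen_compl
    have h1 := preimage_closure hlc
    rw [← isClosed_compl_iff, ← closure_subset_iff_isClosed]
    intro z hz
    by_contra hzp
    have hzp' : p.pt ∈ closure ({p.pt}ᶜ : Set X) := by
      rwa [Set.notMem_compl_iff.1 hzp] at hz
    have h2 : p ∈ closure (Pts.pt ⁻¹' ({p.pt}ᶜ : Set X)) := h1.le hzp'
    rw [(isClosed_discrete _).closure_eq] at h2
    exact h2 rfl
  have hall : closedPoints X = Set.univ := by
    refine Set.eq_univ_of_forall fun z => ?_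
    by_contra hz
    have ho : IsOpen (closedPoints X) := by
      rw [← Set.biUnion_of_singleton (closedPoints X)]
      exact isOpen_biUnion hop
    obtain ⟨w, hw, hw'⟩ := nonempty_inter_closedPoints ⟨z, hz⟩ ho.isClosed_compl.isLocallyClosed
    exact hw hw'
  rw [discreteTopology_iff_isOpen_singleton]
  exact fun x => hop x (hall.ge (Set.mem_univ x))

end AnLib
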