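import Groth.Agent.AnLib.ConnectedCore
import Groth.Agent.AnLib.Closure
import Mathlib.AlgebraicGeometry.Properties

/-! Connected components of the space of `ℂ`-points. -/

set_option autoImplicit false

open CategoryTheory CategoryTheory.Limits AlgebraicGeometry TopologicalSpace Topology Filter An Opposite

namespace AnLib

variable {X : Scheme.{0}} [X.Over SC]

theorem isPreconnected_affinePart [LocallyOfFiniteType (X ↘ SC)] {U : X.Opens} (hU : IsAffineOpen U) {z : X}
    (hz : z ∈ U) : IsPreconnected {x : Pts X | x.pt ∈ U ∧ z ⤳ x.pt} := by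
  obtain ⟨q, hq⟩ : z ∈ Set.range hU.fromSpec := by rw [hU.range_fromSpec]; exact hz
  let P : Ideal Γ(X, U) := (show PrimeSpectrum Γ(X, U) from q).asIdeal
  haveI : P.IsPrime := (show PrimeSpectrum Γ(X, U) from q).2
  letI := (strOn U).toAlgebra
  haveI : Algebra.FiniteType ℂ Γ(X, U) := finiteType_strOn hU
  haveI : Algebra.FiniteType ℂ (Γ(X, U) ⧸ P) :=
    .of_surjective (Ideal.Quotient.mkₐ ℂ P) Ideal.Quotient.mk_surjective
  let g : (Γ(X, U) ⧸ P →ₐ[ℂ] ℂ) → Pts X := fun ψ =>
    ofHom hU (ψ.comp (Ideal.Quotient.mkₐ ℂ P)).toRingHom fun c => AlgHom.commutes (ψ.comp (Ideal.Quotient.mkₐ ℂ P)) c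
  have hgU : ∀ ψ, (g ψ).pt ∈ U := fun ψ => pt_ofHom hU _ _
  have hgev : ∀ ψ a, (g ψ).ev U (hgU ψ) a = ψ (Ideal.Quotient.mk P a) := fun ψ a => ev_ofHom hU _ _ a
  let S := Set.range fun χ : Γ(X, U) ⧸ P →ₐ[ℂ] ℂ => (χ : Γ(X, U) ⧸ P → ℂ)
  haveI : PreconnectedSpace S := isPreconnected_iff_preconnectedSpace.1 (isPreconnected_range_algHom _)
  let Φ : S → Pts X := fun v => g v.2.choose
  have hΦ : Continuous Φ := continuous_iff_continuousAt.2 fun v => by
    refine tendsto_nhds_of_affine hU (hgU _) (Eventually.of_forall fun w => hgU _) fun a => ?_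
    have hv : ∀ w : S, evOn U a (Φ w) = w.1 (Ideal.Quotient.mk P a) := fun w => by
      rw [evOn_eq _ (hgU _), hgev]
      exact congrFun w.2.choose_spec _
    rw [hv v]
    exact (((continuous_apply _).comp continuous_subtype_val).tendsto v).congr fun w => (hv w).symm
  convert isPreconnected_range hΦ
  ext x
  constructor
  · rintro ⟨hx, hzx⟩
    rw [← hq, ← fromSpec_primeAt hU x hx, hU.fromSpec.isOpenEmbedding.isInducing.specializes_iff] at hzx
    have hle : P ≤ RingHom.ker (evHom x U hx) :=
      (PrimeSpectrum.le_iff_specializes (show PrimeSpectrum Γ(X, U) from q) (primeAt x hx)).2 hzx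
    let ψ : Γ(X, U) ⧸ P →ₐ[ℂ] ℂ :=
      Ideal.Quotient.liftₐ P ⟨evHom x U hx, fun c => ev_strOn x U hx c⟩ fun a ha => hle ha
    refine ⟨⟨_, ψ, rfl⟩, ext_of_ev hU (hgU _) hx fun a => (hgev _ a).trans ?_⟩
    have h1 := congrFun (⟨_, ψ, rfl⟩ : S).2.choose_spec (Ideal.Quotient.mk P a)
    exact h1
  · rintro ⟨v, rfl⟩
    refine ⟨hgU _, ?_⟩
    rw [← hq, ← fromSpec_primeAt hU _ (hgU v.2.choose)]
    refine ((PrimeSpectrum.le_iff_specializes (show PrimeSpectrum Γ(X, U) from q)
      (primeAt (g v.2.choose) (hgU _))).1 fun a ha => ?_).map hU.fromSpec.continuous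
    show (g v.2.choose).ev U (hgU _) a = 0
    rw [hgev, Ideal.Quotient.eq_zero_iff_mem.2 ha, map_zero]

/-- The points specializing from a given point form a connected set. -/
theorem isPreconnected_specializations [LocallyOfFiniteType (X ↘ SC)] (z : X) :
    IsPreconnected {x : Pts X | z ⤳ x.pt} := by
  let ι := {U : X.Opens // IsAffineOpen U ∧ z ∈ U}
  have hcov : {x : Pts X | z ⤳ x.pt} = ⋃ U : ι, {x : Pts X | x.pt ∈ U.1 ∧ z ⤳ x.pt} := by
    refine Set.Subset.antisymm (fun x hx => ?_) (Set.iUnion_subset fun U x hx => hx.2)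
    obtain ⟨U, hU, hxU, -⟩ := exists_isAffineOpen_mem_and_subset (x := x.pt) (U := ⊤) trivial
    exact Set.mem_iUnion.2 ⟨⟨U, hU, hx.mem_open U.2 hxU⟩, hxU, hx⟩
  rw [hcov]
  refine IsPreconnected.iUnion_of_reflTransGen (fun U => isPreconnected_affinePart U.2.1 U.2.2) fun U U' =>
    Relation.ReflTransGen.single ?_
  obtain ⟨x, ⟨hx1, hx2⟩, hx3⟩ := exists_pt_mem (Z := ((U.1 : Set X) ∩ U'.1) ∩ closure {z})
    ⟨z, ⟨U.2.2, U'.2.2⟩, subset_closure rfl⟩
    ((U.1.2.inter U'.1.2).isLocallyClosed.inter isClosed_closure.isLocallyClosed)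
  exact ⟨x, ⟨hx1, specializes_iff_mem_closure.2 hx3⟩, hx2, specializes_iff_mem_closure.2 hx3⟩

theorem exists_specialization [LocallyOfFiniteType (X ↘ SC)] (z : X) : ∃ x : Pts X, z ⤳ x.pt := by
  obtain ⟨x, hx⟩ := exists_pt_mem (Z := closure ({z} : Set X)) ⟨z, subset_closure rfl⟩
    isClosed_closure.isLocallyClosed
  exact ⟨x, specializes_iff_mem_closure.2 hx⟩

/-- The connected component of points attached to a point of the scheme. -/
noncomputable def compOf [LocallyOfFiniteType (X ↘ SC)] (z : X) : ConnectedComponents (Pts X) :=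
  ConnectedComponents.mk (exists_specialization z).choose

theorem compOf_eq [LocallyOfFiniteType (X ↘ SC)] {z : X} {x : Pts X} (h : z ⤳ x.pt) :
    compOf z = ConnectedComponents.mk x :=
  ConnectedComponents.coe_eq_coe'.2 ((isPreconnected_specializations z).subset_connectedComponent h
    (exists_specialization z).choose_spec)

theorem compOf_eq_of_specializes [LocallyOfFiniteType (X ↘ SC)] {z w : X} (h : z ⤳ w) : compOf z = compOf w :=
  (compOf_eq (h.trans (exists_specialization w).choose_spec)).trans (compOf_eq (exists_specialization w).choose_spec).symm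

theorem isClosed_of_stable {Y : Type*} [TopologicalSpace Y] [QuasiSober Y] [NoetherianSpace Y] {S : Set Y}
    (hS : ∀ z w : Y, z ⤳ w → (z ∈ S ↔ w ∈ S)) : IsClosed S := by
  have hfin := NoetherianSpace.finite_irreducibleComponents (α := Y)
  have : S = ⋃ Z ∈ {Z ∈ irreducibleComponents Y | (Z ∩ S).Nonempty}, Z := by
    refine Set.Subset.antisymm (fun w hw => ?_) ?_
    · exact Set.mem_biUnion (x := irreducibleComponent w)
        ⟨irreducibleComponent_mem_irreducibleComponents w, w, mem_irreducibleComponent, hw⟩ mem_irreducibleComponent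
    · simp only [Set.iUnion_subset_iff]
      rintro Z ⟨hZ, v, hvZ, hvS⟩ w hw
      have hη := (hZ.1.isGenericPoint_genericPoint (isClosed_of_mem_irreducibleComponents Z hZ))
      exact (hS _ _ (hη.specializes hw)).1 ((hS _ _ (hη.specializes hvZ)).2 hvS)
  rw [this]
  exact (hfin.subset fun Z hZ => hZ.1).isClosed_biUnion fun Z hZ => isClosed_of_mem_irreducibleComponents Z hZ.1

theorem isOpen_compOf_fiber [LocallyOfFiniteType (X ↘ SC)] (S : Set (ConnectedComponents (Pts X))) :
    IsOpen (compOf ⁻¹' S : Set X) := by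
  haveI := isLocallyNoetherian (X := X)
  rw [isOpen_iff_mem_nhds]
  intro z hz
  obtain ⟨U, hU, hzU, -⟩ := exists_isAffineOpen_mem_and_subset (x := z) (U := ⊤) trivial
  haveI : IsLocallyNoetherian U.toScheme := isLocallyNoetherian_of_isOpenImmersion U.ι
  haveI : CompactSpace U.toScheme := isCompact_iff_compactSpace.1 hU.isCompact
  haveI : IsNoetherian U.toScheme := {}
  have ho : IsOpen ((fun w : U.toScheme => compOf w.1) ⁻¹' S) := by
    rw [← isClosed_compl_iff]
    refine isClosed_of_stable fun a b hab => ?_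
    show ¬ _ ↔ ¬ _
    rw [Set.mem_preimage, Set.mem_preimage, compOf_eq_of_specializes (hab.map continuous_subtype_val)]
  exact Filter.mem_of_superset ((U.2.isOpenEmbedding_subtypeVal.isOpenMap _ ho).mem_nhds ⟨⟨z, hzU⟩, hz, rfl⟩)
    (by rintro _ ⟨w, hw, rfl⟩; exact hw)

theorem connectedComponentsMap_bijective [LocallyOfFiniteType (X ↘ SC)] :
    Function.Bijective (Pts.continuous_pt (X := X)).connectedComponentsMap := by
  constructor
  · intro a b hab
    obtain ⟨x, rfl⟩ := ConnectedComponents.surjective_coe a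
    obtain ⟨y, rfl⟩ := ConnectedComponents.surjective_coe b
    have hc : connectedComponent y.pt = connectedComponent x.pt := (ConnectedComponents.coe_eq_coe.1 hab).symm
    have hclopen : IsClopen (compOf ⁻¹' {ConnectedComponents.mk x} : Set X) :=
      ⟨by rw [← isOpen_compl_iff, ← Set.preimage_compl]; exact isOpen_compOf_fiber _, isOpen_compOf_fiber _⟩
    have hx : x.pt ∈ compOf ⁻¹' {ConnectedComponents.mk x} := compOf_eq specializes_rfl
    have hy : y.pt ∈ compOf ⁻¹' {ConnectedComponents.mk x} :=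
      hclopen.connectedComponent_subset hx (hc ▸ mem_connectedComponent)
    exact (hy.symm.trans (compOf_eq specializes_rfl))
  · intro c
    obtain ⟨z, rfl⟩ := ConnectedComponents.surjective_coe c
    obtain ⟨x, hx⟩ := exists_pt_mem (Z := connectedComponent z) ⟨z, mem_connectedComponent⟩
      isClosed_connectedComponent.isLocallyClosed
    exact ⟨ConnectedComponents.mk x, ConnectedComponents.coe_eq_coe'.2 hx⟩

theorem connectedSpace_iff [LocallyOfFiniteType (X ↘ SC)] : ConnectedSpace X ↔ ConnectedSpace (Pts X) := by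
  have h := connectedComponentsMap_bijective (X := X)
  constructor
  · intro _
    haveI : Nonempty (Pts X) := nonempty_iff.1 inferInstance
    haveI : Subsingleton (ConnectedComponents X) := inferInstance
    haveI : Subsingleton (ConnectedComponents (Pts X)) := h.1.subsingleton
    exact { toPreconnectedSpace := preconnectedSpace_iff_connectedComponent.2 fun x => Set.eq_univ_of_forall fun y =>
      ConnectedComponents.coe_eq_coe'.1 (Subsingleton.elim _ _), toNonempty := inferInstance }
  · intro _
    haveI : Nonempty X := nonempty_iff.2 inferInstance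
    haveI : Subsingleton (ConnectedComponents X) := h.2.subsingleton
    exact { toPreconnectedSpace := preconnectedSpace_iff_connectedComponent.2 fun x => Set.eq_univ_of_forall fun y =>
      ConnectedComponents.coe_eq_coe'.1 (Subsingleton.elim _ _), toNonempty := inferInstance }

end AnLib
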