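import Mathlib.FieldTheory.PrimitiveElement
import Mathlib.RingTheory.Localization.Finiteness
import Mathlib.RingTheory.Localization.Integral
import Mathlib.RingTheory.IntegralClosure.IsIntegralClosure.Basic
import Mathlib.FieldTheory.Minpoly.IsIntegrallyClosed
import Mathlib.FieldTheory.Perfect

/-! A finite extension of an integrally closed domain of characteristic zero is generically simple and separable. -/

set_option autoImplicit false

open Polynomial nonZeroDivisors

namespace AnLib

theorem exists_simple_generic {R A : Type} [CommRing R] [IsDomain R] [IsIntegrallyClosed R] [CharZero R]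
    [CommRing A] [IsDomain A] [Algebra R A] [Module.Finite R A] (hinj : Function.Injective (algebraMap R A)) :
    ∃ (θ : A) (h a b : R[X]) (c δ : R), h.Monic ∧ Irreducible h ∧ aeval θ h = 0 ∧
      (∀ q : R[X], aeval θ q = 0 → h ∣ q) ∧
      c ≠ 0 ∧ (∀ x : A, ∃ q : R[X], algebraMap R A c * x = aeval θ q) ∧
      δ ≠ 0 ∧ a * h + b * derivative h = C δ := by
  classical
  haveI : FaithfulSMul R A := (faithfulSMul_iff_algebraMap_injective R A).2 hinj
  let K := FractionRing R
  let S := Algebra.algebraMapSubmonoid A R⁰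
  have hS : S ≤ A⁰ := by
    rintro _ ⟨r, hr, rfl⟩
    exact mem_nonZeroDivisors_of_ne_zero fun h =>
      nonZeroDivisors.ne_zero hr (hinj (h.trans (map_zero _).symm))
  let L := Localization S
  haveI : IsDomain L := IsLocalization.isDomain_of_le_nonZeroDivisors L hS
  haveI : Module.Finite K L := inferInstance
  haveI : CharZero K := charZero_of_injective_algebraMap (IsFractionRing.injective R K)
  have hKinj : Function.Injective (algebraMap K L) := (algebraMap K L).injective
  have hF : IsField L := isField_of_isIntegral_of_isField' (Field.toIsField K)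
  letI : Field L := hF.toField
  obtain ⟨α, hα⟩ := Field.exists_primitive_element K L
  obtain ⟨⟨a₀, ⟨_, r, hr, rfl⟩⟩, hmk⟩ := IsLocalization.surj S α
  have hθint : IsIntegral R a₀ := Algebra.IsIntegral.isIntegral a₀
  have hθ : Algebra.adjoin K {algebraMap A L a₀} = ⊤ := by
    have h1 : Algebra.adjoin K {α} = ⊤ := by
      rw [← IntermediateField.adjoin_simple_toSubalgebra_of_isAlgebraic (Algebra.IsAlgebraic.isAlgebraic α), hα,
        IntermediateField.top_toSubalgebra]
    refine eq_top_iff.2 (h1.ge.trans (Algebra.adjoin_le (Set.singleton_subset_iff.2 ?_)))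
    have hr0 : algebraMap R K r ≠ 0 := fun h =>
      nonZeroDivisors.ne_zero hr (IsFractionRing.injective R K (h.trans (map_zero _).symm))
    have : α = algebraMap K L (algebraMap R K r)⁻¹ * algebraMap A L a₀ := by
      rw [map_inv₀, eq_inv_mul_iff_mul_eq₀ ((map_ne_zero_iff _ hKinj).2 hr0), mul_comm,
        ← IsScalarTower.algebraMap_apply R K L, IsScalarTower.algebraMap_apply R A L]
      exact hmk
    rw [this]
    exact mul_mem (Subalgebra.algebraMap_mem _ _) (Algebra.subset_adjoin rfl)
  have hev : ∀ q : R[X], aeval (algebraMap A L a₀) (q.map (algebraMap R K)) = algebraMap A L (aeval a₀ q) :=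
    fun q => by rw [aeval_map_algebraMap, aeval_algebraMap_apply]
  have hALinj : Function.Injective (algebraMap A L) := IsLocalization.injective L hS
  -- denominators
  obtain ⟨gs, hgs⟩ := (Module.finite_def.1 ‹Module.Finite R A›)
  have hden : ∀ x : A, ∃ (c : R) (q : R[X]), c ≠ 0 ∧ algebraMap R A c * x = aeval a₀ q := fun x => by
    obtain ⟨p, hp⟩ : algebraMap A L x ∈ (aeval (R := K) (algebraMap A L a₀)).range := by
      rw [← Algebra.adjoin_singleton_eq_range_aeval, hθ]; trivial
    obtain ⟨c, hc, hq⟩ := IsLocalization.integerNormalization_spec R⁰ p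
    refine ⟨c, IsLocalization.integerNormalization R⁰ p, nonZeroDivisors.ne_zero hc, hALinj ?_⟩
    rw [map_mul, ← hev, hq, ← IsScalarTower.algebraMap_apply R A L, ← IsScalarTower.algebraMap_smul K c p,
      map_smul, Algebra.smul_def, ← IsScalarTower.algebraMap_apply R K L]
    exact congrArg _ hp.symm
  choose c q hc hq using hden
  obtain ⟨δ, a, b, hδ, hab⟩ : ∃ (δ : R) (a b : R[X]), δ ≠ 0 ∧
      a * minpoly R a₀ + b * derivative (minpoly R a₀) = C δ := by
    have hirr : Irreducible ((minpoly R a₀).map (algebraMap R K)) :=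
      ((minpoly.monic hθint).irreducible_iff_irreducible_map_fraction_map).1 (minpoly.irreducible hθint)
    obtain ⟨A', B', hAB⟩ := hirr.separable
    obtain ⟨c₁, hc₁, hA⟩ := IsLocalization.integerNormalization_spec R⁰ A'
    obtain ⟨c₂, hc₂, hB⟩ := IsLocalization.integerNormalization_spec R⁰ B'
    refine ⟨c₁ * c₂, C c₂ * IsLocalization.integerNormalization R⁰ A',
      C c₁ * IsLocalization.integerNormalization R⁰ B',
      mul_ne_zero (nonZeroDivisors.ne_zero hc₁) (nonZeroDivisors.ne_zero hc₂),
      map_injective (algebraMap R K) (IsFractionRing.injective R K) ?_⟩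
    rw [derivative_map] at hAB
    rw [Polynomial.map_add, Polynomial.map_mul, Polynomial.map_mul, Polynomial.map_mul, Polynomial.map_mul, map_C,
      map_C, map_C, hA, hB, map_mul, C_mul, ← IsScalarTower.algebraMap_smul K c₁ A',
      ← IsScalarTower.algebraMap_smul K c₂ B', smul_eq_C_mul, smul_eq_C_mul]
    linear_combination (C (algebraMap R K c₁) * C (algebraMap R K c₂)) * hAB
  refine ⟨a₀, minpoly R a₀, a, b, ∏ g ∈ gs, c g, δ, minpoly.monic hθint, minpoly.irreducible hθint,
    minpoly.aeval R a₀, fun p hp => minpoly.isIntegrallyClosed_dvd hθint hp,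
    Finset.prod_ne_zero_iff.2 fun g _ => hc g, fun x => ?_, hδ, hab⟩
  have hx : x ∈ Submodule.span R (gs : Set A) := hgs.ge trivial
  induction hx using Submodule.span_induction with
  | mem g hg =>
    refine ⟨C (∏ e ∈ gs.erase g, c e) * q g, ?_⟩
    rw [map_mul, aeval_C, ← hq, ← Finset.mul_prod_erase gs c hg, map_mul]
    ring
  | zero => exact ⟨0, by rw [mul_zero, map_zero]⟩
  | add x y _ _ hx hy =>
    obtain ⟨p, hp⟩ := hx
    obtain ⟨p', hp'⟩ := hy
    exact ⟨p + p', by rw [mul_add, hp, hp', map_add]⟩
  | smul r x _ hx =>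
    obtain ⟨p, hp⟩ := hx
    exact ⟨C r * p, by rw [map_mul, aeval_C, ← hp, Algebra.smul_def]; ring⟩

end AnLib
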