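import Mathlib.Analysis.Complex.Basic
import Mathlib.RingTheory.Etale.StandardEtale
import Mathlib.Algebra.Ring.GeomSum
import Mathlib.Algebra.Polynomial.Derivative

/-! Continuity of evaluations of polynomials, and points of standard étale algebras. -/

set_option autoImplicit false

open Filter Topology Polynomial

namespace AnLib

variable {ι : Type*} {l : Filter ι} {A : Type*} [CommRing A]

theorem tendsto_eval₂ {φ : ι → A →+* ℂ} {φ₀ : A →+* ℂ}
    (h : ∀ a, Tendsto (fun i => φ i a) l (𝓝 (φ₀ a))) {r : ι → ℂ} {r₀ : ℂ} (hr : Tendsto r l (𝓝 r₀)) (p : A[X]) :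
    Tendsto (fun i => p.eval₂ (φ i) (r i)) l (𝓝 (p.eval₂ φ₀ r₀)) := by
  induction p using Polynomial.induction_on' with
  | add p q hp hq => simpa only [eval₂_add] using hp.add hq
  | monomial n a => simpa only [eval₂_monomial] using (h a).mul (hr.pow n)

/-- The difference quotient of a polynomial. -/
theorem exists_slope (p : A[X]) : ∃ q : (A →+* ℂ) → ℂ → ℂ → ℂ,
    (∀ φ r s, p.eval₂ φ r - p.eval₂ φ s = q φ r s * (r - s)) ∧
    (∀ φ r, q φ r r = p.derivative.eval₂ φ r) ∧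
    ∀ {ι : Type} {l : Filter ι} (φ : ι → A →+* ℂ) (φ₀ : A →+* ℂ),
      (∀ a, Tendsto (fun i => φ i a) l (𝓝 (φ₀ a))) → ∀ (r s : ι → ℂ) (r₀ s₀ : ℂ),
        Tendsto r l (𝓝 r₀) → Tendsto s l (𝓝 s₀) →
        Tendsto (fun i => q (φ i) (r i) (s i)) l (𝓝 (q φ₀ r₀ s₀)) := by
  induction p using Polynomial.induction_on' with
  | add p q hp hq =>
    obtain ⟨a, ha1, ha2, ha3⟩ := hp
    obtain ⟨b, hb1, hb2, hb3⟩ := hq
    refine ⟨fun φ r s => a φ r s + b φ r s, fun φ r s => ?_, fun φ r => ?_, ?_⟩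
    · rw [eval₂_add, eval₂_add, add_mul, ← ha1, ← hb1]; ring
    · show a φ r r + b φ r r = _
      rw [ha2, hb2, derivative_add, eval₂_add]
    · intro ι l φ φ₀ h r s r₀ s₀ hr hs
      exact (ha3 φ φ₀ h r s r₀ s₀ hr hs).add (hb3 φ φ₀ h r s r₀ s₀ hr hs)
  | monomial n a =>
    refine ⟨fun φ r s => φ a * ∑ j ∈ Finset.range n, r ^ j * s ^ (n - 1 - j), fun φ r s => ?_, fun φ r => ?_, ?_⟩
    · show _ = φ a * _ * (r - s)
      rw [eval₂_monomial, eval₂_monomial, mul_assoc, geom_sum₂_mul, mul_sub]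
    · show φ a * _ = _
      rw [derivative_monomial, eval₂_monomial, map_mul, map_natCast, geom_sum₂_self]
      ring
    · intro ι l φ φ₀ h r s r₀ s₀ hr hs
      exact (h a).mul (tendsto_finsetSum _ fun j _ => (hr.pow _).mul (hs.pow _))

variable {B : Type*} [CommRing B] [Algebra A B]

theorem exists_hom_standardEtale (P : StandardEtalePresentation A B) (φ : A →+* ℂ) (r : ℂ)
    (h1 : P.f.eval₂ φ r = 0) (h2 : P.g.eval₂ φ r ≠ 0) :
    ∃ χ : B →+* ℂ, χ.comp (algebraMap A B) = φ ∧ χ P.x = r := by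
  letI := φ.toAlgebra
  have h : P.P.HasMap r := ⟨h1, isUnit_iff_ne_zero.2 h2⟩
  refine ⟨((P.P.lift r h).comp P.equivRing.toAlgHom).toRingHom,
    RingHom.ext fun a => ((P.P.lift r h).comp P.equivRing.toAlgHom).commutes a, ?_⟩
  show P.P.lift r h (P.equivRing P.x) = r
  rw [StandardEtalePresentation.equivRing_x, StandardEtalePair.lift_X]

theorem hom_ext_standardEtale (P : StandardEtalePresentation A B) {χ χ' : B →+* ℂ}
    (h : χ.comp (algebraMap A B) = χ'.comp (algebraMap A B)) (hx : χ P.x = χ' P.x) : χ = χ' := by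
  letI := (χ.comp (algebraMap A B)).toAlgebra
  have h1 := P.hom_ext (f₁ := (⟨χ, fun _ => rfl⟩ : B →ₐ[A] ℂ))
    (f₂ := (⟨χ', fun a => (RingHom.congr_fun h a).symm⟩ : B →ₐ[A] ℂ)) hx
  exact congrArg AlgHom.toRingHom h1

theorem eval₂_comp (χ : B →+* ℂ) (p : A[X]) (x : B) :
    p.eval₂ (χ.comp (algebraMap A B)) (χ x) = χ (aeval x p) :=
  (hom_eval₂ p (algebraMap A B) χ x).symm

end AnLib
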