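import Mathlib.Analysis.Complex.Polynomial.Basic
import Mathlib.Algebra.Polynomial.Splits

/-! Elementary bounds on roots of monic complex polynomials. -/

set_option autoImplicit false

open Polynomial

namespace AnLib

theorem exists_root_norm_pow_le {P : ℂ[X]} (hm : P.Monic) (hd : 0 < P.natDegree) (a : ℂ) :
    ∃ r : ℂ, P.IsRoot r ∧ ‖r - a‖ ^ P.natDegree ≤ ‖P.eval a‖ := by
  have hs : P.Splits := IsAlgClosed.splits P
  have hcard : P.roots.card = P.natDegree := hs.natDegree_eq_card_roots.symm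
  obtain ⟨r, hr, hmin⟩ : ∃ r ∈ P.roots, ∀ r' ∈ P.roots, ‖r - a‖ ≤ ‖r' - a‖ := by
    have hne : P.roots.toFinset.Nonempty := by
      rw [← Finset.card_pos]
      obtain ⟨r, hr⟩ := Multiset.card_pos_iff_exists_mem.1 (hcard ▸ hd)
      exact Finset.card_pos.2 ⟨r, Multiset.mem_toFinset.2 hr⟩
    obtain ⟨r, hr, h⟩ := P.roots.toFinset.exists_min_image (fun r => ‖r - a‖) hne
    exact ⟨r, Multiset.mem_toFinset.1 hr, fun r' hr' => h r' (Multiset.mem_toFinset.2 hr')⟩
  refine ⟨r, isRoot_of_mem_roots hr, ?_⟩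
  rw [hs.eval_eq_prod_roots, hm.leadingCoeff, one_mul]
  rw [show ‖(P.roots.map (a - ·)).prod‖ = (P.roots.map fun r => ‖a - r‖).prod by
    rw [show ‖(P.roots.map (a - ·)).prod‖ = normHom (P.roots.map (a - ·)).prod from rfl,
      map_multiset_prod, Multiset.map_map]; rfl]
  calc ‖r - a‖ ^ P.natDegree = (P.roots.map fun _ => ‖r - a‖).prod := by
        rw [Multiset.map_const', Multiset.prod_replicate, hcard]
    _ ≤ _ := Multiset.prod_map_le_prod_map₀ _ _ (fun _ _ => norm_nonneg _)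
        fun r' hr' => (hmin r' hr').trans (le_of_eq (norm_sub_rev _ _))

theorem norm_root_le {P : ℂ[X]} (hm : P.Monic) {r : ℂ} (hr : P.IsRoot r) :
    ‖r‖ ≤ 1 + ∑ i ∈ Finset.range P.natDegree, ‖P.coeff i‖ := by
  rcases le_or_gt ‖r‖ 1 with h | h
  · exact h.trans (le_add_of_nonneg_right (Finset.sum_nonneg fun _ _ => norm_nonneg _))
  have h0 : r ^ P.natDegree = -∑ i ∈ Finset.range P.natDegree, P.coeff i * r ^ i := by
    have h1 : P.eval r = 0 := hr
    rw [eval_eq_sum_range, Finset.sum_range_succ, hm.coeff_natDegree, one_mul] at h1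
    exact eq_neg_of_add_eq_zero_right h1
  have hd : 0 < P.natDegree := by
    by_contra h2
    rw [Nat.eq_zero_of_not_pos h2] at h0
    simp at h0
  have h2 : ‖r‖ ^ P.natDegree ≤ (∑ i ∈ Finset.range P.natDegree, ‖P.coeff i‖) * ‖r‖ ^ (P.natDegree - 1) := by
    rw [← norm_pow, h0, norm_neg, Finset.sum_mul]
    refine (norm_sum_le _ _).trans (Finset.sum_le_sum fun i hi => ?_)
    rw [norm_mul, norm_pow]
    exact mul_le_mul_of_nonneg_left (pow_le_pow_right₀ h.le (by have := Finset.mem_range.1 hi; omega))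
      (norm_nonneg _)
  have h3 : ‖r‖ ^ P.natDegree = ‖r‖ * ‖r‖ ^ (P.natDegree - 1) := by
    rw [← pow_succ', Nat.sub_add_cancel hd]
  rw [h3] at h2
  have := le_of_mul_le_mul_right h2 (pow_pos (zero_lt_one.trans h) _)
  linarith

end AnLib
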