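import Groth.Agent.AnLib.SepHol
import Groth.Agent.AnLib.GenericSimple
import Groth.Agent.AnLib.PolyEv
import Groth.Agent.AnLib.Roots
import Mathlib.RingTheory.NoetherNormalization
import Mathlib.RingTheory.Polynomial.UniqueFactorization
import Mathlib.RingTheory.AdjoinRoot
import Mathlib.Topology.Connected.Clopen

/-! The space of points of an integral affine variety is connected. -/

set_option autoImplicit false

open Filter Topology Polynomial

namespace AnLib

theorem exists_bound_roots {n : ℕ} (h : (MvPolynomial (Fin n) ℂ)[X]) (hm : h.Monic) :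
    ∃ (C : ℝ) (N : ℕ), 0 ≤ C ∧ ∀ (p : Fin n → ℂ) (r : ℂ), h.eval₂ (MvPolynomial.eval p) r = 0 →
      ‖r‖ ≤ C * (1 + ‖p‖) ^ N := by
  choose C N hC hb using fun i : ℕ => exists_bound_mvPolynomial (h.coeff i)
  refine ⟨1 + ∑ i ∈ Finset.range h.natDegree, C i, ∑ i ∈ Finset.range h.natDegree, N i,
    add_nonneg zero_le_one (Finset.sum_nonneg fun i _ => hC i), fun p r hr => ?_⟩
  have hroot : (h.map (MvPolynomial.eval p)).IsRoot r := (eval_map _ _).trans hr
  refine (norm_root_le (hm.map _) hroot).trans ?_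
  rw [hm.natDegree_map, add_mul, one_mul, Finset.sum_mul]
  have h1 : 1 ≤ 1 + ‖p‖ := le_add_of_nonneg_right (norm_nonneg p)
  refine add_le_add (one_le_pow₀ h1) (Finset.sum_le_sum fun i hi => ?_)
  rw [coeff_map]
  exact (hb i p).trans (mul_le_mul_of_nonneg_left (pow_le_pow_right₀ h1
    (Finset.single_le_sum (f := N) (fun _ _ => Nat.zero_le _) hi)) (hC i))

/-- The key algebraic conclusion from a clopen choice of roots. -/
theorem roots_all_or_none {n : ℕ} {h : (MvPolynomial (Fin n) ℂ)[X]} (hm : h.Monic) (hirr : Irreducible h)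
    {D : MvPolynomial (Fin n) ℂ} (hD : D ≠ 0) {δ : MvPolynomial (Fin n) ℂ} {a b : (MvPolynomial (Fin n) ℂ)[X]}
    (hab : a * h + b * derivative h = C δ) (hDδ : ∀ p, MvPolynomial.eval p D ≠ 0 → MvPolynomial.eval p δ ≠ 0)
    (P : (Fin n → ℂ) → ℂ → Prop)
    (hloc : ∀ p₀ r₀, MvPolynomial.eval p₀ D ≠ 0 → h.eval₂ (MvPolynomial.eval p₀) r₀ = 0 →
      ∀ (ρ : (Fin n → ℂ) → ℂ), (∀ p, h.eval₂ (MvPolynomial.eval p) (ρ p) = 0) → Tendsto ρ (𝓝 p₀) (𝓝 r₀) →
        ∀ᶠ p in 𝓝 p₀, (P p (ρ p) ↔ P p₀ r₀)) :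
    (∀ p r, MvPolynomial.eval p D ≠ 0 → h.eval₂ (MvPolynomial.eval p) r = 0 → P p r) ∨
      (∀ p r, MvPolynomial.eval p D ≠ 0 → h.eval₂ (MvPolynomial.eval p) r = 0 → ¬ P p r) := by
  classical
  have hd : 0 < h.natDegree := by
    rcases Nat.eq_zero_or_pos h.natDegree with h0 | h0
    · exact absurd (hm.natDegree_eq_zero.1 h0 ▸ hirr) not_irreducible_one
    · exact h0
  set hp : (Fin n → ℂ) → ℂ[X] := fun p => h.map (MvPolynomial.eval p) with hhp
  have hpm : ∀ p, (hp p).Monic := fun p => hm.map _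
  have hroot : ∀ p r, r ∈ (hp p).roots.toFinset ↔ h.eval₂ (MvPolynomial.eval p) r = 0 := fun p r => by
    rw [Multiset.mem_toFinset, mem_roots (hpm p).ne_zero, IsRoot, eval_map]
  let S : (Fin n → ℂ) → Finset ℂ := fun p => (hp p).roots.toFinset.filter (P p)
  have hder : ∀ p r, MvPolynomial.eval p D ≠ 0 → h.eval₂ (MvPolynomial.eval p) r = 0 →
      (derivative h).eval₂ (MvPolynomial.eval p) r ≠ 0 := fun p r hp' hr h' => hDδ p hp' (by
    have := congrArg (fun q : (MvPolynomial (Fin n) ℂ)[X] => q.eval₂ (MvPolynomial.eval p) r) hab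
    simp only [eval₂_add, eval₂_mul, eval₂_C, hr, h', mul_zero, add_zero] at this
    exact this.symm)
  have hnodup : ∀ p, MvPolynomial.eval p D ≠ 0 → (hp p).roots.toFinset.card = h.natDegree := by
    intro p hp'
    have hsep : (hp p).Separable := by
      refine ⟨C (MvPolynomial.eval p δ)⁻¹ * a.map (MvPolynomial.eval p),
        C (MvPolynomial.eval p δ)⁻¹ * b.map (MvPolynomial.eval p), ?_⟩
      have h1 := congrArg (fun q : (MvPolynomial (Fin n) ℂ)[X] => q.map (MvPolynomial.eval p)) hab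
      simp only [Polynomial.map_add, Polynomial.map_mul, map_C, ← derivative_map] at h1
      rw [mul_assoc, mul_assoc, ← mul_add, h1, ← C_mul, inv_mul_cancel₀ (hDδ p hp'), C_1]
    rw [Multiset.toFinset_card_of_nodup (nodup_roots hsep), ← (IsAlgClosed.splits _).natDegree_eq_card_roots,
      hm.natDegree_map]
  -- root functions
  have hnear : ∀ r₀ p, ∃ r, h.eval₂ (MvPolynomial.eval p) r = 0 ∧
      ‖r - r₀‖ ^ h.natDegree ≤ ‖h.eval₂ (MvPolynomial.eval p) r₀‖ := fun r₀ p => by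
    obtain ⟨r, hr, hle⟩ := exists_root_norm_pow_le (hpm p) (by rwa [hm.natDegree_map]) r₀
    rw [hm.natDegree_map, eval_map] at hle
    exact ⟨r, (eval_map _ _).symm.trans hr, hle⟩
  choose ρ hρ hρle using hnear
  have hev : ∀ (p₀ : Fin n → ℂ) (c : MvPolynomial (Fin n) ℂ),
      Tendsto (fun p => MvPolynomial.eval p c) (𝓝 p₀) (𝓝 (MvPolynomial.eval p₀ c)) :=
    fun p₀ c => (MvPolynomial.continuous_eval c).tendsto p₀
  have hρt : ∀ p₀ r₀, h.eval₂ (MvPolynomial.eval p₀) r₀ = 0 → Tendsto (ρ r₀) (𝓝 p₀) (𝓝 r₀) := by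
    intro p₀ r₀ h0
    rw [tendsto_iff_norm_sub_tendsto_zero]
    have h1 := (tendsto_eval₂ (hev p₀) (r₀ := r₀) tendsto_const_nhds h).norm
    rw [h0, norm_zero] at h1
    have h2 : Tendsto (fun p => ‖ρ r₀ p - r₀‖ ^ h.natDegree) (𝓝 p₀) (𝓝 0) :=
      squeeze_zero (fun p => pow_nonneg (norm_nonneg _) _) (hρle r₀) h1
    rw [Metric.tendsto_nhds] at h2 ⊢
    intro ε hε
    refine (h2 (ε ^ h.natDegree) (pow_pos hε _)).mono fun p hp' => ?_
    rw [dist_zero_right, Real.norm_eq_abs, abs_norm]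
    rw [dist_zero_right, Real.norm_eq_abs, abs_of_nonneg (pow_nonneg (norm_nonneg _) _)] at hp'
    exact lt_of_pow_lt_pow_left₀ _ hε.le hp'
  have hρdiff : ∀ p₀ r₀, MvPolynomial.eval p₀ D ≠ 0 → h.eval₂ (MvPolynomial.eval p₀) r₀ = 0 → ∀ i,
      DifferentiableAt ℂ (fun t => ρ r₀ (Function.update p₀ i t)) (p₀ i) := by
    intro p₀ r₀ hD₀ h0 i
    obtain ⟨q, hq1, hq2, hq3⟩ := exists_slope h
    have hρ0 : ρ r₀ p₀ = r₀ := by
      have := hρle r₀ p₀
      rw [h0, norm_zero] at this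
      exact sub_eq_zero.1 (norm_eq_zero.1 ((pow_eq_zero_iff hd.ne').1 (le_antisymm this (pow_nonneg (norm_nonneg _) _))))
    have hu : Tendsto (fun t => Function.update p₀ i t) (𝓝[≠] (p₀ i)) (𝓝 p₀) :=
      ((Continuous.update continuous_const i continuous_id).tendsto' _ _ (Function.update_eq_self i p₀)).mono_left
        nhdsWithin_le_nhds
    let f : ℂ → ℂ := fun t => h.eval₂ (MvPolynomial.eval (Function.update p₀ i t)) r₀
    have hf : DifferentiableAt ℂ f (p₀ i) := by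
      have hlin : ∀ c : MvPolynomial (Fin n) ℂ, Differentiable ℂ fun t => MvPolynomial.eval (Function.update p₀ i t) c := by
        intro c
        induction c using MvPolynomial.induction_on with
        | C c => simp
        | add c d hc hd' => simp only [map_add]; exact hc.add hd'
        | mul_X c j hc =>
          simp only [map_mul, MvPolynomial.eval_X]
          refine hc.mul ?_
          by_cases hji : j = i
          · subst hji; simp
          · simp [Function.update_of_ne hji]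
      simp only [f, eval₂_eq_sum_range]
      exact DifferentiableAt.fun_sum fun k _ => ((hlin _) (p₀ i)).mul_const _
    have hq0 : q (MvPolynomial.eval p₀) r₀ r₀ ≠ 0 := by rw [hq2]; exact hder p₀ r₀ hD₀ h0
    have hqt : Tendsto (fun t => q (MvPolynomial.eval (Function.update p₀ i t)) (ρ r₀ (Function.update p₀ i t)) r₀)
        (𝓝[≠] (p₀ i)) (𝓝 (q (MvPolynomial.eval p₀) r₀ r₀)) :=
      hq3 (fun t => MvPolynomial.eval (Function.update p₀ i t)) _ (fun c => (hev p₀ c).comp hu)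
        (fun t => ρ r₀ (Function.update p₀ i t)) (fun _ => r₀) r₀ r₀ ((hρt p₀ r₀ h0).comp hu) tendsto_const_nhds
    refine HasDerivAt.differentiableAt (f' := -(deriv f (p₀ i)) / q (MvPolynomial.eval p₀) r₀ r₀) ?_
    rw [hasDerivAt_iff_tendsto_slope]
    refine (((hasDerivAt_iff_tendsto_slope.1 hf.hasDerivAt).neg).div hqt hq0).congr'
      ((hqt.eventually_ne hq0).mono fun t ht => ?_)
    have h1 := hq1 (MvPolynomial.eval (Function.update p₀ i t)) (ρ r₀ (Function.update p₀ i t)) r₀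
    rw [hρ r₀ (Function.update p₀ i t), zero_sub] at h1
    have hf0 : f (p₀ i) = 0 := by simp only [f, Function.update_eq_self]; exact h0
    simp only [Pi.div_apply, slope_def_field, Function.update_eq_self, hρ0, hf0, sub_zero]
    rw [div_eq_iff ht, div_mul_eq_mul_div, ← neg_div, show -f t = _ from h1]
    ring
  -- local product formula
  have hform : ∀ p₀, MvPolynomial.eval p₀ D ≠ 0 → ∀ᶠ p in 𝓝 p₀, ∀ s,
      ∏ r ∈ S p, (s - r) = ∏ r ∈ S p₀, (s - ρ r p) := by
    intro p₀ hD₀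
    have hinj : ∀ᶠ p in 𝓝 p₀, Set.InjOn (fun r => ρ r p) ((hp p₀).roots.toFinset : Set ℂ) := by
      have : ∀ᶠ p in 𝓝 p₀, ∀ r ∈ (hp p₀).roots.toFinset, ∀ r' ∈ (hp p₀).roots.toFinset, r ≠ r' → ρ r p ≠ ρ r' p := by
        rw [Filter.eventually_all_finset]
        intro r hr
        rw [Filter.eventually_all_finset]
        intro r' hr'
        by_cases hrr : r = r'
        · exact Eventually.of_forall fun p h' => absurd hrr h'
        · have h1 := (hρt p₀ r ((hroot _ _).1 hr)).sub (hρt p₀ r' ((hroot _ _).1 hr'))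
          exact (h1.eventually_ne (sub_ne_zero.2 hrr)).mono fun p hp' _ => sub_ne_zero.1 hp'
      exact this.mono fun p hp' r hr r' hr' he => by_contra fun hne => hp' r hr r' hr' hne he
    have hP : ∀ᶠ p in 𝓝 p₀, ∀ r ∈ (hp p₀).roots.toFinset, (P p (ρ r p) ↔ P p₀ r) := by
      rw [Filter.eventually_all_finset]
      exact fun r hr => hloc p₀ r hD₀ ((hroot _ _).1 hr) (ρ r) (hρ r) (hρt p₀ r ((hroot _ _).1 hr))
    filter_upwards [hinj, hP, (hev p₀ D).eventually_ne hD₀] with p hp1 hp2 hp3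
    have himg : (hp p₀).roots.toFinset.image (fun r => ρ r p) = (hp p).roots.toFinset :=
      Finset.eq_of_subset_of_card_le (Finset.image_subset_iff.2 fun r _ => (hroot _ _).2 (hρ r p))
        (by rw [Finset.card_image_of_injOn hp1, hnodup p hp3, hnodup p₀ hD₀])
    intro s
    have hS : S p = (S p₀).image (fun r => ρ r p) := by
      simp only [S]
      rw [← himg, Finset.filter_image]
      exact congrArg (Finset.image _) (Finset.filter_congr hp2)
    rw [hS, Finset.prod_image (hp1.mono (Finset.coe_subset.2 (Finset.filter_subset _ _)))]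
  -- the interpolating polynomial
  let G : (Fin (n + 1) → ℂ) → ℂ := fun w => ∏ r ∈ S (w ∘ Fin.succ), (w 0 - r)
  let D' : MvPolynomial (Fin (n + 1)) ℂ := MvPolynomial.rename Fin.succ D
  have hD' : D' ≠ 0 := fun h' =>
    hD (MvPolynomial.rename_injective _ (Fin.succ_injective n) (h'.trans (map_zero _).symm))
  have hD'e : ∀ w : Fin (n + 1) → ℂ, MvPolynomial.eval w D' = MvPolynomial.eval (w ∘ Fin.succ) D :=
    fun w => MvPolynomial.eval_rename _ _ _
  have hGc : ContinuousOn G {w | MvPolynomial.eval w D' ≠ 0} := by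
    intro w hw
    rw [Set.mem_setOf_eq, hD'e] at hw
    refine ContinuousAt.continuousWithinAt ?_
    have ht : Tendsto (fun v : Fin (n + 1) → ℂ => v ∘ Fin.succ) (𝓝 w) (𝓝 (w ∘ Fin.succ)) :=
      (continuous_pi fun i => continuous_apply (Fin.succ i)).tendsto w
    have h1 : Tendsto (fun v => ∏ r ∈ S (w ∘ Fin.succ), (v 0 - ρ r (v ∘ Fin.succ))) (𝓝 w)
        (𝓝 (∏ r ∈ S (w ∘ Fin.succ), (w 0 - r))) :=
      tendsto_finsetProd _ fun r hr => ((continuous_apply 0).tendsto w).sub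
        ((hρt _ r ((hroot _ _).1 (Finset.mem_filter.1 hr).1)).comp ht)
    exact h1.congr' ((ht.eventually (hform _ hw)).mono fun v hv => (hv (v 0)).symm)
  have hGd : ∀ w, MvPolynomial.eval w D' ≠ 0 → ∀ j,
      DifferentiableAt ℂ (fun t => G (Function.update w j t)) (w j) := by
    intro w hw j
    rw [hD'e] at hw
    refine Fin.cases ?_ (fun i => ?_) j
    · have : (fun t => G (Function.update w 0 t)) = fun t => ∏ r ∈ S (w ∘ Fin.succ), (t - r) := by
        refine _root_.funext fun t => ?_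
        simp only [G, Function.update_self]
        rw [show Function.update w 0 t ∘ Fin.succ = w ∘ Fin.succ from
          _root_.funext fun i => Function.update_of_ne (Fin.succ_ne_zero i) t w]
      rw [this]
      fun_prop
    · have hu : Continuous fun t => Function.update (w ∘ Fin.succ) i t :=
        Continuous.update continuous_const i continuous_id
      have he : (fun t => G (Function.update w i.succ t)) =ᶠ[𝓝 (w i.succ)]
          fun t => ∏ r ∈ S (w ∘ Fin.succ), (w 0 - ρ r (Function.update (w ∘ Fin.succ) i t)) := by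
        have h1 := (hu.tendsto' (w i.succ) _ (Function.update_eq_self i (w ∘ Fin.succ))).eventually (hform _ hw)
        filter_upwards [h1] with t ht
        show ∏ r ∈ S (Function.update w i.succ t ∘ Fin.succ), (Function.update w i.succ t 0 - r) = _
        rw [Function.update_of_ne (Fin.succ_ne_zero i).symm, Function.update_comp_eq_of_injective w
          (Fin.succ_injective n) i t]
        exact ht (w 0)
      refine DifferentiableAt.congr_of_eventuallyEq ?_ he
      exact DifferentiableAt.fun_finsetProd fun r hr =>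
        (differentiableAt_const _).sub (hρdiff _ r hw ((hroot _ _).1 (Finset.mem_filter.1 hr).1) i)
  obtain ⟨C₀, N₀, hC₀, hb₀⟩ := exists_bound_roots h hm
  have hGb : ∀ w, MvPolynomial.eval w D' ≠ 0 →
      ‖G w‖ ≤ (1 + C₀) ^ h.natDegree * (1 + ‖w‖) ^ ((N₀ + 1) * h.natDegree) := by
    intro w _
    have hw : ‖w ∘ Fin.succ‖ ≤ ‖w‖ :=
      (pi_norm_le_iff_of_nonneg (norm_nonneg w)).2 fun i => norm_le_pi_norm w i.succ
    have hB : 1 ≤ (1 + C₀) * (1 + ‖w‖) ^ (N₀ + 1) :=
      one_le_mul_of_one_le_of_one_le (le_add_of_nonneg_right hC₀) (one_le_pow₀ (le_add_of_nonneg_right (norm_nonneg w)))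
    calc ‖G w‖ = ∏ r ∈ S (w ∘ Fin.succ), ‖w 0 - r‖ := norm_prod _ _
      _ ≤ ∏ r ∈ S (w ∘ Fin.succ), ((1 + C₀) * (1 + ‖w‖) ^ (N₀ + 1)) :=
        Finset.prod_le_prod (fun _ _ => norm_nonneg _) fun r hr => by
          refine (norm_sub_le _ _).trans ?_
          have h1 : ‖w 0‖ ≤ (1 + ‖w‖) ^ (N₀ + 1) := by
            refine ((norm_le_pi_norm w 0).trans (le_add_of_nonneg_left zero_le_one)).trans ?_
            exact le_self_pow₀ (le_add_of_nonneg_right (norm_nonneg w)) (by omega)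
          have h2 : ‖r‖ ≤ C₀ * (1 + ‖w‖) ^ (N₀ + 1) := by
            refine (hb₀ _ r ((hroot _ _).1 (Finset.mem_filter.1 hr).1)).trans (mul_le_mul_of_nonneg_left ?_ hC₀)
            exact (pow_le_pow_left₀ (by positivity) (add_le_add le_rfl hw) _).trans
              (pow_le_pow_right₀ (le_add_of_nonneg_right (norm_nonneg w)) (by omega))
          linarith
      _ = ((1 + C₀) * (1 + ‖w‖) ^ (N₀ + 1)) ^ (S (w ∘ Fin.succ)).card := Finset.prod_const _
      _ ≤ ((1 + C₀) * (1 + ‖w‖) ^ (N₀ + 1)) ^ h.natDegree := by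
        refine pow_le_pow_right₀ hB ((Finset.card_filter_le _ _).trans ?_)
        exact (Multiset.toFinset_card_le _).trans ((card_roots' _).trans (hm.natDegree_map _).le)
      _ = _ := by rw [mul_pow, ← pow_mul]
  obtain ⟨Q, hQ⟩ := exists_mvPolynomial_of_growth hD' hGc hGd (by positivity) hGb
  set g := MvPolynomial.finSuccEquiv ℂ n Q
  have hgp : ∀ p, MvPolynomial.eval p D ≠ 0 → g.map (MvPolynomial.eval p) = ∏ r ∈ S p, (X - C r) := by
    intro p hp'
    refine Polynomial.funext fun s => ?_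
    have hs : (Fin.cons s p : Fin (n + 1) → ℂ) ∘ Fin.succ = p := _root_.funext fun i => by simp
    rw [← MvPolynomial.eval_eq_eval_mv_eval' p s Q, hQ _ (by rw [hD'e, hs]; exact hp')]
    simp [G, hs, eval_prod]
  have hzero : ∀ F : MvPolynomial (Fin n) ℂ, (∀ p, MvPolynomial.eval p D ≠ 0 → MvPolynomial.eval p F = 0) → F = 0 := by
    intro F hF
    refine (mul_eq_zero.1 (MvPolynomial.funext (p := D * F) (q := 0) fun p => ?_)).resolve_left hD
    rw [map_mul, map_zero]
    by_cases hp' : MvPolynomial.eval p D = 0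
    · rw [hp', zero_mul]
    · rw [hF p hp', mul_zero]
  have hgm : g.Monic := by
    by_contra hne
    refine hne (sub_eq_zero.1 ?_)
    have : (g.leadingCoeff - 1) * g.leadingCoeff = 0 := by
      refine hzero _ fun p hp' => ?_
      rw [map_mul, map_sub, map_one]
      by_cases h1 : MvPolynomial.eval p g.leadingCoeff = 0
      · rw [h1, mul_zero]
      · have h2 := congrArg leadingCoeff (hgp p hp')
        rw [leadingCoeff_map_of_leadingCoeff_ne_zero _ h1, (monic_prod_X_sub_C _ _).leadingCoeff] at h2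
        rw [h2, sub_self, zero_mul]
    refine (mul_eq_zero.1 this).resolve_right fun h0 => ?_
    obtain ⟨p, hp'⟩ : ∃ p, MvPolynomial.eval p D ≠ 0 := by
      by_contra hall
      push Not at hall
      exact hD (MvPolynomial.funext fun p => by rw [hall p, map_zero])
    have h2 := hgp p hp'
    rw [leadingCoeff_eq_zero.1 h0, Polynomial.map_zero] at h2
    exact (monic_prod_X_sub_C _ _).ne_zero h2.symm
  have hdvd : g ∣ h := by
    rw [← modByMonic_eq_zero_iff_dvd hgm]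
    ext1 k
    rw [coeff_zero]
    refine hzero _ fun p hp' => ?_
    rw [← coeff_map, map_modByMonic _ hgm, hgp p hp']
    have h1 : (∏ r ∈ S p, (X - C r)) ∣ hp p := by
      refine dvd_trans ?_ (prod_multiset_X_sub_C_dvd (hp p))
      refine Multiset.prod_dvd_prod_of_le (Multiset.map_le_map ?_)
      refine (Multiset.le_iff_subset (S p).nodup).2 fun r hr => ?_
      exact Multiset.mem_toFinset.1 (Finset.mem_filter.1 hr).1
    rw [(modByMonic_eq_zero_iff_dvd (monic_prod_X_sub_C _ _)).2 h1, coeff_zero]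
  obtain ⟨q, hq⟩ := hdvd
  rcases hirr.isUnit_or_isUnit hq with hu | hu
  · refine Or.inr fun p r hp' hr hP => ?_
    have h1 := hgp p hp'
    rw [hgm.eq_one_of_isUnit hu, Polynomial.map_one] at h1
    have h2 := congrArg (eval r) h1
    rw [eval_one, eval_prod, Finset.prod_eq_zero (Finset.mem_filter.2 ⟨(hroot p r).2 hr, hP⟩ : r ∈ S p)
      (by simp)] at h2
    exact one_ne_zero h2
  · refine Or.inl fun p r hp' hr => ?_
    have hgh : g = h := eq_of_monic_of_associated hgm hm ⟨hu.unit, hq.symm⟩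
    have h1 := congrArg natDegree (hgp p hp')
    rw [hgh, hm.natDegree_map, natDegree_finsetProd_X_sub_C_eq_card, ← hnodup p hp'] at h1
    have h3 : S p = (hp p).roots.toFinset := Finset.eq_of_subset_of_card_le (Finset.filter_subset _ _) h1.le
    exact (Finset.mem_filter.1 (h3.ge ((hroot p r).2 hr))).2

/-- The space of roots over the good locus is preconnected. -/
theorem isPreconnected_rootSpace {n : ℕ} {h : (MvPolynomial (Fin n) ℂ)[X]} (hm : h.Monic) (hirr : Irreducible h)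
    {D : MvPolynomial (Fin n) ℂ} (hD : D ≠ 0) {δ : MvPolynomial (Fin n) ℂ} {a b : (MvPolynomial (Fin n) ℂ)[X]}
    (hab : a * h + b * derivative h = C δ) (hDδ : ∀ p, MvPolynomial.eval p D ≠ 0 → MvPolynomial.eval p δ ≠ 0) :
    IsPreconnected {w : (Fin n → ℂ) × ℂ | MvPolynomial.eval w.1 D ≠ 0 ∧ h.eval₂ (MvPolynomial.eval w.1) w.2 = 0} := by
  set Z := {w : (Fin n → ℂ) × ℂ | MvPolynomial.eval w.1 D ≠ 0 ∧ h.eval₂ (MvPolynomial.eval w.1) w.2 = 0}
  rw [isPreconnected_iff_preconnectedSpace]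
  refine preconnectedSpace_of_forall_constant fun f hf => ?_
  have hloc : ∀ p₀ r₀, MvPolynomial.eval p₀ D ≠ 0 → h.eval₂ (MvPolynomial.eval p₀) r₀ = 0 →
      ∀ (ρ : (Fin n → ℂ) → ℂ), (∀ p, h.eval₂ (MvPolynomial.eval p) (ρ p) = 0) → Tendsto ρ (𝓝 p₀) (𝓝 r₀) →
        ∀ᶠ p in 𝓝 p₀, ((∃ hw : (p, ρ p) ∈ Z, f ⟨_, hw⟩ = true) ↔ (∃ hw : (p₀, r₀) ∈ Z, f ⟨_, hw⟩ = true)) := by
    intro p₀ r₀ hD₀ hr₀ ρ hρ hρt
    have hρ0 : ρ p₀ = r₀ := tendsto_nhds_unique (tendsto_pure_nhds ρ p₀) (hρt.mono_left (pure_le_nhds p₀))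
    subst hρ0
    let Ω := {p : Fin n → ℂ // MvPolynomial.eval p D ≠ 0}
    let Φ : Ω → Z := fun p => ⟨(p.1, ρ p.1), p.2, hρ p.1⟩
    have hΦ : ContinuousAt Φ ⟨p₀, hD₀⟩ :=
      IsInducing.subtypeVal.continuousAt_iff.2
        ((continuous_subtype_val.continuousAt).prodMk
          (Tendsto.comp hρt (continuous_subtype_val.tendsto (⟨p₀, hD₀⟩ : Ω))))
    have h3 : ∀ᶠ p in 𝓝 (⟨p₀, hD₀⟩ : Ω), f (Φ p) = f (Φ ⟨p₀, hD₀⟩) :=
      (hf.continuousAt.comp hΦ).tendsto.eventually (isOpen_discrete {f (Φ ⟨p₀, hD₀⟩)} |>.mem_nhds rfl)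
    have ho : IsOpen {p : Fin n → ℂ | MvPolynomial.eval p D ≠ 0} :=
      (MvPolynomial.continuous_eval _).isOpen_preimage _ isOpen_ne
    rw [← ho.isOpenEmbedding_subtypeVal.map_nhds_eq ⟨p₀, hD₀⟩, eventually_map]
    refine h3.mono fun p hp' => ⟨fun ⟨_, h'⟩ => ⟨⟨hD₀, hr₀⟩, hp'.symm.trans h'⟩,
      fun ⟨_, h'⟩ => ⟨⟨p.2, hρ p.1⟩, hp'.trans h'⟩⟩
  rcases roots_all_or_none hm hirr hD hab hDδ (fun p r => ∃ hw : (p, r) ∈ Z, f ⟨_, hw⟩ = true) hloc with h1 | h1
  · rintro ⟨w, hw⟩ ⟨w', hw'⟩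
    obtain ⟨_, e⟩ := h1 w.1 w.2 hw.1 hw.2
    obtain ⟨_, e'⟩ := h1 w'.1 w'.2 hw'.1 hw'.2
    exact e.trans e'.symm
  · rintro ⟨w, hw⟩ ⟨w', hw'⟩
    have e := Bool.eq_false_iff.2 fun ht => h1 w.1 w.2 hw.1 hw.2 ⟨hw, ht⟩
    have e' := Bool.eq_false_iff.2 fun ht => h1 w'.1 w'.2 hw'.1 hw'.2 ⟨hw', ht⟩
    exact e.trans e'.symm

/-- Points of a domain of finite type over `ℂ` form a connected set. -/
theorem isPreconnected_range_algHom (A : Type) [CommRing A] [IsDomain A] [Algebra ℂ A] [Algebra.FiniteType ℂ A] :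
    IsPreconnected (Set.range fun χ : A →ₐ[ℂ] ℂ => (χ : A → ℂ)) := by
  classical
  obtain ⟨n, φ, hφi, hφf⟩ := exists_finite_inj_algHom_of_fg ℂ A
  letI := φ.toRingHom.toAlgebra
  haveI : IsScalarTower ℂ (MvPolynomial (Fin n) ℂ) A := IsScalarTower.of_algebraMap_eq fun c => (φ.commutes c).symm
  haveI : Module.Finite (MvPolynomial (Fin n) ℂ) A := hφf
  obtain ⟨θ, h, a, b, c, δ, hm, hirr, hθ, hmin, hc, hcx, hδ, hab⟩ :=
    exists_simple_generic (R := MvPolynomial (Fin n) ℂ) (A := A) hφi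
  let pr : (A →ₐ[ℂ] ℂ) → Fin n → ℂ := fun χ i => χ (algebraMap (MvPolynomial (Fin n) ℂ) A (MvPolynomial.X i))
  have hres : ∀ χ : A →ₐ[ℂ] ℂ, χ.toRingHom.comp (algebraMap (MvPolynomial (Fin n) ℂ) A) = MvPolynomial.eval (pr χ) :=
    fun χ => MvPolynomial.ringHom_ext (fun z => by
      show χ (φ (MvPolynomial.C z)) = _
      rw [MvPolynomial.eval_C, ← MvPolynomial.algebraMap_eq, φ.commutes, χ.commutes]
      rfl) (fun i => (MvPolynomial.eval_X (f := pr χ) i).symm)
  have hval : ∀ (χ : A →ₐ[ℂ] ℂ) (q : (MvPolynomial (Fin n) ℂ)[X]),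
      χ (aeval θ q) = q.eval₂ (MvPolynomial.eval (pr χ)) (χ θ) := fun χ q => by
    rw [← hres χ]; exact hom_eval₂ q _ χ.toRingHom θ
  have hroot : ∀ χ : A →ₐ[ℂ] ℂ, h.eval₂ (MvPolynomial.eval (pr χ)) (χ θ) = 0 := fun χ => by
    rw [← hval, hθ, map_zero]
  choose qx hqx using hcx
  have hform : ∀ (χ : A →ₐ[ℂ] ℂ) (x : A), MvPolynomial.eval (pr χ) c ≠ 0 →
      χ x = (qx x).eval₂ (MvPolynomial.eval (pr χ)) (χ θ) / MvPolynomial.eval (pr χ) c := fun χ x hne => by
    rw [eq_div_iff hne, ← hval, ← hqx, map_mul, ← hres χ, mul_comm]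
    rfl
  have hex : ∀ p r, h.eval₂ (MvPolynomial.eval p) r = 0 → ∃ χ : A →ₐ[ℂ] ℂ, pr χ = p ∧ χ θ = r := by
    intro p r hr
    let B := Algebra.adjoin (MvPolynomial (Fin n) ℂ) ({θ} : Set A)
    let e : AdjoinRoot h →ₐ[MvPolynomial (Fin n) ℂ] B := AdjoinRoot.liftAlgHom h (Algebra.ofId _ B)
      ⟨θ, Algebra.subset_adjoin rfl⟩ (Subtype.ext (by
        have := (B.val.toRingHom.comp (RingHom.id B))
        show B.val (eval₂ (algebraMap _ B) ⟨θ, _⟩ h) = 0
        rw [show B.val (eval₂ (algebraMap _ B) (⟨θ, Algebra.subset_adjoin rfl⟩ : B) h) =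
          eval₂ (algebraMap (MvPolynomial (Fin n) ℂ) A) θ h from hom_eval₂ h _ B.val.toRingHom _]
        exact hθ))
    have he : ∀ q, ((e (AdjoinRoot.mk h q) : B) : A) = aeval θ q := fun q => by
      rw [← AdjoinRoot.aeval_eq, ← aeval_algHom_apply, AdjoinRoot.liftAlgHom_root]
      exact (aeval_algHom_apply B.val _ q).symm
    have her : e (AdjoinRoot.root h) = ⟨θ, Algebra.subset_adjoin rfl⟩ := by simp [e]
    have hbij : Function.Bijective e := by
      refine ⟨(injective_iff_map_eq_zero e).2 fun z hz => ?_, fun z => ?_⟩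
      · obtain ⟨q, rfl⟩ := AdjoinRoot.mk_surjective z
        rw [AdjoinRoot.mk_eq_zero]
        exact hmin q (by rw [← he, hz]; rfl)
      · obtain ⟨q, hq⟩ : (z : A) ∈ (aeval (R := MvPolynomial (Fin n) ℂ) θ).range := by
          rw [← Algebra.adjoin_singleton_eq_range_aeval]; exact z.2
        exact ⟨AdjoinRoot.mk h q, Subtype.ext ((he q).trans hq)⟩
    let E := AlgEquiv.ofBijective e hbij
    let L : AdjoinRoot h →+* ℂ := AdjoinRoot.lift (MvPolynomial.eval p) r hr
    let ψ₀ : B →ₐ[ℂ] ℂ := ⟨L.comp E.symm.toRingEquiv.toRingHom, fun z => by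
      show L (E.symm (algebraMap ℂ B z)) = z
      rw [IsScalarTower.algebraMap_apply ℂ (MvPolynomial (Fin n) ℂ) B, AlgEquiv.commutes,
        AdjoinRoot.algebraMap_eq, AdjoinRoot.lift_of, MvPolynomial.algebraMap_eq, MvPolynomial.eval_C]⟩
    haveI : Algebra.IsIntegral B A := Algebra.IsIntegral.tower_top (MvPolynomial (Fin n) ℂ)
    obtain ⟨χ, hχ⟩ := exists_algHom_extend (A := A) (B := B) Subtype.val_injective ψ₀
    refine ⟨χ, _root_.funext fun i => ?_, ?_⟩
    · refine (hχ (algebraMap (MvPolynomial (Fin n) ℂ) B (MvPolynomial.X i))).trans ?_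
      show L (E.symm (algebraMap _ B (MvPolynomial.X i))) = p i
      rw [AlgEquiv.commutes, AdjoinRoot.algebraMap_eq, AdjoinRoot.lift_of, MvPolynomial.eval_X]
    · refine (hχ ⟨θ, Algebra.subset_adjoin rfl⟩).trans ?_
      show L (E.symm _) = r
      rw [show E.symm ⟨θ, Algebra.subset_adjoin rfl⟩ = AdjoinRoot.root h from
        E.symm_apply_eq.2 her.symm]
      exact AdjoinRoot.lift_root hr
  have hD : c * δ ≠ 0 := mul_ne_zero hc hδ
  let E : Set (A → ℂ) := (fun χ : A →ₐ[ℂ] ℂ => (χ : A → ℂ)) '' {χ | χ (algebraMap _ A (c * δ)) ≠ 0}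
  have hmem : ∀ χ : A →ₐ[ℂ] ℂ, χ (algebraMap _ A (c * δ)) = MvPolynomial.eval (pr χ) (c * δ) :=
    fun χ => RingHom.congr_fun (hres χ) (c * δ)
  have hE : IsPreconnected E := by
    let Ψ : (Fin n → ℂ) × ℂ → A → ℂ := fun w x =>
      (qx x).eval₂ (MvPolynomial.eval w.1) w.2 / MvPolynomial.eval w.1 c
    have hDc : ∀ {p}, MvPolynomial.eval p (c * δ) ≠ 0 → MvPolynomial.eval p c ≠ 0 := fun {p} hp =>
      (mul_ne_zero_iff.1 (map_mul (MvPolynomial.eval p) c δ ▸ hp)).1
    have hΨ : ∀ χ : A →ₐ[ℂ] ℂ, MvPolynomial.eval (pr χ) (c * δ) ≠ 0 → Ψ (pr χ, χ θ) = χ := fun χ hp =>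
      _root_.funext fun x => (hform χ x (hDc hp)).symm
    have hcont : ContinuousOn Ψ {w | MvPolynomial.eval w.1 (c * δ) ≠ 0 ∧ h.eval₂ (MvPolynomial.eval w.1) w.2 = 0} := by
      refine continuousOn_pi.2 fun x w hw => ContinuousAt.continuousWithinAt ?_
      exact (tendsto_eval₂ (fun z => ((MvPolynomial.continuous_eval z).comp continuous_fst).tendsto w)
        (continuous_snd.tendsto w) (qx x)).div (((MvPolynomial.continuous_eval c).comp continuous_fst).tendsto w)
        (hDc hw.1)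
    have hEq : E = Ψ '' {w | MvPolynomial.eval w.1 (c * δ) ≠ 0 ∧ h.eval₂ (MvPolynomial.eval w.1) w.2 = 0} := by
      refine Set.Subset.antisymm ?_ ?_
      · rintro _ ⟨χ, hχ, rfl⟩
        rw [Set.mem_setOf_eq, hmem] at hχ
        exact ⟨(pr χ, χ θ), ⟨hχ, hroot χ⟩, hΨ χ hχ⟩
      · rintro _ ⟨⟨p, r⟩, ⟨hp, hr⟩, rfl⟩
        obtain ⟨χ, e1, e2⟩ := hex p r hr
        subst e1 e2
        exact ⟨χ, by rw [Set.mem_setOf_eq, hmem]; exact hp, (hΨ χ hp).symm⟩
    rw [hEq]
    exact (isPreconnected_rootSpace hm hirr hD hab fun p hp =>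
      (mul_ne_zero_iff.1 (map_mul (MvPolynomial.eval p) c δ ▸ hp)).2).image Ψ hcont
  refine hE.subset_closure (by rintro _ ⟨χ, -, rfl⟩; exact ⟨χ, rfl⟩) ?_
  rintro _ ⟨χ, rfl⟩
  exact mem_closure_setOf_ne_zero ((map_ne_zero_iff (algebraMap (MvPolynomial (Fin n) ℂ) A) hφi).2 hD) χ

end AnLib
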