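import Groth.Agent.AnLib.Proper
import Mathlib.AlgebraicGeometry.ZariskisMainTheorem

/-! Finite morphisms on `ℂ`-points. -/

set_option autoImplicit false

open CategoryTheory CategoryTheory.Limits AlgebraicGeometry TopologicalSpace Topology Filter An Opposite

namespace AnLib

variable {X : Scheme.{0}} [X.Over SC] {Y : Scheme.{0}} [Y.Over SC]

/-- A finite morphism has finite fibres on points. -/
theorem finite_fiber_pts [LocallyOfFiniteType (X ↘ SC)] (f : X ⟶ Y) [f.IsOver SC] [LocallyQuasiFinite f]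
    [QuasiCompact f] (y : Pts Y) : (Pts.map f ⁻¹' {y}).Finite := by
  refine Set.Finite.of_finite_image ((f.finite_preimage_singleton y.pt).subset ?_) pt_injective.injOn
  rintro _ ⟨x, hx, rfl⟩
  show f x.pt = y.pt
  rw [← Pts.pt_map, show Pts.map f x = y from hx]

/-- Finite fibres on points force quasi-finiteness. -/
theorem locallyQuasiFinite_of_finite [LocallyOfFiniteType (X ↘ SC)] [LocallyOfFiniteType (Y ↘ SC)] (f : X ⟶ Y)
    [f.IsOver SC] (h : ∀ y : Pts Y, (Pts.map f ⁻¹' {y}).Finite) : LocallyQuasiFinite f := by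
  haveI := lft_of_over f
  haveI : JacobsonSpace X := jacobsonSpace
  rw [← Scheme.Hom.quasiFiniteLocus_eq_top_iff]
  by_contra hne
  obtain ⟨x, hx⟩ : ((f.quasiFiniteLocus : Set X)ᶜ).Nonempty := by
    rw [Set.nonempty_compl]
    exact fun h' => hne (TopologicalSpace.Opens.ext h')
  obtain ⟨x, hxn, hxc⟩ := nonempty_inter_closedPoints ⟨x, hx⟩ f.quasiFiniteLocus.2.isClosed_compl.isLocallyClosed
  obtain ⟨p, rfl⟩ := exists_pt_eq hxc
  refine hxn (f.mem_quasiFiniteLocus.2 (Scheme.Hom.quasiFiniteAt_iff_isOpen_singleton_asFiber.2 ?_))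
  have hy : IsClosed ({f p.pt} : Set Y) := by
    rw [← Pts.pt_map]; exact isClosed_singleton_pt _
  let F : Set X := Pts.pt '' (Pts.map f ⁻¹' {Pts.map f p})
  have hF : F.Finite := (h _).image _
  have hFc : IsClosed F := by
    rw [← Set.biUnion_of_singleton F]
    refine hF.isClosed_biUnion fun z hz => ?_
    obtain ⟨q, -, rfl⟩ := hz
    exact isClosed_singleton_pt q
  have hsub : f ⁻¹' {f p.pt} ⊆ F := by
    intro z hz
    by_contra hzF
    obtain ⟨w, ⟨hw1, hw2⟩, hwc⟩ := nonempty_inter_closedPoints (Z := f ⁻¹' {f p.pt} \ F) ⟨z, hz, hzF⟩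
      ((hy.preimage f.continuous).isLocallyClosed.inter hFc.isOpen_compl.isLocallyClosed)
    obtain ⟨q, rfl⟩ := exists_pt_eq hwc
    refine hw2 ⟨q, pt_injective ?_, rfl⟩
    rw [Pts.pt_map, Pts.pt_map]
    exact hw1
  haveI : Finite (f ⁻¹' {f p.pt}) := (hF.subset hsub).to_subtype
  haveI : T1Space (f ⁻¹' {f p.pt}) := ⟨fun z => by
    obtain ⟨q, -, hq⟩ := hsub z.2
    have hz : IsClosed ({(z : X)} : Set X) := hq ▸ isClosed_singleton_pt q
    convert hz.preimage (continuous_subtype_val (p := fun w => w ∈ f ⁻¹' {f p.pt})) using 1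
    ext w
    simp [Subtype.ext_iff]⟩
  haveI : DiscreteTopology (f ⁻¹' {f p.pt}) := inferInstance
  rw [← (f.fiberHomeo _).isOpen_image]
  exact isOpen_discrete _

theorem isFinite_iff [LocallyOfFiniteType (X ↘ SC)] [LocallyOfFiniteType (Y ↘ SC)] (f : X ⟶ Y) [f.IsOver SC]
    [QuasiCompact f] :
    IsFinite f ↔ IsProperMap (Pts.map f) ∧ IsSeparatedMap (Pts.map f) ∧
      ∀ y : Pts Y, (Pts.map f ⁻¹' {y}).Finite := by
  refine ⟨fun _ => ⟨isProperMap_of_isProper f, (isSeparatedMap_iff f).1 inferInstance, finite_fiber_pts f⟩,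
    fun ⟨h1, h2, h3⟩ => ?_⟩
  haveI := (isProper_iff f).2 ⟨h1, h2⟩
  haveI := locallyQuasiFinite_of_finite f h3
  exact IsFinite.of_isProper_of_locallyQuasiFinite f

end AnLib
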