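import Groth.Agent.AnLib.EtaleLH
import Groth.Agent.AnLib.Finite
import Mathlib.Topology.Covering.Basic

/-! Finite étale morphisms give finite covering maps. -/

set_option autoImplicit false

open CategoryTheory CategoryTheory.Limits AlgebraicGeometry TopologicalSpace Topology Filter An Opposite

namespace AnLib

theorem isEvenlyCovered_of_restrictPreimage {E B : Type} [TopologicalSpace E] [TopologicalSpace B] {f : E → B}
    (hf : Continuous f) {U : Set B} (hU : IsOpen U) {y : U} {I : Type} [TopologicalSpace I]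
    (h : IsEvenlyCovered (U.restrictPreimage f) y I) : IsEvenlyCovered f y.1 I := by
  obtain ⟨hI, W, hyW, hW, hgW, H, hH⟩ := h
  have ho : IsOpen (Subtype.val '' W) := hU.isOpenEmbedding_subtypeVal.isOpenMap W hW
  have hmem : ∀ e : f ⁻¹' (Subtype.val '' W), e.1 ∈ f ⁻¹' U := fun e => by
    obtain ⟨w, -, hw⟩ := e.2
    exact (hw ▸ w.2 : f e.1 ∈ U)
  have hmem' : ∀ e : f ⁻¹' (Subtype.val '' W), (⟨e.1, hmem e⟩ : f ⁻¹' U) ∈ U.restrictPreimage f ⁻¹' W := fun e => by
    obtain ⟨w, hwW, hw⟩ := e.2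
    have : U.restrictPreimage f ⟨e.1, hmem e⟩ = w := Subtype.ext hw.symm
    show U.restrictPreimage f ⟨e.1, hmem e⟩ ∈ W
    rwa [this]
  let Φ : f ⁻¹' (Subtype.val '' W) ≃ₜ U.restrictPreimage f ⁻¹' W :=
    { toFun := fun e => ⟨⟨e.1, hmem e⟩, hmem' e⟩
      invFun := fun e => ⟨e.1.1, _, e.2, rfl⟩
      left_inv := fun e => rfl
      right_inv := fun e => rfl
      continuous_toFun := Continuous.subtype_mk (Continuous.subtype_mk continuous_subtype_val _) _
      continuous_invFun := Continuous.subtype_mk (continuous_subtype_val.comp continuous_subtype_val) _ }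
  let Ψ : W ≃ₜ (Subtype.val '' W : Set B) :=
    (IsEmbedding.subtypeVal.homeomorphImage W)
  refine ⟨hI, Subtype.val '' W, Set.mem_image_of_mem _ hyW, ho, ho.preimage hf,
    Φ.trans (H.trans (Ψ.prodCongr (Homeomorph.refl I))), fun e => ?_⟩
  exact congrArg Subtype.val (hH (Φ e))

variable {X : Scheme.{0}} [X.Over SC] {Y : Scheme.{0}} [Y.Over SC]

theorem isCoveringMap_of_finite_etale [LocallyOfFiniteType (X ↘ SC)] [LocallyOfFiniteType (Y ↘ SC)]
    (f : X ⟶ Y) [f.IsOver SC] [IsFinite f] [Etale f] : IsCoveringMap (Pts.map f) := by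
  rw [isCoveringMap_iff_isCoveringMapOn_univ]
  intro y _
  obtain ⟨V, hV, hyV, -⟩ := exists_isAffineOpen_mem_and_subset (x := y.pt) (U := ⊤) trivial
  let S : Set (Pts Y) := {z | z.pt ∈ V}
  have hS : IsOpen S := Pts.isOpen_preimage_pt V
  obtain ⟨n, gV, hgV⟩ := exists_gens hV
  haveI : T2Space S := (isEmbedding_ev hV gV hgV).t2Space
  have hsep : IsSeparatedMap (Pts.map f) := (isSeparatedMap_iff f).1 inferInstance
  haveI : T2Space (Pts.map f ⁻¹' S) := ⟨fun a b hab => by
    by_cases h : Pts.map f a.1 = Pts.map f b.1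
    · obtain ⟨s, t, hs, ht, ha, hb, hd⟩ := hsep a.1 b.1 h fun h' => hab (Subtype.ext h')
      exact ⟨_, _, hs.preimage continuous_subtype_val, ht.preimage continuous_subtype_val, ha, hb,
        hd.preimage _⟩
    · exact separated_by_continuous ((Pts.continuous_map f).restrictPreimage (s := S))
        fun h' => h (congrArg Subtype.val h')⟩
  refine (isEvenlyCovered_of_restrictPreimage (Pts.continuous_map f) hS (y := ⟨y, hyV⟩)
    (I := (S.restrictPreimage (Pts.map f) ⁻¹' {(⟨y, hyV⟩ : S)} : Set _)) ?_).to_isEvenlyCovered_preimage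
  refine IsClosedMap.isCoveringMapOn_of_isLocalHomeomorphOn
    (((isProperMap_of_isProper f).isClosedMap).restrictPreimage S) (fun z _ => ?_) ?_ _ (Set.mem_univ _)
  · refine Set.Finite.of_finite_image ((finite_fiber_pts f z.1).subset ?_) Subtype.val_injective.injOn
    rintro _ ⟨a, ha, rfl⟩
    exact congrArg Subtype.val ha
  · rw [Set.preimage_univ, ← isLocalHomeomorph_iff_isLocalHomeomorphOn_univ]
    refine IsLocalHomeomorph.of_comp (g := (Subtype.val : S → Pts Y)) ?_ hS.isOpenEmbedding_subtypeVal.isLocalHomeomorph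
      ((Pts.continuous_map f).restrictPreimage)
    exact (etaleLH X Y f).comp (hS.preimage (Pts.continuous_map f)).isOpenEmbedding_subtypeVal.isLocalHomeomorph

end AnLib
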