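import Groth.Agent.AnLib.Basic
import Mathlib.AlgebraicGeometry.Morphisms.Flat
import Mathlib.AlgebraicGeometry.AffineSpace
import Mathlib.AlgebraicGeometry.PullbackCarrier

/-! Maps of schemes and the induced maps on `ℂ`-points: immersions, fibre products. -/

set_option autoImplicit false

open CategoryTheory CategoryTheory.Limits AlgebraicGeometry TopologicalSpace Topology Filter An Opposite

namespace AnLib

variable {X : Scheme.{0}} [X.Over SC] {Y : Scheme.{0}} [Y.Over SC]

theorem lft_of_over (f : X ⟶ Y) [f.IsOver SC] [LocallyOfFiniteType (X ↘ SC)] : LocallyOfFiniteType f := by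
  haveI : LocallyOfFiniteType (f ≫ (Y ↘ SC)) := by rw [comp_over f]; infer_instance
  exact locallyOfFiniteType_of_comp f (Y ↘ SC)

theorem evOn_app (f : X ⟶ Y) [f.IsOver SC] (U : Y.Opens) (a : Γ(Y, U)) (x : Pts X) :
    evOn (f ⁻¹ᵁ U) (f.app U a) x = evOn U a (Pts.map f x) := by
  by_cases h : (Pts.map f x).pt ∈ U
  · have h' : x.pt ∈ f ⁻¹ᵁ U := by rw [Pts.pt_map] at h; exact h
    rw [evOn_eq _ h, evOn_eq _ h']
    exact (Pts.ev_map f x U h a).symm
  · have h' : x.pt ∉ f ⁻¹ᵁ U := fun h2 => h (by rw [Pts.pt_map]; exact h2)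
    unfold evOn
    rw [dif_neg h', dif_neg h]

theorem evOn_map {U V : X.Opens} (hVU : V ≤ U) (a : Γ(X, U)) (x : Pts X) (hx : x.pt ∈ V) :
    evOn V (X.presheaf.map (homOfLE hVU).op a) x = evOn U a x := by
  rw [evOn_eq _ hx, evOn_eq _ (hVU hx)]
  exact ev_map_le x hVU hx a

theorem strOn_app (f : X ⟶ Y) [f.IsOver SC] (U : Y.Opens) (c : ℂ) :
    f.app U (strOn U c) = strOn (f ⁻¹ᵁ U) c := by
  show f.app U (Y.presheaf.map _ (strHom Y c)) = X.presheaf.map _ (strHom X c)
  rw [← ConcreteCategory.comp_apply, f.naturality, ConcreteCategory.comp_apply]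
  congr 1
  show f.appTop ((Y ↘ SC).appTop _) = (X ↘ SC).appTop _
  rw [← ConcreteCategory.comp_apply, ← Scheme.Hom.comp_appTop, comp_over f]

theorem range_map [LocallyOfFiniteType (X ↘ SC)] [LocallyOfFiniteType (Y ↘ SC)] (f : X ⟶ Y)
    [f.IsOver SC] : Set.range (Pts.map f) = Pts.pt ⁻¹' Set.range f := by
  ext y
  constructor
  · rintro ⟨x, rfl⟩
    exact ⟨x.pt, (Pts.pt_map f x).symm⟩
  · rintro ⟨x₀, hx₀⟩
    obtain ⟨x, hx⟩ := exists_pt_mem (Z := f ⁻¹' {y.pt}) ⟨x₀, hx₀⟩
      ((isClosed_singleton_pt y).preimage f.continuous).isLocallyClosed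
    exact ⟨x, pt_injective ((Pts.pt_map f x).trans hx)⟩

theorem map_injective_of_mono (f : X ⟶ Y) [f.IsOver SC] [Mono f] : Function.Injective (Pts.map f) :=
  fun _ _ h => Subtype.ext ((cancel_mono f).1 (congrArg Subtype.val h))

theorem comap_nhds_le (f : X ⟶ Y) [f.IsOver SC] {x : Pts X} {V : Y.Opens}
    (hV' : IsAffineOpen (f ⁻¹ᵁ V)) (hsurj : Function.Surjective (f.app V)) (hxV : f x.pt ∈ V) :
    comap (Pts.map f) (𝓝 (Pts.map f x)) ≤ 𝓝 x := by
  refine tendsto_id'.1 (tendsto_nhds_of_affine hV' (x := x) hxV ?_ ?_)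
  · have hopen := (Pts.isOpen_preimage_pt V).mem_nhds (show (Pts.map f x) ∈ Pts.pt ⁻¹' (V : Set Y) by
      rw [Set.mem_preimage, Pts.pt_map]; exact hxV)
    filter_upwards [preimage_mem_comap hopen] with z hz
    have hz' : (Pts.map f z).pt ∈ V := hz
    rw [Pts.pt_map] at hz'
    exact hz'
  · intro a
    obtain ⟨b, rfl⟩ := hsurj a
    simp only [id, evOn_app]
    exact (continuousAt_evOn b (show (Pts.map f x).pt ∈ V by rw [Pts.pt_map]; exact hxV)).tendsto.comp
      tendsto_comap

theorem isEmbedding_of_closedImmersion (f : X ⟶ Y)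
    [f.IsOver SC] [IsClosedImmersion f] : Topology.IsEmbedding (Pts.map f) := by
  refine ⟨isInducing_iff_nhds.2 fun x => le_antisymm (Pts.continuous_map f).continuousAt.le_comap ?_,
    map_injective_of_mono f⟩
  obtain ⟨V, hV, hxV, -⟩ := exists_isAffineOpen_mem_and_subset (x := f x.pt) (U := ⊤) trivial
  exact comap_nhds_le f (hV.preimage f) (f.app_surjective V hV) hxV

theorem isEmbedding_of_openImmersion (f : X ⟶ Y)
    [f.IsOver SC] [IsOpenImmersion f] : Topology.IsEmbedding (Pts.map f) := by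
  refine ⟨isInducing_iff_nhds.2 fun x => le_antisymm (Pts.continuous_map f).continuousAt.le_comap ?_,
    map_injective_of_mono f⟩
  obtain ⟨U, hU, hxU, -⟩ := exists_isAffineOpen_mem_and_subset (x := x.pt) (U := ⊤) trivial
  have hV' : IsAffineOpen (f ⁻¹ᵁ f ''ᵁ U) := by rw [f.preimage_image_eq]; exact hU
  haveI := f.isIso_app (f ''ᵁ U) (Set.image_subset_range _ _)
  exact comap_nhds_le f hV' (asIso (f.app (f ''ᵁ U))).commRingCatIsoToRingEquiv.surjective ⟨x.pt, hxU, rfl⟩

theorem isEmbedding_of_immersion (f : X ⟶ Y)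
    [f.IsOver SC] [IsImmersion f] : Topology.IsEmbedding (Pts.map f) := by
  let W := f.coborderRange
  letI : W.toScheme.Over SC := ⟨W.ι ≫ (Y ↘ SC)⟩
  haveI : W.ι.IsOver SC := ⟨rfl⟩
  haveI : f.liftCoborder.IsOver SC := ⟨by
    show f.liftCoborder ≫ W.ι ≫ (Y ↘ SC) = _
    rw [← Category.assoc, f.liftCoborder_ι, comp_over f]⟩
  have : Pts.map f = Pts.map W.ι ∘ Pts.map f.liftCoborder := funext fun x => Subtype.ext (by
    show x.1 ≫ f = (x.1 ≫ f.liftCoborder) ≫ W.ι
    rw [Category.assoc, f.liftCoborder_ι])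
  rw [this]
  exact (isEmbedding_of_openImmersion W.ι).comp (isEmbedding_of_closedImmersion f.liftCoborder)

theorem isOpenEmbedding_of_openImmersion [LocallyOfFiniteType (X ↘ SC)] [LocallyOfFiniteType (Y ↘ SC)]
    (f : X ⟶ Y) [f.IsOver SC] [IsOpenImmersion f] : Topology.IsOpenEmbedding (Pts.map f) := by
  refine ⟨isEmbedding_of_immersion f, ?_⟩
  rw [range_map]
  exact f.isOpenEmbedding.isOpen_range.preimage Pts.continuous_pt

theorem isClosedEmbedding_of_closedImmersion [LocallyOfFiniteType (X ↘ SC)] [LocallyOfFiniteType (Y ↘ SC)]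
    (f : X ⟶ Y) [f.IsOver SC] [IsClosedImmersion f] : Topology.IsClosedEmbedding (Pts.map f) := by
  refine ⟨isEmbedding_of_immersion f, ?_⟩
  rw [range_map]
  exact f.isClosedEmbedding.isClosed_range.preimage Pts.continuous_pt

theorem isLocallyClosed_range [LocallyOfFiniteType (X ↘ SC)] [LocallyOfFiniteType (Y ↘ SC)]
    (f : X ⟶ Y) [f.IsOver SC] [IsImmersion f] : IsLocallyClosed (Set.range (Pts.map f)) := by
  rw [range_map]
  exact f.isLocallyClosed_range.preimage Pts.continuous_pt

/-- The image of a pushout is generated by the two images. -/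
theorem closure_eq_top_of_isPushout {R A B P : CommRingCat.{0}} {f : R ⟶ A} {g : R ⟶ B} {i : A ⟶ P}
    {j : B ⟶ P} (h : IsPushout f g i j) : Subring.closure (Set.range i.hom ∪ Set.range j.hom) = ⊤ := by
  let K := Subring.closure (Set.range i.hom ∪ Set.range j.hom)
  let i' : A ⟶ CommRingCat.of K := CommRingCat.ofHom
    (i.hom.codRestrict K fun a => Subring.subset_closure (Or.inl ⟨a, rfl⟩))
  let j' : B ⟶ CommRingCat.of K := CommRingCat.ofHom
    (j.hom.codRestrict K fun a => Subring.subset_closure (Or.inr ⟨a, rfl⟩))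
  have hc : f ≫ i' = g ≫ j' := CommRingCat.hom_ext (RingHom.ext fun r =>
    Subtype.ext (congrArg (fun k : R ⟶ P => k.hom r) h.w))
  have hd : h.desc i' j' hc ≫ CommRingCat.ofHom K.subtype = 𝟙 P := h.hom_ext
    (by rw [IsPushout.inl_desc_assoc, Category.comp_id]; rfl)
    (by rw [IsPushout.inr_desc_assoc, Category.comp_id]; rfl)
  refine eq_top_iff.2 fun p _ => ?_
  have := congrArg (fun k : P ⟶ P => k.hom p) hd
  simp only [CommRingCat.hom_comp, RingHom.comp_apply, CommRingCat.hom_id, RingHom.id_apply] at this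
  rw [← this]
  exact SetLike.coe_mem _

variable {S : Scheme.{0}} [S.Over SC]

theorem isHomeomorph_pullback [LocallyOfFiniteType (X ↘ SC)] [LocallyOfFiniteType (Y ↘ SC)]
    (f : X ⟶ S) (g : Y ⟶ S) [f.IsOver SC] [g.IsOver SC] :
    IsHomeomorph (fun z : An.Pts (pullback f g) =>
      (⟨(An.Pts.map (pullback.fst f g) z, An.Pts.map (pullback.snd f g) z),
        An.Pts.map_pullback_condition f g z⟩ :
        {q : An.Pts X × An.Pts Y // An.Pts.map f q.1 = An.Pts.map g q.2})) := by
  rw [isHomeomorph_iff_isEmbedding_surjective]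
  refine ⟨⟨isInducing_iff_nhds.2 fun z => le_antisymm ?_ ?_, fun z w h => ?_⟩, fun q => ?_⟩
  · exact (Continuous.subtype_mk ((Pts.continuous_map _).prodMk (Pts.continuous_map _)) _).continuousAt.le_comap
  · let x := Pts.map (pullback.fst f g) z
    let y := Pts.map (pullback.snd f g) z
    have hs : f x.pt = g y.pt := by
      rw [← Pts.pt_map, ← Pts.pt_map, show Pts.map f x = Pts.map g y from An.Pts.map_pullback_condition f g z]
    obtain ⟨W, hW, hxW, -⟩ := exists_isAffineOpen_mem_and_subset (x := f x.pt) (U := ⊤) trivial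
    obtain ⟨U, hU, hxU, eU⟩ := exists_isAffineOpen_mem_and_subset (x := x.pt) (U := f ⁻¹ᵁ W) hxW
    obtain ⟨V, hV, hyV, eV⟩ := exists_isAffineOpen_mem_and_subset (x := y.pt) (U := g ⁻¹ᵁ W)
      (show g y.pt ∈ W from hs ▸ hxW)
    let O : (pullback f g).Opens := pullback.fst f g ⁻¹ᵁ U ⊓ pullback.snd f g ⁻¹ᵁ V
    have H := IsPullback.of_hasPullback f g
    have hO : IsAffineOpen O := by
      haveI : IsAffine U.toScheme := hU
      haveI : IsAffine V.toScheme := hV
      haveI : IsAffine W.toScheme := hW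
      exact IsAffine.of_isPullback (Scheme.Hom.isPullback_resLE H (US := W) (UT := V) (UX := U) eV eU rfl)
    have hpo := (isIso_pushoutSection_iff H eV eU (rfl : O = _)).1
      (isIso_pushoutSection_of_isAffineOpen H eV eU rfl hW hV hU)
    have hzO : z.pt ∈ O := by
      refine ⟨?_, ?_⟩
      · show (pullback.fst f g) z.pt ∈ U
        rw [← Pts.pt_map]; exact hxU
      · show (pullback.snd f g) z.pt ∈ V
        rw [← Pts.pt_map]; exact hyV
    refine tendsto_id'.1 ?_
    have hT := tendsto_comap (f := fun z : An.Pts (pullback f g) =>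
      (⟨(An.Pts.map (pullback.fst f g) z, An.Pts.map (pullback.snd f g) z),
        An.Pts.map_pullback_condition f g z⟩ :
        {q : An.Pts X × An.Pts Y // An.Pts.map f q.1 = An.Pts.map g q.2}))
      (x := 𝓝 ⟨(x, y), An.Pts.map_pullback_condition f g z⟩)
    rw [nhds_subtype_eq_comap, tendsto_comap_iff, nhds_prod_eq, tendsto_prod_iff'] at hT
    obtain ⟨hTx, hTy⟩ := hT
    simp only [Function.comp_def] at hTx hTy
    have hev := (hTx.eventually ((Pts.isOpen_preimage_pt U).mem_nhds hxU)).and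
      (hTy.eventually ((Pts.isOpen_preimage_pt V).mem_nhds hyV))
    rw [nhds_subtype_eq_comap, nhds_prod_eq]
    have hev' : ∀ᶠ w in comap (fun z : An.Pts (pullback f g) =>
      (⟨(An.Pts.map (pullback.fst f g) z, An.Pts.map (pullback.snd f g) z),
        An.Pts.map_pullback_condition f g z⟩ :
        {q : An.Pts X × An.Pts Y // An.Pts.map f q.1 = An.Pts.map g q.2}))
        (comap Subtype.val (𝓝 x ×ˢ 𝓝 y)), w.pt ∈ O := by
      filter_upwards [hev] with w hw
      refine ⟨?_, ?_⟩
      · show (pullback.fst f g) w.pt ∈ U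
        rw [← Pts.pt_map]; exact hw.1
      · show (pullback.snd f g) w.pt ∈ V
        rw [← Pts.pt_map]; exact hw.2
    refine tendsto_nhds_of_affine hO hzO hev' fun a => ?_
    simp only [id]
    have ha : a ∈ (⊤ : Subring Γ(pullback f g, O)) := trivial
    rw [← closure_eq_top_of_isPushout hpo] at ha
    induction ha using Subring.closure_induction with
    | mem b hb =>
      rcases hb with ⟨c, rfl⟩ | ⟨c, rfl⟩
      · have key : ∀ w : Pts (pullback f g), w.pt ∈ O →
            evOn O ((pullback.fst f g).appLE U O inf_le_left c) w =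
              evOn U c (Pts.map (pullback.fst f g) w) := fun w hw => by
          rw [Scheme.Hom.appLE, ConcreteCategory.comp_apply, evOn_map inf_le_left _ w hw, evOn_app]
        rw [key z hzO]
        exact ((continuousAt_evOn c hxU).tendsto.comp hTx).congr' (hev'.mono fun w hw => (key w hw).symm)
      · have key : ∀ w : Pts (pullback f g), w.pt ∈ O →
            evOn O ((pullback.snd f g).appLE V O inf_le_right c) w =
              evOn V c (Pts.map (pullback.snd f g) w) := fun w hw => by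
          rw [Scheme.Hom.appLE, ConcreteCategory.comp_apply, evOn_map inf_le_right _ w hw, evOn_app]
        rw [key z hzO]
        exact ((continuousAt_evOn c hyV).tendsto.comp hTy).congr' (hev'.mono fun w hw => (key w hw).symm)
    | zero =>
      refine (tendsto_const_nhds (x := evOn O 0 z)).congr' (hev'.mono fun w hw => ?_)
      simp only [evOn_eq _ hzO, evOn_eq _ hw]
      exact (map_zero (evHom z O hzO)).trans (map_zero (evHom w O hw)).symm
    | one =>
      refine (tendsto_const_nhds (x := evOn O 1 z)).congr' (hev'.mono fun w hw => ?_)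
      simp only [evOn_eq _ hzO, evOn_eq _ hw]
      exact (map_one (evHom z O hzO)).trans (map_one (evHom w O hw)).symm
    | add b c _ _ hb hc =>
      have := hb.add hc
      rw [evOn_eq _ hzO, evOn_eq _ hzO] at this
      rw [evOn_eq _ hzO, show z.ev O hzO _ = evHom z O hzO _ from rfl, map_add]
      refine this.congr' (hev'.mono fun w hw => ?_)
      simp only [evOn_eq _ hw]
      exact (map_add (evHom w O hw) _ _).symm
    | neg b _ hb =>
      have := hb.neg
      rw [evOn_eq _ hzO] at this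
      rw [evOn_eq _ hzO, show z.ev O hzO _ = evHom z O hzO _ from rfl, map_neg]
      refine this.congr' (hev'.mono fun w hw => ?_)
      simp only [evOn_eq _ hw]
      exact (map_neg (evHom w O hw) _).symm
    | mul b c _ _ hb hc =>
      have := hb.mul hc
      rw [evOn_eq _ hzO, evOn_eq _ hzO] at this
      rw [evOn_eq _ hzO, show z.ev O hzO _ = evHom z O hzO _ from rfl, map_mul]
      refine this.congr' (hev'.mono fun w hw => ?_)
      simp only [evOn_eq _ hw]
      exact (map_mul (evHom w O hw) _ _).symm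
  · have h1 := congrArg (fun q => q.1.1.1) h
    have h2 := congrArg (fun q => q.1.2.1) h
    exact Subtype.ext (pullback.hom_ext h1 h2)
  · obtain ⟨⟨x, y⟩, hq⟩ := q
    refine ⟨⟨pullback.lift x.1 y.1 (congrArg Subtype.val hq), ?_⟩, Subtype.ext (Prod.ext
      (Subtype.ext (pullback.lift_fst _ _ _)) (Subtype.ext (pullback.lift_snd _ _ _)))⟩
    show pullback.lift _ _ _ ≫ pullback.fst f g ≫ (X ↘ SC) = 𝟙 SC
    rw [pullback.lift_fst_assoc, x.2]

theorem affineSpace_gens (n : ℕ) :
    Function.Surjective (MvPolynomial.eval₂Hom (An.strHom (𝔸(Fin n; SC))) (AffineSpace.coord SC)) := by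
  have h := AffineSpace.isoOfIsAffine_hom_appTop (n := Fin n) (S := SC)
  intro a
  have hbij : Function.Surjective ((AffineSpace.isoOfIsAffine (Fin n) SC).hom.appTop).hom :=
    (Scheme.Γ.mapIso (AffineSpace.isoOfIsAffine (Fin n) SC).op).commRingCatIsoToRingEquiv.surjective
  rw [h] at hbij
  obtain ⟨p, hp⟩ := hbij a
  rw [CommRingCat.hom_comp, RingHom.comp_apply] at hp
  obtain ⟨q, hq⟩ : ∃ q : MvPolynomial (Fin n) Γ(SC, ⊤),
      MvPolynomial.eval₂Hom ((𝔸(Fin n; SC) ↘ SC).appTop).hom (AffineSpace.coord SC) q = a := ⟨_, hp⟩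
  refine ⟨MvPolynomial.map (Scheme.ΓSpecIso (CommRingCat.of ℂ)).hom.hom q, ?_⟩
  rw [← hq]
  simp only [MvPolynomial.coe_eval₂Hom, MvPolynomial.eval₂_map]
  congr 1
  refine RingHom.ext fun c => ?_
  show (𝔸(Fin n; SC) ↘ SC).appTop ((Scheme.ΓSpecIso (CommRingCat.of ℂ)).inv
    ((Scheme.ΓSpecIso (CommRingCat.of ℂ)).hom c)) = _
  rw [Iso.hom_inv_id_apply]

theorem surjective_coord (n : ℕ) (v : Fin n → ℂ) :
    ∃ x : Pts (𝔸(Fin n; SC)), ∀ i, x.evTop (AffineSpace.coord SC i) = v i := by
  let w : Fin n → Γ(SC, ⊤) := fun i => (Scheme.ΓSpecIso (CommRingCat.of ℂ)).inv (v i)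
  refine ⟨⟨AffineSpace.homOfVector (𝟙 SC) w, AffineSpace.homOfVector_over _ _⟩, fun i => ?_⟩
  show (Scheme.ΓSpecIso (CommRingCat.of ℂ)).hom (Scheme.Hom.appLE _ ⊤ ⊤ _ _) = v i
  rw [Scheme.Hom.appLE]
  simp only [ConcreteCategory.comp_apply, CategoryTheory.Functor.map_id, homOfLE_refl, op_id]
  show (Scheme.ΓSpecIso (CommRingCat.of ℂ)).hom ((AffineSpace.homOfVector (𝟙 SC) w).appTop (AffineSpace.coord SC i)) = _
  rw [AffineSpace.homOfVector_appTop_coord]
  exact Iso.inv_hom_id_apply (Scheme.ΓSpecIso (CommRingCat.of ℂ)) (v i)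

theorem strOn_top : strOn (⊤ : X.Opens) = strHom X := by
  ext c
  show X.presheaf.map _ (strHom X c) = _
  simp

theorem isClosedEmbedding_evTop [IsAffine X] {n : ℕ} (s : Fin n → Γ(X, ⊤))
    (hs : Function.Surjective (MvPolynomial.eval₂Hom (An.strHom X) s)) :
    Topology.IsClosedEmbedding (fun (x : An.Pts X) (i : Fin n) => x.evTop (s i)) := by
  let e : An.Pts X ≃ₜ {x : Pts X // x.pt ∈ (⊤ : X.Opens)} :=
    { toFun := fun x => ⟨x, trivial⟩, invFun := Subtype.val, left_inv := fun _ => rfl, right_inv := fun _ => rfl,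
      continuous_toFun := continuous_id.subtype_mk _, continuous_invFun := continuous_subtype_val }
  have hs' : Function.Surjective (MvPolynomial.eval₂Hom (strOn (⊤ : X.Opens)) s) := by rw [strOn_top]; exact hs
  have h1 := (isClosedEmbedding_ev (isAffineOpen_top X) s hs').comp e.isClosedEmbedding
  exact h1

end AnLib
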