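import Groth.Agent.AnLib.EtaleLH
import Groth.Agent.AnLib.Maps
import Mathlib.CategoryTheory.Limits.Constructions.LimitsOfProductsAndEqualizers
import Mathlib.CategoryTheory.Sites.CoverPreserving
import Groth.Agent.AnLib.FlatPullback

/-! The comparison morphism of sites. -/

set_option autoImplicit false

open CategoryTheory CategoryTheory.Limits AlgebraicGeometry TopologicalSpace Topology Filter An Opposite

namespace AnLib

variable {X : Scheme.{0}} [X.Over SC] [LocallyOfFiniteType (X ↘ SC)] [Fact EtaleLH]

theorem lft_etale (U : X.Etale) : LocallyOfFiniteType (U.left ↘ SC) := by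
  haveI : Etale U.hom := U.prop
  show LocallyOfFiniteType (U.hom ≫ (X ↘ SC))
  infer_instance

/-- `ε` turns a cartesian square into a cartesian square. -/
theorem isPullback_eps {P U V W : X.Etale} {a : P ⟶ U} {b : P ⟶ V} {f : U ⟶ W} {g : V ⟶ W}
    (h : IsPullback a b f g) : IsPullback ((eps X).map a) ((eps X).map b) ((eps X).map f) ((eps X).map g) := by
  haveI := lft_etale U; haveI := lft_etale V; haveI := lft_etale W; haveI := lft_etale P
  have h' : IsPullback a.left b.left f.left g.left := h.map (Scheme.Etale.forget X ⋙ Over.forget X)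
  letI : (pullback f.left g.left).Over SC := An.pullbackOver f.left g.left
  haveI : h'.isoPullback.inv.IsOver SC := ⟨by
    show h'.isoPullback.inv ≫ (P.left ↘ SC) = pullback.fst f.left g.left ≫ (U.left ↘ SC)
    rw [← comp_over a.left (S := SC), ← Category.assoc, h'.isoPullback_inv_fst]⟩
  have hH := isHomeomorph_pullback f.left g.left
  let Φ := hH.homeomorph.symm
  have hΦ : ∀ q, Pts.map (pullback.fst f.left g.left) (Φ q) = q.1.1 ∧
      Pts.map (pullback.snd f.left g.left) (Φ q) = q.1.2 := fun q =>
    ⟨congrArg (fun q => q.1.1) (hH.homeomorph.apply_symm_apply q),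
      congrArg (fun q => q.1.2) (hH.homeomorph.apply_symm_apply q)⟩
  have hl : ∀ (E : Cl (Pts X)) (s : E ⟶ (eps X).obj U) (t : E ⟶ (eps X).obj V),
      s ≫ (eps X).map f = t ≫ (eps X).map g → ∃ l : E ⟶ (eps X).obj P,
        l ≫ (eps X).map a = s ∧ l ≫ (eps X).map b = t := by
    intro E s t hst
    let pr : E.E → {q : Pts U.left × Pts V.left // Pts.map f.left q.1 = Pts.map g.left q.2} := fun e =>
      ⟨(s.toFun e, t.toFun e), congrFun (congrArg Cl.Hom.toFun hst) e⟩
    have ha : ∀ e, Pts.map a.left (Pts.map h'.isoPullback.inv (Φ (pr e))) = s.toFun e := fun e =>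
      (Subtype.ext (by
        show ((Φ (pr e)).1 ≫ h'.isoPullback.inv) ≫ a.left = (Φ (pr e)).1 ≫ pullback.fst f.left g.left
        rw [Category.assoc, h'.isoPullback_inv_fst])).trans (hΦ (pr e)).1
    have hb : ∀ e, Pts.map b.left (Pts.map h'.isoPullback.inv (Φ (pr e))) = t.toFun e := fun e =>
      (Subtype.ext (by
        show ((Φ (pr e)).1 ≫ h'.isoPullback.inv) ≫ b.left = (Φ (pr e)).1 ≫ pullback.snd f.left g.left
        rw [Category.assoc, h'.isoPullback_inv_snd])).trans (hΦ (pr e)).2
    refine ⟨⟨fun e => Pts.map h'.isoPullback.inv (Φ (pr e)),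
      (Pts.continuous_map _).comp (Φ.continuous.comp (Continuous.subtype_mk (s.continuous.prodMk t.continuous) _)),
      fun e => ?_⟩, Cl.hom_ext (funext ha), Cl.hom_ext (funext hb)⟩
    refine Eq.trans ?_ (s.over e)
    rw [← ha e]
    exact (((eps X).map a).over _).symm
  have hu : ∀ (E : Cl (Pts X)) (l l' : E ⟶ (eps X).obj P), l ≫ (eps X).map a = l' ≫ (eps X).map a →
      l ≫ (eps X).map b = l' ≫ (eps X).map b → l = l' := by
    intro E l l' h1 h2
    refine Cl.hom_ext (funext fun e => Subtype.ext (h'.hom_ext ?_ ?_))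
    · exact congrArg Subtype.val (congrFun (congrArg Cl.Hom.toFun h1) e)
    · exact congrArg Subtype.val (congrFun (congrArg Cl.Hom.toFun h2) e)
  refine ⟨⟨by rw [← Functor.map_comp, ← Functor.map_comp, h.w]⟩, ⟨PullbackCone.IsLimit.mk _
    (fun c => (hl c.pt c.fst c.snd c.condition).choose) (fun c => (hl c.pt c.fst c.snd c.condition).choose_spec.1)
    (fun c => (hl c.pt c.fst c.snd c.condition).choose_spec.2) fun c m hm1 hm2 => ?_⟩⟩
  exact hu _ _ _ (hm1.trans (hl c.pt c.fst c.snd c.condition).choose_spec.1.symm)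
    (hm2.trans (hl c.pt c.fst c.snd c.condition).choose_spec.2.symm)

theorem eps_preservesFiniteLimits : PreservesFiniteLimits (eps X) := by
  haveI : PreservesLimitsOfShape WalkingCospan (eps X) := ⟨fun {K} => by
    haveI : PreservesLimit (cospan (K.map WalkingCospan.Hom.inl) (K.map WalkingCospan.Hom.inr)) (eps X) :=
      preservesLimit_of_preserves_limit_cone (pullbackIsPullback (K.map WalkingCospan.Hom.inl) (K.map WalkingCospan.Hom.inr))
        ((isLimitMapConePullbackConeEquiv _ _).symm (isPullback_eps (IsPullback.of_hasPullback _ _)).isLimit)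
    exact preservesLimit_of_iso_diagram _ (diagramIsoCospan K).symm⟩
  haveI : PreservesLimitsOfShape (Discrete.{0} PEmpty) (eps X) := by
    haveI : PreservesLimit (Functor.empty.{0} X.Etale) (eps X) := by
      have h : IsTerminal (EtCoh.top X) := MorphismProperty.Over.mkIdTerminal (P := EtCoh.etaleMP) X
      exact preservesLimit_of_preserves_limit_cone h
        ((isLimitMapConeEmptyConeEquiv (eps X) (EtCoh.top X)).symm
          (IsTerminal.ofIso (Cl.selfIsTerminal (Pts X)) (epsTopIso X).symm))
    exact preservesLimitsOfShape_pempty_of_preservesTerminal _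
  exact preservesFiniteLimits_of_preservesTerminal_and_pullbacks (eps X)

theorem eps_coverPreserving : CoverPreserving X.smallEtaleTopology (Cl.topology (Pts X)) (eps X) := by
  constructor
  intro U S hS
  rw [show X.smallEtaleTopology = (X.smallPretopology (P := EtCoh.etaleMP) (Q := EtCoh.etaleMP)).toGrothendieck from
    Scheme.smallGrothendieckTopology_eq_toGrothendieck_smallPretopology X le_rfl] at hS
  replace hS := (Scheme.mem_toGrothendieck_smallPretopology U S).1 hS
  intro a
  obtain ⟨V, g, v, hg, -, hv⟩ := hS a.pt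
  haveI := lft_etale U; haveI := lft_etale V
  obtain ⟨b, hb⟩ : a ∈ Set.range (Pts.map g.left) := by rw [range_map]; exact ⟨v, hv⟩
  let G := (eps X).map g
  have hG : IsLocalHomeomorph G.toFun :=
    IsLocalHomeomorph.of_comp (g := ((eps X).obj U).p)
      (by convert ((eps X).obj V).lh using 1; exact funext G.over) ((eps X).obj U).lh G.continuous
  obtain ⟨W, hW, hemb⟩ := isLocalHomeomorph_iff_isOpenEmbedding_restrict.1 hG b
  obtain ⟨W', hWW, ho, hbW⟩ := mem_nhds_iff.1 hW
  refine ⟨_, Cl.restrictOpenι ((eps X).obj V) W' ho ≫ G,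
    Sieve.downward_closed _ (Sieve.image_mem_functorPushforward _ _ hg) _, ?_, ⟨b, hbW⟩, hb⟩
  exact IsOpenEmbedding.of_continuous_injective_isOpenMap (G.continuous.comp continuous_subtype_val)
    (fun p q hpq => Subtype.ext (congrArg (Subtype.val (p := fun z => z ∈ W))
      (hemb.injective (a₁ := ⟨p.1, hWW p.2⟩) (a₂ := ⟨q.1, hWW q.2⟩) hpq)))
    (hG.isOpenMap.comp ho.isOpenEmbedding_subtypeVal.isOpenMap)

theorem epsCont : EpsCont X := by
  haveI := eps_preservesFiniteLimits (X := X)
  haveI : RepresentablyFlat (eps X) := flat_of_preservesFiniteLimits _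
  exact Functor.isContinuous_of_coverPreserving (compatiblePreservingOfFlat _ _) eps_coverPreserving

theorem epsPull_preservesFiniteLimits [EpsCont X] : PreservesFiniteLimits (epsPull X) := by
  haveI := eps_preservesFiniteLimits (X := X)
  haveI : RepresentablyFlat (eps X) := flat_of_preservesFiniteLimits _
  exact sheafPullback_preservesFiniteLimits.{1} (eps X) X.smallEtaleTopology (Cl.topology (Pts X))

end AnLib
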