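import Groth.Agent.AnLib.Closure
import Groth.Agent.AnLib.PolyEv
import Groth.Prelude.Def_AnEps
import Mathlib.AlgebraicGeometry.Morphisms.Etale
import Mathlib.RingTheory.Unramified.LocalStructure

/-! Étale morphisms give local homeomorphisms of `ℂ`-points. -/

set_option autoImplicit false

open CategoryTheory CategoryTheory.Limits AlgebraicGeometry TopologicalSpace Topology Filter An Opposite Polynomial

namespace AnLib

variable {X : Scheme.{0}} [X.Over SC] {Y : Scheme.{0}} [Y.Over SC] (g : X ⟶ Y) [g.IsOver SC]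

omit [X.Over SC] [Y.Over SC] [g.IsOver SC] in
/-- An étale morphism is standard étale on small affines. -/
theorem exists_standardEtale [Etale g] (x : X) : ∃ (V : Y.Opens) (U : X.Opens) (e : U ≤ g ⁻¹ᵁ V),
    IsAffineOpen V ∧ IsAffineOpen U ∧ x ∈ U ∧
      (letI := (g.appLE V U e).hom.toAlgebra; Algebra.IsStandardEtale Γ(Y, V) Γ(X, U)) := by
  obtain ⟨V, hV, hxV, -⟩ := exists_isAffineOpen_mem_and_subset (x := g x) (U := ⊤) trivial
  obtain ⟨U, hU, hxU, e⟩ := exists_isAffineOpen_mem_and_subset (x := x) (U := g ⁻¹ᵁ V) hxV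
  letI := (g.appLE V U e).hom.toAlgebra
  haveI : Algebra.Etale Γ(Y, V) Γ(X, U) := g.etale_appLE hV hU e
  obtain ⟨f, hf, hstd⟩ := Algebra.IsEtaleAt.exists_isStandardEtale (R := Γ(Y, V))
    (hU.primeIdealOf ⟨x, hxU⟩).asIdeal
  have hxf : x ∈ X.basicOpen f := by
    have h1 : hU.primeIdealOf ⟨x, hxU⟩ ∈ PrimeSpectrum.basicOpen f := hf
    have h2 : hU.primeIdealOf ⟨x, hxU⟩ ∈ hU.fromSpec ⁻¹ᵁ X.basicOpen f := by
      rw [hU.fromSpec_preimage_basicOpen]; exact h1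
    have h3 : hU.fromSpec (hU.primeIdealOf ⟨x, hxU⟩) ∈ X.basicOpen f := h2
    rwa [hU.fromSpec_primeIdealOf] at h3
  have e' : X.basicOpen f ≤ g ⁻¹ᵁ V := (X.basicOpen_le f).trans e
  refine ⟨V, X.basicOpen f, e', hV, hU.basicOpen f, hxf, ?_⟩
  letI := (g.appLE V (X.basicOpen f) e').hom.toAlgebra
  haveI : IsScalarTower Γ(Y, V) Γ(X, U) Γ(X, X.basicOpen f) := IsScalarTower.of_algebraMap_eq fun a => by
    show g.appLE V (X.basicOpen f) e' a = X.presheaf.map (homOfLE (X.basicOpen_le f)).op (g.appLE V U e a)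
    rw [← ConcreteCategory.comp_apply, Scheme.Hom.appLE_map]
  haveI := hU.isLocalization_basicOpen f
  exact Algebra.IsStandardEtale.of_equiv
    ((IsLocalization.algEquiv (.powers f) (Localization.Away f) Γ(X, X.basicOpen f)).restrictScalars Γ(Y, V))

/-- Points over an affine open, with their evaluation homomorphisms. -/
theorem tendsto_evHom {V : Y.Opens} {ι : Type} {l : Filter ι} {y : ι → Pts Y} (hy : ∀ i, (y i).pt ∈ V) {y₀ : Pts Y}
    (hy₀ : y₀.pt ∈ V) (h : Tendsto y l (𝓝 y₀)) (a : Γ(Y, V)) :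
    Tendsto (fun i => evHom (y i) V (hy i) a) l (𝓝 (evHom y₀ V hy₀ a)) := by
  have h1 := (continuousAt_evOn a hy₀).tendsto.comp h
  rw [evOn_eq _ hy₀] at h1
  exact h1.congr fun i => evOn_eq a (hy i)

theorem evHom_comp_appLE {V : Y.Opens} {U : X.Opens} (e : U ≤ g ⁻¹ᵁ V) (z : Pts X) (hz : z.pt ∈ U)
    (hz' : (Pts.map g z).pt ∈ V) : (evHom z U hz).comp (g.appLE V U e).hom = evHom (Pts.map g z) V hz' :=
  RingHom.ext fun a => by
    show z.ev U hz (g.appLE V U e a) = (Pts.map g z).ev V hz' a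
    rw [← evOn_eq _ hz, ← evOn_eq _ hz', Scheme.Hom.appLE, ConcreteCategory.comp_apply, evOn_map e _ z hz,
      evOn_app]

omit [X.Over SC] [g.IsOver SC] in
theorem evHom_congr {y y' : Pts Y} (h : y = y') {V : Y.Opens} (hy : y.pt ∈ V) (hy' : y'.pt ∈ V) :
    evHom y V hy = evHom y' V hy' := by subst h; rfl

theorem exists_nhds_injOn [LocallyOfFiniteType (Y ↘ SC)] [Etale g] (x : Pts X) :
    ∃ W ∈ 𝓝 x, Set.InjOn (Pts.map g) W := by
  obtain ⟨V, U, e, hV, hU, hxU, hstd⟩ := exists_standardEtale g x.pt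
  letI := (g.appLE V U e).hom.toAlgebra
  obtain ⟨P⟩ := hstd.nonempty_standardEtalePresentation
  have hmem : ∀ {z : Pts X}, z.pt ∈ U → (Pts.map g z).pt ∈ V := fun {z} hz => by rw [Pts.pt_map]; exact e hz
  obtain ⟨q, hq1, hq2, hq3⟩ := exists_slope P.f
  let S := {z : Pts X // z.pt ∈ U}
  let x' : S := ⟨x, hxU⟩
  let l : Filter (S × S) := 𝓝 (x', x')
  have hl1 : Tendsto (fun i : S × S => i.1.1) l (𝓝 x) :=
    ((continuous_subtype_val.comp continuous_fst).tendsto (x', x'))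
  have hl2 : Tendsto (fun i : S × S => i.2.1) l (𝓝 x) :=
    ((continuous_subtype_val.comp continuous_snd).tendsto (x', x'))
  let φ : S × S → Γ(Y, V) →+* ℂ := fun i => evHom (Pts.map g i.1.1) V (hmem i.1.2)
  have hφ : ∀ a, Tendsto (fun i => φ i a) l (𝓝 (evHom (Pts.map g x) V (hmem hxU) a)) := fun a =>
    tendsto_evHom (fun i => hmem i.1.2) (hmem hxU) (((Pts.continuous_map g).tendsto x).comp hl1) a
  have hne : q (evHom (Pts.map g x) V (hmem hxU)) (evHom x U hxU P.x) (evHom x U hxU P.x) ≠ 0 := by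
    rw [hq2, ← evHom_comp_appLE g e x hxU (hmem hxU)]
    exact fun h => (P.hasMap.isUnit_derivative_f.map (evHom x U hxU)).ne_zero ((eval₂_comp _ _ _).symm.trans h)
  have hev : ∀ᶠ i in l, q (φ i) (evHom i.1.1 U i.1.2 P.x) (evHom i.2.1 U i.2.2 P.x) ≠ 0 :=
    (hq3 φ _ hφ _ _ _ _ (tendsto_evHom (fun i => i.1.2) hxU hl1 P.x)
      (tendsto_evHom (fun i => i.2.2) hxU hl2 P.x)).eventually_ne hne
  rw [show l = 𝓝 x' ×ˢ 𝓝 x' from nhds_prod_eq] at hev
  obtain ⟨W, hW, hWq⟩ := Filter.mem_prod_self_iff.1 hev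
  refine ⟨Subtype.val '' W, ((Pts.isOpen_preimage_pt U).isOpenEmbedding_subtypeVal.isOpenMap.image_mem_nhds hW), ?_⟩
  rintro _ ⟨z, hz, rfl⟩ _ ⟨w, hw, rfl⟩ hzw
  have hq : q (φ (z, w)) (evHom z.1 U z.2 P.x) (evHom w.1 U w.2 P.x) ≠ 0 := hWq (Set.mk_mem_prod hz hw)
  have hcomp : (evHom z.1 U z.2).comp (g.appLE V U e).hom = (evHom w.1 U w.2).comp (g.appLE V U e).hom := by
    rw [evHom_comp_appLE g e z.1 z.2 (hmem z.2), evHom_comp_appLE g e w.1 w.2 (hmem w.2)]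
    exact evHom_congr hzw _ _
  have hr : evHom z.1 U z.2 P.x = evHom w.1 U w.2 P.x := by
    have h1 := hq1 (φ (z, w)) (evHom z.1 U z.2 P.x) (evHom w.1 U w.2 P.x)
    have hz0 : P.f.eval₂ (φ (z, w)) (evHom z.1 U z.2 P.x) = 0 := by
      show P.f.eval₂ (evHom (Pts.map g z.1) V _) _ = 0
      rw [← evHom_comp_appLE g e z.1 z.2 (hmem z.2)]
      exact (eval₂_comp _ _ _).trans (by rw [P.hasMap.1, map_zero])
    have hw0 : P.f.eval₂ (φ (z, w)) (evHom w.1 U w.2 P.x) = 0 := by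
      show P.f.eval₂ (evHom (Pts.map g z.1) V _) _ = 0
      rw [← evHom_comp_appLE g e z.1 z.2 (hmem z.2), hcomp]
      exact (eval₂_comp _ _ _).trans (by rw [P.hasMap.1, map_zero])
    rw [hz0, hw0, sub_zero] at h1
    exact sub_eq_zero.1 ((mul_eq_zero.1 h1.symm).resolve_left hq)
  exact ext_of_ev hU z.2 w.2 (RingHom.congr_fun (hom_ext_standardEtale P hcomp hr))

theorem nhds_le_map [LocallyOfFiniteType (Y ↘ SC)] [Etale g] (x : Pts X) :
    𝓝 (Pts.map g x) ≤ Filter.map (Pts.map g) (𝓝 x) := by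
  obtain ⟨V, U, e, hV, hU, hxU, hstd⟩ := exists_standardEtale g x.pt
  letI := (g.appLE V U e).hom.toAlgebra
  obtain ⟨P⟩ := hstd.nonempty_standardEtalePresentation
  have hy₀ : (Pts.map g x).pt ∈ V := by rw [Pts.pt_map]; exact e hxU
  let T := {y : Pts Y // y.pt ∈ V}
  let y' : T := ⟨Pts.map g x, hy₀⟩
  let φ : T → Γ(Y, V) →+* ℂ := fun y => evHom y.1 V y.2
  set φ₀ := evHom (Pts.map g x) V hy₀ with hφ₀def
  set r₀ := evHom x U hxU P.x
  have hφ₀ : (evHom x U hxU).comp (algebraMap Γ(Y, V) Γ(X, U)) = φ₀ := evHom_comp_appLE g e x hxU hy₀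
  have hφ : ∀ a, Tendsto (fun y => φ y a) (𝓝 y') (𝓝 (φ₀ a)) := fun a =>
    tendsto_evHom (fun y => y.2) hy₀ (continuous_subtype_val.tendsto y') a
  have hf0 : P.f.eval₂ φ₀ r₀ = 0 := by
    rw [← hφ₀]; exact (eval₂_comp _ _ _).trans (by rw [P.hasMap.1, map_zero])
  have hg0 : P.g.eval₂ φ₀ r₀ ≠ 0 := by
    rw [← hφ₀]; exact fun h => (P.hasMap.2.map (evHom x U hxU)).ne_zero ((eval₂_comp _ _ _).symm.trans h)
  have hd : 0 < P.f.natDegree := by
    rcases Nat.eq_zero_or_pos P.f.natDegree with h | h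
    · rw [P.monic_f.natDegree_eq_zero.1 h, eval₂_one] at hf0
      exact absurd hf0 one_ne_zero
    · exact h
  have hroot : ∀ y : T, ∃ r : ℂ, P.f.eval₂ (φ y) r = 0 ∧ ‖r - r₀‖ ^ P.f.natDegree ≤ ‖P.f.eval₂ (φ y) r₀‖ := by
    intro y
    obtain ⟨r, hr, hle⟩ := exists_root_norm_pow_le (P.monic_f.map (φ y))
      (by rwa [P.monic_f.natDegree_map]) r₀
    rw [P.monic_f.natDegree_map, eval_map] at hle
    exact ⟨r, (eval_map _ _).symm.trans hr, hle⟩
  choose r hr0 hrle using hroot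
  have hr : Tendsto r (𝓝 y') (𝓝 r₀) := by
    rw [tendsto_iff_norm_sub_tendsto_zero]
    have h1 : Tendsto (fun y => ‖P.f.eval₂ (φ y) r₀‖) (𝓝 y') (𝓝 0) := by
      have := (tendsto_eval₂ hφ tendsto_const_nhds P.f (r₀ := r₀)).norm
      rwa [hf0, norm_zero] at this
    have h2 : Tendsto (fun y => ‖r y - r₀‖ ^ P.f.natDegree) (𝓝 y') (𝓝 0) :=
      squeeze_zero (fun y => pow_nonneg (norm_nonneg _) _) hrle h1
    rw [Metric.tendsto_nhds] at h2 ⊢
    intro ε hε
    refine (h2 (ε ^ P.f.natDegree) (pow_pos hε _)).mono fun y hy => ?_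
    rw [dist_zero_right, Real.norm_eq_abs, abs_norm]
    rw [dist_zero_right, Real.norm_eq_abs, abs_of_nonneg (pow_nonneg (norm_nonneg _) _)] at hy
    exact lt_of_pow_lt_pow_left₀ _ hε.le hy
  have hg : ∀ᶠ y in 𝓝 y', P.g.eval₂ (φ y) (r y) ≠ 0 := (tendsto_eval₂ hφ hr P.g).eventually_ne hg0
  have hz : ∀ y : T, ∃ z : Pts X, P.g.eval₂ (φ y) (r y) ≠ 0 → Pts.map g z = y.1 ∧ ∃ hzU : z.pt ∈ U,
      evHom z U hzU P.x = r y := by
    intro y
    by_cases hgy : P.g.eval₂ (φ y) (r y) ≠ 0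
    swap
    · exact ⟨x, fun h => absurd h hgy⟩
    obtain ⟨χ, hχ, hχx⟩ := exists_hom_standardEtale P (φ y) (r y) (hr0 y) hgy
    have hc : ∀ c, χ (strOn U c) = c := fun c => by
      have : g.appLE V U e (strOn V c) = strOn U c := by
        rw [Scheme.Hom.appLE, ConcreteCategory.comp_apply, strOn_app]
        show X.presheaf.map (homOfLE e).op (X.presheaf.map _ (strHom X c)) = _
        rw [← ConcreteCategory.comp_apply, ← Functor.map_comp]
        rfl
      rw [← this]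
      exact (RingHom.congr_fun hχ _).trans (ev_strOn y.1 V y.2 c)
    have hzU := pt_ofHom hU χ hc
    refine ⟨ofHom hU χ hc, fun _ => ⟨?_, hzU, (ev_ofHom hU χ hc P.x).trans hχx⟩⟩
    refine ext_of_ev hV (by rw [Pts.pt_map]; exact e hzU) y.2 fun a => ?_
    refine (RingHom.congr_fun (evHom_comp_appLE g e _ hzU (by rw [Pts.pt_map]; exact e hzU)) a).symm.trans ?_
    exact (ev_ofHom hU χ hc _).trans (RingHom.congr_fun hχ a)
  choose z hz using hz
  have hzt : Tendsto z (𝓝 y') (𝓝 x) := by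
    refine tendsto_nhds_of_affine hU hxU (hg.mono fun y hy => ((hz y) hy).2.1) fun b => ?_
    obtain ⟨p, n, hp⟩ := P.exists_mul_aeval_x_g_pow_eq_aeval_x b
    have hval : ∀ (w : Pts X) (hw : w.pt ∈ U), evHom w U hw b *
        P.g.eval₂ ((evHom w U hw).comp (algebraMap Γ(Y, V) Γ(X, U))) (evHom w U hw P.x) ^ n =
          p.eval₂ ((evHom w U hw).comp (algebraMap Γ(Y, V) Γ(X, U))) (evHom w U hw P.x) := fun w hw => by
      rw [eval₂_comp, eval₂_comp, ← map_pow, ← map_mul, hp]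
    have hb0 : evOn U b x = p.eval₂ φ₀ r₀ / P.g.eval₂ φ₀ r₀ ^ n := by
      rw [evOn_eq _ hxU, eq_div_iff (pow_ne_zero _ hg0)]
      have := hval x hxU
      rwa [hφ₀] at this
    rw [hb0]
    refine ((tendsto_eval₂ hφ hr p).div ((tendsto_eval₂ hφ hr P.g).pow n) (pow_ne_zero _ hg0)).congr'
      (hg.mono fun y hy => ?_)
    obtain ⟨hy1, hzU, hyx⟩ := (hz y) hy
    show p.eval₂ (φ y) (r y) / P.g.eval₂ (φ y) (r y) ^ n = evOn U b (z y)
    rw [evOn_eq _ hzU, eq_comm, eq_div_iff (pow_ne_zero _ hy)]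
    have := hval (z y) hzU
    rw [hyx, show (evHom (z y) U hzU).comp (algebraMap Γ(Y, V) Γ(X, U)) = φ y from
      (evHom_comp_appLE g e (z y) hzU (by rw [hy1]; exact y.2)).trans (evHom_congr hy1 _ y.2)] at this
    exact this
  rw [show 𝓝 (Pts.map g x) = Filter.map Subtype.val (𝓝 y') from
    ((Pts.isOpen_preimage_pt V).isOpenEmbedding_subtypeVal.map_nhds_eq y').symm]
  refine le_trans (le_of_eq ?_) ((Filter.map_mono hzt).trans' (le_of_eq Filter.map_map.symm))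
  exact Filter.map_congr (hg.mono fun y hy => ((hz y) hy).1.symm)

theorem etaleLH : EtaleLH := by
  intro X Y _ _ _ g _ _
  rw [isLocalHomeomorph_iff_isOpenEmbedding_restrict]
  intro x
  obtain ⟨W, hW, hinj⟩ := exists_nhds_injOn g x
  obtain ⟨W', hW', ho, hxW⟩ := mem_nhds_iff.1 hW
  refine ⟨W', ho.mem_nhds hxW, IsOpenEmbedding.of_continuous_injective_isOpenMap
    ((Pts.continuous_map g).comp continuous_subtype_val)
    (Set.injOn_iff_injective.1 (hinj.mono hW')) ?_⟩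
  exact (IsOpenMap.of_nhds_le fun z => nhds_le_map g z).comp ho.isOpenEmbedding_subtypeVal.isOpenMap

end AnLib
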