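import Groth.Prelude.Def_AnFib
import Mathlib.AlgebraicGeometry.Fiber
import Mathlib.AlgebraicGeometry.Morphisms.UniversallyOpen

/-! Elementary fibrations are stable under base change. -/

universe u

set_option autoImplicit false

open CategoryTheory CategoryTheory.Limits AlgebraicGeometry TopologicalSpace Topology

namespace AnLib

theorem range_eq_preimage_of_isPullback {P A B C : Scheme.{u}} {a : P ⟶ A} {b : P ⟶ B} {f : A ⟶ C} {g : B ⟶ C}
    (h : IsPullback a b f g) : Set.range b = g ⁻¹' Set.range f := by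
  refine Set.Subset.antisymm ?_ fun y ⟨x, hx⟩ => ?_
  · rintro _ ⟨p, rfl⟩
    exact ⟨a p, by rw [← Scheme.Hom.comp_apply, h.w, Scheme.Hom.comp_apply]⟩
  · obtain ⟨p, -, hp⟩ := Scheme.exists_preimage_of_isPullback h x y hx
    exact ⟨p, hp⟩

theorem isStronglyProjective_baseChange {X S S' : Scheme.{u}} (f : X ⟶ S) (u : S' ⟶ S)
    (hf : An.IsStronglyProjective f) : An.IsStronglyProjective (pullback.snd f u) := by
  obtain ⟨n, c, hc, rfl⟩ := hf
  let pf := CohB1.ProjSpace.toSpec n (ULift.{u} ℤ)
  let q := CohB1.ProjSpaceOver.toBase n S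
  let q' := CohB1.ProjSpaceOver.toBase n S'
  let m : CohB1.ProjSpaceOver n S' ⟶ CohB1.ProjSpaceOver n S :=
    pullback.lift (pullback.fst pf (specULiftZIsTerminal.from S')) (q' ≫ u) (specULiftZIsTerminal.hom_ext _ _)
  have hm : IsPullback m q' q u := by
    refine IsPullback.of_right ?_ (pullback.lift_snd _ _ _) (IsPullback.of_hasPullback pf (specULiftZIsTerminal.from S))
    erw [pullback.lift_fst]
    rw [show u ≫ specULiftZIsTerminal.from S = specULiftZIsTerminal.from S' from
      specULiftZIsTerminal.hom_ext _ _]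
    exact IsPullback.of_hasPullback pf (specULiftZIsTerminal.from S')
  let c' : pullback (c ≫ q) u ⟶ CohB1.ProjSpaceOver n S' :=
    hm.lift (pullback.fst (c ≫ q) u ≫ c) (pullback.snd (c ≫ q) u) (by rw [Category.assoc, pullback.condition])
  have hsq : IsPullback (pullback.fst (c ≫ q) u) c' c m := by
    refine IsPullback.of_bot ?_ (hm.lift_fst _ _ _).symm hm
    rw [hm.lift_snd]
    exact IsPullback.of_hasPullback (c ≫ q) u
  haveI : IsClosedImmersion c' := MorphismProperty.of_isPullback hsq hc
  exact ⟨n, c', inferInstance, hm.lift_snd _ _ _⟩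

theorem isElementaryFibration_baseChange {X S S' : Scheme.{u}} (f : X ⟶ S) (u : S' ⟶ S)
    (hf : An.IsElementaryFibration f) : An.IsElementaryFibration (pullback.snd f u) := by
  obtain ⟨Xb, Y, j, fb, i, rfl, hj, hi, hji, hdense, hsm, hproj, hgeom, hfin, het, hsurj⟩ := hf
  let Xb' := pullback fb u
  let fb' : Xb' ⟶ S' := pullback.snd fb u
  let p : Xb' ⟶ Xb := pullback.fst fb u
  let j' : pullback (j ≫ fb) u ⟶ Xb' :=
    pullback.lift (pullback.fst (j ≫ fb) u ≫ j) (pullback.snd (j ≫ fb) u) (by rw [Category.assoc, pullback.condition])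
  have hj' : IsPullback (pullback.fst (j ≫ fb) u) j' j p := by
    refine IsPullback.of_bot ?_ (pullback.lift_fst _ _ _).symm (IsPullback.of_hasPullback fb u)
    rw [pullback.lift_snd]
    exact IsPullback.of_hasPullback (j ≫ fb) u
  let Y' := pullback i p
  let i' : Y' ⟶ Xb' := pullback.snd i p
  have hY : IsPullback (pullback.fst i p) (i' ≫ fb') (i ≫ fb) u :=
    (IsPullback.of_hasPullback i p).paste_vert (IsPullback.of_hasPullback fb u)
  have hrj : Set.range j' = p ⁻¹' Set.range j := range_eq_preimage_of_isPullback hj'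
  refine ⟨Xb', Y', j', fb', i', pullback.lift_snd _ _ _, MorphismProperty.of_isPullback hj' hj,
    inferInstance, ?_, ?_, inferInstance, isStronglyProjective_baseChange fb u hproj, ?_,
    MorphismProperty.of_isPullback hY hfin, MorphismProperty.of_isPullback hY het, ?_⟩
  · show Set.range j' = (Set.range i')ᶜ
    rw [hrj, range_eq_preimage_of_isPullback (IsPullback.of_hasPullback i p), ← Set.preimage_compl]
    exact congrArg _ hji
  · intro s' z hz
    let s := u s'
    let F := pullback fb (S.fromSpecResidueField s)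
    let F' := pullback fb' (S'.fromSpecResidueField s')
    let ι : F ⟶ Xb := pullback.fst _ _
    let ι' : F' ⟶ Xb' := pullback.fst _ _
    let h : F' ⟶ F := pullback.lift (ι' ≫ p) (pullback.snd _ _ ≫ Spec.map (u.residueFieldMap s')) (by
      rw [Category.assoc, pullback.condition, Category.assoc, Scheme.Hom.SpecMap_residueFieldMap_fromSpecResidueField,
        ← pullback.condition_assoc])
    have hsq : IsPullback h (pullback.snd fb' (S'.fromSpecResidueField s')) (pullback.snd fb (S.fromSpecResidueField s))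
        (Spec.map (u.residueFieldMap s')) := by
      refine IsPullback.of_right ?_ (pullback.lift_snd _ _ _) (IsPullback.of_hasPullback fb (S.fromSpecResidueField s))
      rw [pullback.lift_fst, Scheme.Hom.SpecMap_residueFieldMap_fromSpecResidueField]
      exact (IsPullback.of_hasPullback fb' (S'.fromSpecResidueField s')).paste_horiz (IsPullback.of_hasPullback fb u)
    haveI : UniversallyOpen h := MorphismProperty.of_isPullback (P := @UniversallyOpen) hsq.flip inferInstance
    have hr : Set.range ι = fb ⁻¹' {s} := Scheme.Hom.range_fiberι fb s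
    have hr' : Set.range ι' = fb' ⁻¹' {s'} := Scheme.Hom.range_fiberι fb' s'
    have hz' : z ∈ Set.range ι' := by rw [hr']; exact hz
    obtain ⟨z₀, rfl⟩ := hz'
    rw [mem_closure_iff]
    intro O hO hzO
    have ho : IsOpen (h '' (ι' ⁻¹' O)) := h.isOpenMap _ (hO.preimage ι'.continuous)
    obtain ⟨V, hV, hVe⟩ := ((fb.fiberι s).isEmbedding.isInducing.isOpen_iff).1 ho
    have hmem : ι (h z₀) ∈ closure (Set.range j ∩ fb ⁻¹' {s}) :=
      hdense s (hr.le ⟨h z₀, rfl⟩)
    obtain ⟨w, hwV, hwj, hws⟩ := mem_closure_iff.1 hmem V hV (show h z₀ ∈ ι ⁻¹' V from hVe.ge ⟨z₀, hzO, rfl⟩)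
    obtain ⟨w₀, rfl⟩ := hr.ge hws
    obtain ⟨a, haO, rfl⟩ := hVe.le hwV
    refine ⟨ι' a, haO, ?_, hr'.le ⟨a, rfl⟩⟩
    show ι' a ∈ Set.range j'
    rw [hrj, Set.mem_preimage, ← Scheme.Hom.comp_apply, ← (pullback.lift_fst _ _ _ : h ≫ ι = ι' ≫ p), Scheme.Hom.comp_apply]
    exact hwj
  · intro Ω _ _ σ
    let e : pullback fb' σ ≅ pullback fb (σ ≫ u) := pullbackLeftPullbackSndIso fb u σ
    obtain ⟨h1, h2⟩ := hgeom Ω (σ ≫ u)
    refine ⟨Function.Surjective.irreducibleSpace e.inv.continuous e.inv.homeomorph.surjective, ?_⟩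
    exact (IsHomeomorph.topologicalKrullDim_eq _ e.hom.homeomorph.isHomeomorph).trans h2
  · intro s'
    obtain ⟨y, hy⟩ := hsurj (u s')
    obtain ⟨a, -, ha⟩ := Scheme.exists_preimage_of_isPullback hY y s' hy
    exact ⟨a, ha⟩

end AnLib
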