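import Groth.Agent.AnLib.Covering
import Groth.Agent.AnLib.Connected
import Mathlib.AlgebraicGeometry.Morphisms.FlatMono

/-! The comparison functor is fully faithful. -/

set_option autoImplicit false

open CategoryTheory CategoryTheory.Limits AlgebraicGeometry TopologicalSpace Topology Filter An Opposite

namespace AnLib

variable {X : Scheme.{0}} [X.Over SC] {Y : Scheme.{0}} [Y.Over SC]

/-- An open immersion through which all points factor is an isomorphism. -/
theorem isIso_of_openImmersion_surjective [LocallyOfFiniteType (X ↘ SC)] [LocallyOfFiniteType (Y ↘ SC)]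
    (f : X ⟶ Y) [f.IsOver SC] [IsOpenImmersion f] (h : Function.Surjective (Pts.map f)) : IsIso f := by
  rw [isIso_iff_isOpenImmersion_and_surjective]
  refine ⟨inferInstance, ⟨fun y => ?_⟩⟩
  by_contra hy
  obtain ⟨p, hp⟩ := exists_pt_mem (Z := (Set.range f)ᶜ) ⟨y, hy⟩
    f.isOpenEmbedding.isOpen_range.isClosed_compl.isLocallyClosed
  obtain ⟨q, rfl⟩ := h p
  exact hp ⟨q.pt, (Pts.pt_map f q).symm⟩

/-- An étale morphism bijective on points is an isomorphism. -/
theorem isIso_of_etale_bijective [LocallyOfFiniteType (X ↘ SC)] [LocallyOfFiniteType (Y ↘ SC)]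
    (f : X ⟶ Y) [f.IsOver SC] [Etale f] (h : Function.Bijective (Pts.map f)) : IsIso f := by
  letI : (pullback.diagonalObj f).Over SC := An.pullbackOver f f
  haveI : LocallyOfFiniteType (pullback f f ↘ SC) := by
    show LocallyOfFiniteType (pullback.fst f f ≫ (X ↘ SC))
    infer_instance
  haveI : LocallyOfFiniteType (pullback.diagonalObj f ↘ SC) := ‹_›
  haveI : (pullback.diagonal f).IsOver SC := ⟨by
    show pullback.diagonal f ≫ pullback.fst f f ≫ (X ↘ SC) = _
    rw [pullback.diagonal_fst_assoc]⟩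
  haveI : IsIso (pullback.diagonal f) := isIso_of_openImmersion_surjective _ fun z => by
    refine ⟨Pts.map (pullback.fst f f) z, (isHomeomorph_pullback f f).injective (Subtype.ext (Prod.ext ?_ ?_))⟩
    · exact Subtype.ext (by
        show (((z.1 ≫ pullback.fst f f) ≫ pullback.diagonal f) ≫ pullback.fst f f) = z.1 ≫ pullback.fst f f
        simp)
    · refine (Subtype.ext ?_).trans (h.1 (An.Pts.map_pullback_condition f f z))
      show (((z.1 ≫ pullback.fst f f) ≫ pullback.diagonal f) ≫ pullback.snd f f) = z.1 ≫ pullback.fst f f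
      simp
  haveI : Mono f := (pullback.isIso_diagonal_iff f).1 inferInstance
  haveI : IsOpenImmersion f := IsOpenImmersion.of_flat_of_mono f
  exact isIso_of_openImmersion_surjective f h.2

theorem hom_ext_of_pts [LocallyOfFiniteType (X ↘ SC)] {U V : X.Etale} {g g' : U ⟶ V}
    (h : ∀ u : Pts U.left, u.1 ≫ g.left = u.1 ≫ g'.left) : g = g' := by
  haveI : Etale U.hom := U.prop
  haveI : Etale V.hom := V.prop
  haveI : LocallyOfFiniteType (U.left ↘ SC) := by
    show LocallyOfFiniteType (U.hom ≫ (X ↘ SC))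
    infer_instance
  let s : U.left ⟶ pullback U.hom V.hom := pullback.lift (𝟙 _) g.left (by simp)
  let s' : U.left ⟶ pullback U.hom V.hom := pullback.lift (𝟙 _) g'.left (by simp)
  haveI : Mono s := mono_of_mono_fac (pullback.lift_fst (𝟙 _) g.left _)
  haveI : Mono s' := mono_of_mono_fac (pullback.lift_fst (𝟙 _) g'.left _)
  haveI : Etale (s ≫ pullback.fst U.hom V.hom) := by rw [pullback.lift_fst]; infer_instance
  haveI : Etale (s' ≫ pullback.fst U.hom V.hom) := by rw [pullback.lift_fst]; infer_instance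
  haveI : Etale s := MorphismProperty.of_postcomp (W := @Etale) (W' := @Etale) s (pullback.fst U.hom V.hom) inferInstance ‹_›
  haveI : Etale s' := MorphismProperty.of_postcomp (W := @Etale) (W' := @Etale) s' (pullback.fst U.hom V.hom) inferInstance ‹_›
  haveI : IsOpenImmersion s := IsOpenImmersion.of_flat_of_mono s
  haveI : IsOpenImmersion s' := IsOpenImmersion.of_flat_of_mono s'
  have hs1 : s ≫ pullback.fst U.hom V.hom = 𝟙 _ := pullback.lift_fst _ _ _
  have hs2 : s ≫ pullback.snd U.hom V.hom = g.left := pullback.lift_snd _ _ _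
  have hs1' : s' ≫ pullback.fst U.hom V.hom = 𝟙 _ := pullback.lift_fst _ _ _
  have hs2' : s' ≫ pullback.snd U.hom V.hom = g'.left := pullback.lift_snd _ _ _
  letI : (pullback s s').Over SC := ⟨pullback.fst s s' ≫ (U.left ↘ SC)⟩
  haveI : (pullback.fst s s').IsOver SC := ⟨rfl⟩
  haveI : LocallyOfFiniteType (pullback s s' ↘ SC) := by
    show LocallyOfFiniteType (pullback.fst s s' ≫ (U.left ↘ SC))
    infer_instance
  have hiso : IsIso (pullback.fst s s') := isIso_of_openImmersion_surjective _ fun u => by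
    have hc : u.1 ≫ s = u.1 ≫ s' :=
      pullback.hom_ext (by rw [Category.assoc, Category.assoc, hs1, hs1'])
        (by rw [Category.assoc, Category.assoc, hs2, hs2']; exact h u)
    refine ⟨⟨pullback.lift u.1 u.1 hc, ?_⟩, Subtype.ext (pullback.lift_fst _ _ _)⟩
    show pullback.lift u.1 u.1 hc ≫ pullback.fst s s' ≫ (U.left ↘ SC) = _
    rw [pullback.lift_fst_assoc]
    exact u.2
  have h1 : pullback.fst s s' = pullback.snd s s' := by
    have := congrArg (· ≫ pullback.fst U.hom V.hom) (pullback.condition (f := s) (g := s'))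
    simp only [Category.assoc] at this
    rwa [hs1, hs1', Category.comp_id, Category.comp_id] at this
  have h2 : pullback.fst s s' ≫ s = pullback.fst s s' ≫ s' := by
    conv_rhs => rw [h1]
    exact pullback.condition
  have h3 : s = s' := (cancel_epi (pullback.fst s s')).1 h2
  refine MorphismProperty.Over.Hom.ext ?_
  rw [← hs2, ← hs2', h3]

theorem eps_full_faithful [LocallyOfFiniteType (X ↘ SC)] [Fact EtaleLH] :
    (∀ (U V : X.Etale) [IsSeparated (V.left ↘ X)],
        Function.Surjective ((An.eps X).map : (U ⟶ V) → ((An.eps X).obj U ⟶ (An.eps X).obj V))) ∧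
      (An.eps X).Faithful := by
  refine ⟨fun U V _ h => ?_, ⟨fun {U V} g g' hgg' => hom_ext_of_pts fun u => ?_⟩⟩
  swap
  · exact congrArg Subtype.val (congrFun (congrArg Cl.Hom.toFun hgg') u)
  haveI : Etale (U.left ↘ X) := U.prop
  haveI : Etale (V.left ↘ X) := V.prop
  haveI : LocallyOfFiniteType (U.left ↘ SC) := by
    show LocallyOfFiniteType ((U.left ↘ X) ≫ (X ↘ SC))
    infer_instance
  haveI : LocallyOfFiniteType (V.left ↘ SC) := by
    show LocallyOfFiniteType ((V.left ↘ X) ≫ (X ↘ SC))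
    infer_instance
  let pU := U.left ↘ X
  let pV := V.left ↘ X
  let P := pullback pU pV
  letI : P.Over SC := An.pullbackOver pU pV
  haveI : LocallyOfFiniteType (P ↘ SC) := by
    show LocallyOfFiniteType (pullback.fst pU pV ≫ (U.left ↘ SC))
    infer_instance
  let hh : Pts U.left → Pts V.left := h.toFun
  have hhc : Continuous hh := h.continuous
  have hho : ∀ u, Pts.map pV (hh u) = Pts.map pU u := h.over
  let Γ : Set (Pts P) := {z | Pts.map (pullback.snd pU pV) z = hh (Pts.map (pullback.fst pU pV) z)}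
  have he : Pts.map pV ∘ Pts.map (pullback.snd pU pV) = Pts.map pV ∘ (hh ∘ Pts.map (pullback.fst pU pV)) :=
    funext fun z => (An.Pts.map_pullback_condition pU pV z).symm.trans (hho _).symm
  have hΓ : IsClopen Γ :=
    ⟨((isSeparatedMap_iff pV).1 ‹_›).isClosed_eqLocus (Pts.continuous_map _) (hhc.comp (Pts.continuous_map _)) he,
      (etaleLH V.left X pV).isLocallyInjective.isOpen_eqLocus (Pts.continuous_map _) (hhc.comp (Pts.continuous_map _)) he⟩
  let Z : P.Opens := ⟨compOf ⁻¹' (ConnectedComponents.mk '' Γ), isOpen_compOf_fiber _⟩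
  have hZ : ∀ z : Pts P, z.pt ∈ Z ↔ z ∈ Γ := fun z => by
    show compOf z.pt ∈ ConnectedComponents.mk '' Γ ↔ _
    rw [compOf_eq specializes_rfl]
    refine ⟨fun ⟨w, hw, hwz⟩ => ?_, fun hz => ⟨z, hz, rfl⟩⟩
    exact hΓ.connectedComponent_subset hw (ConnectedComponents.coe_eq_coe'.1 hwz.symm)
  letI : Z.toScheme.Over SC := ⟨Z.ι ≫ (P ↘ SC)⟩
  haveI : Z.ι.IsOver SC := ⟨rfl⟩
  haveI : LocallyOfFiniteType (Z.toScheme ↘ SC) := by
    show LocallyOfFiniteType (Z.ι ≫ (P ↘ SC))
    infer_instance
  let q : Z.toScheme ⟶ U.left := Z.ι ≫ pullback.fst pU pV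
  haveI : q.IsOver SC := ⟨by
    show (Z.ι ≫ pullback.fst pU pV) ≫ (U.left ↘ SC) = Z.ι ≫ pullback.fst pU pV ≫ (U.left ↘ SC)
    rw [Category.assoc]⟩
  haveI : Etale q := inferInstanceAs (Etale (Z.ι ≫ pullback.fst pU pV))
  have hin : ∀ w : Pts Z.toScheme, Pts.map Z.ι w ∈ Γ := fun w => by
    rw [← hZ, Pts.pt_map]; exact Z.range_ι.le ⟨_, rfl⟩
  have hbij : Function.Bijective (Pts.map q) := by
    refine ⟨fun w w' hw => map_injective_of_mono Z.ι ?_, fun u => ?_⟩
    · have h1 : Pts.map (pullback.fst pU pV) (Pts.map Z.ι w) = Pts.map (pullback.fst pU pV) (Pts.map Z.ι w') :=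
        (Subtype.ext (Category.assoc _ _ _)).trans (hw.trans (Subtype.ext (Category.assoc _ _ _).symm))
      refine (isHomeomorph_pullback pU pV).injective (Subtype.ext (Prod.ext h1 ?_))
      exact (hin w).trans ((congrArg hh h1).trans (hin w').symm)
    · obtain ⟨z, hz⟩ := (isHomeomorph_pullback pU pV).surjective ⟨(u, hh u), (hho u).symm⟩
      have hz1 : Pts.map (pullback.fst pU pV) z = u := congrArg (fun q => q.1.1) hz
      have hz2 : Pts.map (pullback.snd pU pV) z = hh u := congrArg (fun q => q.1.2) hz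
      have hzΓ : z ∈ Γ := by show _ = hh _; rw [hz1]; exact hz2
      obtain ⟨w, hw⟩ : z ∈ Set.range (Pts.map Z.ι) := by
        rw [range_map]; exact Z.range_ι.ge ((hZ z).2 hzΓ)
      refine ⟨w, ?_⟩
      rw [← hz1, ← hw]
      exact Subtype.ext (Category.assoc _ _ _).symm
  haveI := isIso_of_etale_bijective q hbij
  have hover : (inv q ≫ Z.ι ≫ pullback.snd pU pV) ≫ pV = pU := by
    rw [Category.assoc, Category.assoc, ← pullback.condition]
    rw [show Z.ι ≫ pullback.fst pU pV ≫ pU = q ≫ pU from (Category.assoc _ _ _).symm, IsIso.inv_hom_id_assoc]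
  refine ⟨MorphismProperty.Over.homMk (inv q ≫ Z.ι ≫ pullback.snd pU pV) hover trivial, ?_⟩
  refine Cl.hom_ext (funext fun u => ?_)
  obtain ⟨w, rfl⟩ := hbij.2 u
  refine Subtype.ext ?_
  show (w.1 ≫ q) ≫ (inv q ≫ Z.ι ≫ pullback.snd pU pV) = (hh (Pts.map q w)).1
  have h1 : Pts.map (pullback.fst pU pV) (Pts.map Z.ι w) = Pts.map q w := Subtype.ext (Category.assoc _ _ _)
  rw [← h1, ← (show _ = hh _ from hin w), Category.assoc, IsIso.hom_inv_id_assoc]
  exact (Category.assoc _ _ _).symm

end AnLib
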