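import Groth.Agent.AnLib.Maps
import Groth.Prelude.Def_AnHol
import Mathlib.Analysis.Calculus.FDeriv.Mul
import Mathlib.Analysis.Calculus.FDeriv.Add

/-! Holomorphic functions on affine space. -/

set_option autoImplicit false

open CategoryTheory AlgebraicGeometry TopologicalSpace Topology Filter An Opposite

namespace AnLib

/-- Regular functions in a neighbourhood are fractions of functions on the affine open. -/
theorem exists_eventually_eq_div {X : Scheme.{0}} [X.Over SC] {U W : X.Opens} (hU : IsAffineOpen U)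
    (f : Γ(X, W)) {x : Pts X} (hxU : x.pt ∈ U) (hxW : x.pt ∈ W) :
    ∃ (a q : Γ(X, U)) (n : ℕ), evOn U q x ≠ 0 ∧ ∀ᶠ y in 𝓝 x, evOn W f y = evOn U a y / evOn U q y ^ n := by
  obtain ⟨s, hsW, hxs⟩ := hU.exists_basicOpen_le (V := W) ⟨x.pt, hxW⟩ hxU
  haveI := hU.isLocalization_basicOpen s
  obtain ⟨a, ⟨_, n, rfl⟩, hfa⟩ := IsLocalization.exists_mk'_eq (Submonoid.powers s)
    (X.presheaf.map (homOfLE hsW).op f)
  refine ⟨a, s, n, by rw [evOn_eq _ hxU]; exact (mem_basicOpen_iff x hxU s).1 hxs, ?_⟩
  filter_upwards [(Pts.isOpen_preimage_pt (X.basicOpen s)).mem_nhds hxs] with y hy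
  have hyU : y.pt ∈ U := X.basicOpen_le s hy
  have hne := (mem_basicOpen_iff y hyU s).1 hy
  rw [evOn_eq f (hsW hy), evOn_eq a hyU, evOn_eq s hyU, eq_div_iff (pow_ne_zero _ hne)]
  have h3 := congrArg (evHom y _ hy) (IsLocalization.mk'_spec (Γ(X, X.basicOpen s)) a
    (⟨s ^ n, n, rfl⟩ : Submonoid.powers s))
  rw [hfa, map_mul] at h3
  have h4 : ∀ b, evHom y _ hy (algebraMap Γ(X, U) Γ(X, X.basicOpen s) b) = y.ev U hyU b :=
    fun b => ev_map_le y (X.basicOpen_le s) hy b
  rw [h4, h4] at h3
  rw [← ev_map_le y hsW hy f]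
  refine Eq.trans ?_ h3
  exact congrArg (_ * ·) (map_pow (evHom y U hyU) s n).symm

@[fun_prop]
theorem differentiable_eval {n : ℕ} (p : MvPolynomial (Fin n) ℂ) :
    Differentiable ℂ fun z : Fin n → ℂ => MvPolynomial.eval z p := by
  induction p using MvPolynomial.induction_on with
  | C c => simp
  | add p q hp hq => simp only [map_add]; exact hp.fun_add hq
  | mul_X p i hp =>
    simp only [map_mul, MvPolynomial.eval_X]
    exact hp.fun_mul (differentiable_apply i)

variable (n : ℕ)

/-- The coordinates of a point of affine space. -/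
noncomputable def coords (x : Pts (𝔸(Fin n; SC))) (i : Fin n) : ℂ := x.evTop (AffineSpace.coord SC i)

theorem isHomeomorph_coords : IsHomeomorph (coords n) := by
  rw [isHomeomorph_iff_isEmbedding_surjective]
  refine ⟨(isClosedEmbedding_evTop (AffineSpace.coord SC) (affineSpace_gens n)).isEmbedding, fun v => ?_⟩
  obtain ⟨x, hx⟩ := surjective_coord n v
  exact ⟨x, funext hx⟩

theorem exists_poly_evOn_top (a : Γ(𝔸(Fin n; SC), ⊤)) :
    ∃ p : MvPolynomial (Fin n) ℂ, ∀ x : Pts (𝔸(Fin n; SC)), evOn ⊤ a x = MvPolynomial.eval (coords n x) p := by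
  obtain ⟨p, rfl⟩ := affineSpace_gens n a
  refine ⟨p, fun x => ?_⟩
  rw [evOn_eq _ (show x.pt ∈ (⊤ : (𝔸(Fin n; SC)).Opens) from trivial), ← strOn_top]
  have h1 : (evHom x ⊤ trivial).comp (MvPolynomial.eval₂Hom (strOn ⊤) (AffineSpace.coord SC)) =
      MvPolynomial.eval (coords n x) := by
    refine MvPolynomial.ringHom_ext (fun c => ?_) (fun k => ?_)
    · simp only [RingHom.comp_apply, MvPolynomial.eval₂Hom_C, MvPolynomial.eval_C]
      exact ev_strOn x ⊤ trivial c
    · simp only [RingHom.comp_apply, MvPolynomial.eval₂Hom_X', MvPolynomial.eval_X]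
      rfl
  exact RingHom.congr_fun h1 p

theorem differentiableAt_evOn {W : (𝔸(Fin n; SC)).Opens} (f : Γ(𝔸(Fin n; SC), W)) {x : Pts (𝔸(Fin n; SC))}
    (hx : x.pt ∈ W) :
    DifferentiableAt ℂ (fun z => evOn W f ((isHomeomorph_coords n).homeomorph.symm z)) (coords n x) := by
  set e := (isHomeomorph_coords n).homeomorph
  obtain ⟨a, q, m, hq, hev⟩ := exists_eventually_eq_div (isAffineOpen_top (𝔸(Fin n; SC))) f (x := x) trivial hx
  obtain ⟨pa, hpa⟩ := exists_poly_evOn_top n a
  obtain ⟨pq, hpq⟩ := exists_poly_evOn_top n q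
  have hxe : e.symm (coords n x) = x := e.symm_apply_apply x
  have h1 : (fun z => evOn W f (e.symm z)) =ᶠ[𝓝 (coords n x)]
      fun z => MvPolynomial.eval z pa / MvPolynomial.eval z pq ^ m := by
    have := (e.symm.continuous.tendsto' (coords n x) x hxe).eventually hev
    filter_upwards [this] with z hz
    rw [hz, hpa, hpq, show coords n (e.symm z) = z from e.apply_symm_apply z]
  refine DifferentiableAt.congr_of_eventuallyEq ?_ h1
  have h2 : MvPolynomial.eval (coords n x) pq ≠ 0 := hpq x ▸ hq
  fun_prop (disch := first | assumption | exact pow_ne_zero _ h2)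

theorem holomorphic_affineSpace_iff (U : Opens (Pts (𝔸(Fin n; SC)))) (g : U → ℂ) :
    (holPred (𝔸(Fin n; SC))).pred g ↔
      ∃ G : (Fin n → ℂ) → ℂ, DifferentiableOn ℂ G (coords n '' (U : Set (Pts (𝔸(Fin n; SC))))) ∧
        ∀ x : U, g x = G (coords n x) := by
  classical
  set e := (isHomeomorph_coords n).homeomorph
  constructor
  · intro hg
    let G : (Fin n → ℂ) → ℂ := fun z => if h : e.symm z ∈ U then g ⟨e.symm z, h⟩ else 0
    have hG : ∀ x : U, g x = G (coords n x) := fun x => by
      have h : e.symm (coords n x) = x := e.symm_apply_apply x.1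
      simp only [G, h, x.2, dif_pos]
    refine ⟨G, ?_, hG⟩
    rintro _ ⟨x, hx, rfl⟩
    refine DifferentiableAt.differentiableWithinAt ?_
    obtain ⟨U', hxU', i, hU'⟩ := hg ⟨x, hx⟩
    have key : ∀ k ∈ chartAlg U', DifferentiableAt ℂ
        (fun z => if h : e.symm z ∈ U' then k ⟨e.symm z, h⟩ else 0) (coords n x) := by
      have hev : ∀ᶠ z in 𝓝 (coords n x), e.symm z ∈ U' :=
        (e.symm.continuous.tendsto' (coords n x) x (e.symm_apply_apply x)).eventually (U'.2.mem_nhds hxU')
      intro k hk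
      induction hk using Algebra.adjoin_induction with
      | mem k hk =>
        obtain ⟨W, hW, m, s, V, G', hV, hG', hk'⟩ := hk
        have hxW : x.pt ∈ W := hW ⟨x, hxU'⟩
        have hval : ∀ y (hy : y ∈ U'), (fun i => Pts.ev y W (hW ⟨y, hy⟩) (s i)) = fun i => evOn W (s i) y :=
          fun y hy => funext fun i => (evOn_eq _ _).symm
        have hxV : (fun i => evOn W (s i) (e.symm (coords n x))) ∈ V := by
          rw [show e.symm (coords n x) = x from e.symm_apply_apply x, ← hval x hxU']
          exact (hk' ⟨x, hxU'⟩).1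
        have hd : DifferentiableAt ℂ (fun z => G' fun i => evOn W (s i) (e.symm z)) (coords n x) :=
          (hG'.differentiableAt (hV.mem_nhds hxV)).comp _
            (differentiableAt_pi.2 fun i => differentiableAt_evOn n (s i) hxW)
        refine hd.congr_of_eventuallyEq (hev.mono fun z hz => ?_)
        show (if h : e.symm z ∈ U' then k ⟨e.symm z, h⟩ else 0) = _
        rw [dif_pos hz, (hk' ⟨_, hz⟩).2]
        exact congrArg G' (hval _ hz)
      | algebraMap c => exact (differentiableAt_const c).congr_of_eventuallyEq (hev.mono fun z hz => dif_pos hz)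
      | add k l _ _ hk hl =>
        exact (hk.fun_add hl).congr_of_eventuallyEq (hev.mono fun z hz => by simp [dif_pos hz])
      | mul k l _ _ hk hl =>
        exact (hk.fun_mul hl).congr_of_eventuallyEq (hev.mono fun z hz => by simp [dif_pos hz])
    refine (key _ hU').congr_of_eventuallyEq ?_
    filter_upwards [(e.symm.continuous.tendsto' (coords n x) x (e.symm_apply_apply x)).eventually
      (U'.2.mem_nhds hxU')] with z hz
    simp only [G]
    split_ifs
    all_goals first | rfl | (exact absurd hz ‹_›) | (exact absurd (i.le hz) ‹_›)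
  · rintro ⟨G, hG, hg⟩
    refine holPred_of_chartAlg (Algebra.subset_adjoin ?_)
    exact ⟨⊤, fun x => trivial, n, AffineSpace.coord SC, coords n '' U, G,
      (isHomeomorph_coords n).isOpenMap _ U.2, hG, fun x => ⟨⟨x.1, x.2, rfl⟩, hg x⟩⟩

end AnLib
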