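import Groth.Agent.AnLib.Units
import Groth.Agent.AnLib.Connected
import Mathlib.Analysis.Complex.CoveringMap
import Mathlib.Topology.Homotopy.Lifting

/-! Regular functions with a continuous logarithm are constant. -/

set_option autoImplicit false

open CategoryTheory CategoryTheory.Limits AlgebraicGeometry TopologicalSpace Topology Filter An Opposite

namespace AnLib

variable {X : Scheme.{0}} [X.Over SC]

theorem exists_log {T : Type} [TopologicalSpace T] (φ : C(T, {z : ℂ // z ≠ 0})) (z₀ : {z : ℂ // z ≠ 0})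
    (h : φ.Homotopic (ContinuousMap.const T z₀)) : ∃ L : C(T, ℂ), ∀ x, Complex.exp (L x) = (φ x).1 := by
  obtain ⟨H⟩ := h.symm
  have hc := Complex.isCoveringMap_exp
  let f₀ : C(T, ℂ) := ContinuousMap.const T (Complex.log z₀.1)
  have h0 : ∀ a, H.toContinuousMap (0, a) = (⟨_, (f₀ a).exp_ne_zero⟩ : {z : ℂ // z ≠ 0}) := fun a =>
    (H.apply_zero a).trans (Subtype.ext (Complex.exp_log z₀.2).symm)
  let G := hc.liftHomotopy H.toContinuousMap f₀ h0
  refine ⟨G.comp ((ContinuousMap.const T (1 : unitInterval)).prodMk (ContinuousMap.id T)), fun x => ?_⟩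
  have h1 := congrFun (hc.liftHomotopy_lifts H.toContinuousMap f₀ h0) (1, x)
  exact (congrArg Subtype.val h1).trans (congrArg Subtype.val (H.apply_one x))

theorem evTop_eq_ev {U : X.Opens} (u : Γ(X, ⊤)) (x : Pts X) (hx : x.pt ∈ U) :
    x.evTop u = x.ev U hx (X.presheaf.map (homOfLE le_top).op u) :=
  (ev_map_le x le_top hx u).symm

/-- A regular function with continuous logarithm is constant along each irreducible affine piece. -/
theorem const_on_affinePart [LocallyOfFiniteType (X ↘ SC)] {U : X.Opens} (hU : IsAffineOpen U) {z : X} (hz : z ∈ U)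
    (u : Γ(X, ⊤)) (L : C(Pts X, ℂ)) (hL : ∀ x, Complex.exp (L x) = x.evTop u) :
    ∃ c : ℂ, ∀ x : Pts X, x.pt ∈ U → z ⤳ x.pt → x.evTop u = c := by
  obtain ⟨q, hq⟩ : z ∈ Set.range hU.fromSpec := by rw [hU.range_fromSpec]; exact hz
  let P : Ideal Γ(X, U) := (show PrimeSpectrum Γ(X, U) from q).asIdeal
  haveI : P.IsPrime := (show PrimeSpectrum Γ(X, U) from q).2
  letI := (strOn U).toAlgebra
  haveI : Algebra.FiniteType ℂ Γ(X, U) := finiteType_strOn hU
  haveI : Algebra.FiniteType ℂ (Γ(X, U) ⧸ P) :=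
    .of_surjective (Ideal.Quotient.mkₐ ℂ P) Ideal.Quotient.mk_surjective
  let g : (Γ(X, U) ⧸ P →ₐ[ℂ] ℂ) → Pts X := fun ψ =>
    ofHom hU (ψ.comp (Ideal.Quotient.mkₐ ℂ P)).toRingHom fun c => AlgHom.commutes (ψ.comp (Ideal.Quotient.mkₐ ℂ P)) c
  have hgU : ∀ ψ, (g ψ).pt ∈ U := fun ψ => pt_ofHom hU _ _
  have hgev : ∀ ψ a, (g ψ).ev U (hgU ψ) a = ψ (Ideal.Quotient.mk P a) := fun ψ a => ev_ofHom hU _ _ a
  let S := Set.range fun χ : Γ(X, U) ⧸ P →ₐ[ℂ] ℂ => (χ : Γ(X, U) ⧸ P → ℂ)
  let Φ : S → Pts X := fun v => g v.2.choose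
  have hΦ : Continuous Φ := continuous_iff_continuousAt.2 fun v => by
    refine tendsto_nhds_of_affine hU (hgU _) (Eventually.of_forall fun w => hgU _) fun a => ?_
    have hv : ∀ w : S, evOn U a (Φ w) = w.1 (Ideal.Quotient.mk P a) := fun w => by
      rw [evOn_eq _ (hgU _), hgev]
      exact congrFun w.2.choose_spec _
    rw [hv v]
    exact (((continuous_apply _).comp continuous_subtype_val).tendsto v).congr fun w => (hv w).symm
  let u₀ : Γ(X, U) ⧸ P := Ideal.Quotient.mk P (X.presheaf.map (homOfLE le_top).op u)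
  have hu₀ : ∀ v : S, v.1 u₀ = (Φ v).evTop u := fun v => by
    rw [evTop_eq_ev u _ (hgU _), hgev]
    exact (congrFun v.2.choose_spec _).symm
  obtain ⟨c, hc⟩ := exists_const_of_roots (u := u₀) fun n hn =>
    exists_root_fractionRing (fun χ h0 => Complex.exp_ne_zero _ ((hL _).trans ((hu₀ ⟨_, χ, rfl⟩).symm.trans h0))) hn
      (fun v => Complex.exp (L (Φ v) / n))
      (Complex.continuous_exp.comp ((L.continuous.comp hΦ).div_const _))
      fun v => by
        rw [← Complex.exp_nat_mul, mul_div_cancel₀ _ (Nat.cast_ne_zero.2 hn.ne'), hL, hu₀]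
  refine ⟨c, fun x hx hzx => ?_⟩
  rw [← hq, ← fromSpec_primeAt hU x hx, hU.fromSpec.isOpenEmbedding.isInducing.specializes_iff] at hzx
  have hle : P ≤ RingHom.ker (evHom x U hx) :=
    (PrimeSpectrum.le_iff_specializes (show PrimeSpectrum Γ(X, U) from q) (primeAt x hx)).2 hzx
  let ψ : Γ(X, U) ⧸ P →ₐ[ℂ] ℂ :=
    Ideal.Quotient.liftₐ P ⟨evHom x U hx, fun c => ev_strOn x U hx c⟩ fun a ha => hle ha
  have h1 : ψ u₀ = x.evTop u := (evTop_eq_ev u x hx).symm
  rw [← h1, hc, ψ.commutes]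
  rfl

theorem evTop_eq_of_log [LocallyOfFiniteType (X ↘ SC)] [ConnectedSpace X] (u : Γ(X, ⊤)) (L : C(Pts X, ℂ))
    (hL : ∀ x, Complex.exp (L x) = x.evTop u) (x y : Pts X) : x.evTop u = y.evTop u := by
  -- constant along the specializations of each point
  have hspec : ∀ (z : X) (a b : Pts X), z ⤳ a.pt → z ⤳ b.pt → a.evTop u = b.evTop u := by
    intro z a b ha hb
    obtain ⟨U, hU, haU, -⟩ := exists_isAffineOpen_mem_and_subset (x := a.pt) (U := ⊤) trivial
    obtain ⟨V, hV, hbV, -⟩ := exists_isAffineOpen_mem_and_subset (x := b.pt) (U := ⊤) trivial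
    have hzU := ha.mem_open U.2 haU
    have hzV := hb.mem_open V.2 hbV
    obtain ⟨c, hc⟩ := const_on_affinePart hU hzU u L hL
    obtain ⟨d, hd⟩ := const_on_affinePart hV hzV u L hL
    obtain ⟨w, ⟨hw1, hw2⟩, hw3⟩ := exists_pt_mem (Z := ((U : Set X) ∩ V) ∩ closure {z})
      ⟨z, ⟨hzU, hzV⟩, subset_closure rfl⟩ ((U.2.inter V.2).isLocallyClosed.inter isClosed_closure.isLocallyClosed)
    rw [← specializes_iff_mem_closure] at hw3
    rw [hc a haU ha, hd b hbV hb, ← hc w hw1 hw3, hd w hw2 hw3]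
  let F : X → ℂ := fun z => (exists_specialization z).choose.evTop u
  have hF : ∀ z w, z ⤳ w → F z = F w := fun z w hzw =>
    hspec z _ _ (exists_specialization z).choose_spec (hzw.trans (exists_specialization w).choose_spec)
  have hloc : IsLocallyConstant F := fun S => by
    haveI := isLocallyNoetherian (X := X)
    rw [isOpen_iff_mem_nhds]
    intro z hz
    obtain ⟨U, hU, hzU, -⟩ := exists_isAffineOpen_mem_and_subset (x := z) (U := ⊤) trivial
    haveI : IsLocallyNoetherian U.toScheme := isLocallyNoetherian_of_isOpenImmersion U.ι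
    haveI : CompactSpace U.toScheme := isCompact_iff_compactSpace.1 hU.isCompact
    haveI : IsNoetherian U.toScheme := {}
    have ho : IsOpen ((fun w : U.toScheme => F w.1) ⁻¹' S) := by
      rw [← isClosed_compl_iff]
      refine isClosed_of_stable fun a b hab => ?_
      show ¬ _ ↔ ¬ _
      rw [Set.mem_preimage, Set.mem_preimage, hF _ _ (hab.map continuous_subtype_val)]
    exact Filter.mem_of_superset ((U.2.isOpenEmbedding_subtypeVal.isOpenMap _ ho).mem_nhds ⟨⟨z, hzU⟩, hz, rfl⟩)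
      (by rintro _ ⟨w, hw, rfl⟩; exact hw)
  have key : ∀ a : Pts X, F a.pt = a.evTop u := fun a =>
    hspec a.pt _ a (exists_specialization a.pt).choose_spec specializes_rfl
  rw [← key x, ← key y]
  exact hloc.apply_eq_of_preconnectedSpace _ _

theorem evTop_eq_of_nullhomotopic [LocallyOfFiniteType (X ↘ SC)] [ConnectedSpace X] (u : Γ(X, ⊤))
    (φ : C(Pts X, {z : ℂ // z ≠ 0})) (hφ : ∀ x : Pts X, (φ x).1 = x.evTop u)
    (z₀ : {z : ℂ // z ≠ 0}) (hnull : φ.Homotopic (ContinuousMap.const (Pts X) z₀)) (x y : Pts X) :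
    x.evTop u = y.evTop u := by
  obtain ⟨L, hL⟩ := exists_log φ z₀ hnull
  exact evTop_eq_of_log u L (fun a => (hL a).trans (hφ a)) x y

end AnLib
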