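import Groth.Prelude.Def_AnCl
import Mathlib.CategoryTheory.Sites.DenseSubsite.SheafEquiv

/-! The opens of a space form a dense subsite of its classical site. -/

universe u

set_option autoImplicit false

open CategoryTheory TopologicalSpace Topology Opposite An

namespace AnLib

variable {T : Type u} [TopologicalSpace T]

instance opensToCl_full : (opensToCl T).Full where
  map_surjective {U V} f := ⟨homOfLE fun x hx => by
    have h : (show ↥V from f.toFun ⟨x, hx⟩).1 = x := f.over ⟨x, hx⟩
    exact h ▸ (show ↥V from f.toFun ⟨x, hx⟩).2, Cl.hom_ext (funext fun a => Subtype.ext (f.over a).symm)⟩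

instance opensToCl_faithful : (opensToCl T).Faithful where
  map_injective _ := Subsingleton.elim _ _

/-- A local chart of an object of the classical site. -/
theorem exists_chart (A : Cl T) (a : A.E) :
    ∃ (U : Opens T) (g : (opensToCl T).obj U ⟶ A), IsOpenEmbedding g.toFun ∧ a ∈ Set.range g.toFun := by
  obtain ⟨e, ha, he⟩ := A.lh a
  let h : e.target ≃ₜ e.source := e.toHomeomorphSourceTarget.symm
  refine ⟨⟨e.target, e.open_target⟩, ⟨Subtype.val ∘ h, continuous_subtype_val.comp h.continuous, fun x => ?_⟩,
    e.open_source.isOpenEmbedding_subtypeVal.comp h.isOpenEmbedding, h.symm ⟨a, ha⟩, ?_⟩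
  · show A.p (h x).1 = x.1
    rw [he]
    exact e.right_inv x.2
  · exact congrArg Subtype.val (h.apply_symm_apply ⟨a, ha⟩)

instance opensToCl_isCoverDense : (opensToCl T).IsCoverDense (Cl.topology T) where
  is_cover A a := by
    obtain ⟨U, g, hg, ha⟩ := exists_chart A a
    exact ⟨_, g, ⟨⟨U, 𝟙 _, g, Category.id_comp _⟩⟩, hg, ha⟩

theorem functorPushforward_mem_iff {U : Opens T} {S : Sieve U} :
    S.functorPushforward (opensToCl T) ∈ Cl.topology T ((opensToCl T).obj U) ↔ S ∈ Opens.grothendieckTopology T U := by
  constructor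
  · intro h x hx
    obtain ⟨B, g, ⟨V, f, k, hf, hk⟩, -, b, hb⟩ := h ⟨x, hx⟩
    refine ⟨V, f, hf, ?_⟩
    have h1 : g.toFun b = ((opensToCl T).map f).toFun (k.toFun b) := by rw [hk]; rfl
    rw [hb] at h1
    have h2 : x = (show ↥V from k.toFun b).1 := congrArg Subtype.val h1
    exact h2 ▸ (show ↥V from k.toFun b).2
  · intro h a
    obtain ⟨V, f, hf, hV⟩ := h a.1 a.2
    exact ⟨_, (opensToCl T).map f, Sieve.image_mem_functorPushforward _ _ hf,
      IsOpenEmbedding.inclusion f.le (V.2.preimage continuous_subtype_val), ⟨a.1, hV⟩, rfl⟩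

instance opensToCl_isDenseSubsite :
    (opensToCl T).IsDenseSubsite (Opens.grothendieckTopology T) (Cl.topology T) where
  functorPushforward_mem_iff := functorPushforward_mem_iff

theorem opCont : OpCont T :=
  inferInstanceAs ((opensToCl T).IsContinuous (Opens.grothendieckTopology T) (Cl.topology T))

theorem resOpens_isEquivalence [OpCont T] : (resOpens T).IsEquivalence :=
  inferInstanceAs ((opensToCl T).sheafPushforwardContinuous AddCommGrpCat.{u + 1}
    (Opens.grothendieckTopology T) (Cl.topology T)).IsEquivalence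

end AnLib
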