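import Mathlib.Order.Filter.FilterProduct
import Mathlib.RingTheory.Valuation.ValuationSubring
import Mathlib.Analysis.Complex.Basic
import Mathlib.Topology.MetricSpace.ProperSpace

/-! The ultrapower of `ℂ`, its valuation ring of bounded elements and the standard part. -/

set_option autoImplicit false

open Filter Topology

namespace AnLib

variable {α : Type} (l : Ultrafilter α)

/-- Bounded germs. -/
def IsBddGerm (g : Germ (l : Filter α) ℂ) : Prop := ∃ c : ℂ, g.Tendsto (𝓝 c)

theorem isBddGerm_coe_of_le {g : α → ℂ} {M : ℝ} (h : ∀ᶠ i in (l : Filter α), ‖g i‖ ≤ M) :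
    IsBddGerm l (g : Germ (l : Filter α) ℂ) := by
  have : ∀ᶠ i in (l : Filter α), g i ∈ Metric.closedBall (0 : ℂ) M := by
    filter_upwards [h] with i hi
    rwa [Metric.mem_closedBall, dist_zero_right]
  obtain ⟨c, -, hc⟩ := (isCompact_closedBall (0 : ℂ) M).ultrafilter_le_nhds (l.map g) (le_principal_iff.2 this)
  exact ⟨c, Germ.coe_tendsto.2 hc⟩

/-- The valuation ring of bounded germs. -/
noncomputable def bddRing : ValuationSubring (Germ (l : Filter α) ℂ) where
  carrier := {g | IsBddGerm l g}
  zero_mem' := ⟨0, Germ.coe_tendsto.2 tendsto_const_nhds⟩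
  one_mem' := ⟨1, Germ.coe_tendsto.2 tendsto_const_nhds⟩
  add_mem' := by
    rintro a b ⟨c, hc⟩ ⟨d, hd⟩
    induction a using Germ.inductionOn with
    | _ a =>
    induction b using Germ.inductionOn with
    | _ b => exact ⟨c + d, Germ.coe_tendsto.2 ((Germ.coe_tendsto.1 hc).add (Germ.coe_tendsto.1 hd))⟩
  mul_mem' := by
    rintro a b ⟨c, hc⟩ ⟨d, hd⟩
    induction a using Germ.inductionOn with
    | _ a =>
    induction b using Germ.inductionOn with
    | _ b => exact ⟨c * d, Germ.coe_tendsto.2 ((Germ.coe_tendsto.1 hc).mul (Germ.coe_tendsto.1 hd))⟩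
  neg_mem' := by
    rintro a ⟨c, hc⟩
    induction a using Germ.inductionOn with
    | _ a => exact ⟨-c, Germ.coe_tendsto.2 (Germ.coe_tendsto.1 hc).neg⟩
  mem_or_inv_mem' x := by
    induction x using Germ.inductionOn with
    | _ g =>
    rcases l.em (fun i => ‖g i‖ ≤ 1) with h | h
    · exact Or.inl (isBddGerm_coe_of_le l h)
    · refine Or.inr ?_
      rw [← Germ.coe_inv]
      refine isBddGerm_coe_of_le l (M := 1) ?_
      filter_upwards [h] with i hi
      rw [Pi.inv_apply, norm_inv]
      exact inv_le_one_of_one_le₀ (le_of_lt (not_le.1 hi))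

theorem tendsto_unique {g : Germ (l : Filter α) ℂ} {c d : ℂ} (hc : g.Tendsto (𝓝 c)) (hd : g.Tendsto (𝓝 d)) :
    c = d := by
  induction g using Germ.inductionOn with
  | _ g => exact tendsto_nhds_unique (Germ.coe_tendsto.1 hc) (Germ.coe_tendsto.1 hd)

theorem exists_tendsto (g : bddRing l) : ∃ c : ℂ, (g : Germ (l : Filter α) ℂ).Tendsto (𝓝 c) := g.2

/-- The standard part, as a function. -/
noncomputable def stFun (g : bddRing l) : ℂ := Classical.choose (exists_tendsto l g)

theorem stFun_spec (g : bddRing l) : (g : Germ (l : Filter α) ℂ).Tendsto (𝓝 (stFun l g)) :=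
  Classical.choose_spec (exists_tendsto l g)

theorem stFun_eq (g : bddRing l) {c : ℂ} (h : (g : Germ (l : Filter α) ℂ).Tendsto (𝓝 c)) : stFun l g = c :=
  tendsto_unique l (stFun_spec l g) h

/-- The standard part. -/
noncomputable def st : bddRing l →+* ℂ where
  toFun := stFun l
  map_zero' := stFun_eq l _ (Germ.coe_tendsto.2 tendsto_const_nhds)
  map_one' := stFun_eq l _ (Germ.coe_tendsto.2 tendsto_const_nhds)
  map_add' a b := by
    refine stFun_eq l _ ?_
    have ha := stFun_spec l a
    have hb := stFun_spec l b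
    rw [AddMemClass.coe_add]
    generalize stFun l a = c at ha
    generalize stFun l b = d at hb
    generalize (a : Germ (l : Filter α) ℂ) = x at ha
    generalize (b : Germ (l : Filter α) ℂ) = y at hb
    induction x using Germ.inductionOn with
    | _ x =>
    induction y using Germ.inductionOn with
    | _ y => exact Germ.coe_tendsto.2 ((Germ.coe_tendsto.1 ha).add (Germ.coe_tendsto.1 hb))
  map_mul' a b := by
    refine stFun_eq l _ ?_
    have ha := stFun_spec l a
    have hb := stFun_spec l b
    rw [MulMemClass.coe_mul]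
    generalize stFun l a = c at ha
    generalize stFun l b = d at hb
    generalize (a : Germ (l : Filter α) ℂ) = x at ha
    generalize (b : Germ (l : Filter α) ℂ) = y at hb
    induction x using Germ.inductionOn with
    | _ x =>
    induction y using Germ.inductionOn with
    | _ y => exact Germ.coe_tendsto.2 ((Germ.coe_tendsto.1 ha).mul (Germ.coe_tendsto.1 hb))

theorem tendsto_st {g : α → ℂ} (h : (g : Germ (l : Filter α) ℂ) ∈ bddRing l) :
    Tendsto g l (𝓝 (st l ⟨_, h⟩)) :=
  Germ.coe_tendsto.1 (stFun_spec l ⟨_, h⟩)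

end AnLib
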