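import Groth.Agent.AnLib.Closure
import Groth.Agent.AnLib.UltraField
import Mathlib.AlgebraicGeometry.ValuativeCriterion
import Mathlib.RingTheory.Spectrum.Prime.Chevalley
import Mathlib.Topology.Maps.Proper.Basic
import Mathlib.Topology.SeparatedMap

/-! Proper morphisms and proper maps of `ℂ`-points. -/

set_option autoImplicit false

open CategoryTheory CategoryTheory.Limits AlgebraicGeometry TopologicalSpace Topology Filter An Opposite
open IsLocalRing (closedPoint specializes_closedPoint)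

namespace AnLib

variable {X : Scheme.{0}} [X.Over SC] {Y : Scheme.{0}} [Y.Over SC]

theorem appLE_strOn (f : X ⟶ Y) [f.IsOver SC] {V : Y.Opens} {U : X.Opens} (e : U ≤ f ⁻¹ᵁ V) (c : ℂ) :
    f.appLE V U e (strOn V c) = strOn U c := by
  rw [Scheme.Hom.appLE, ConcreteCategory.comp_apply, strOn_app]
  show X.presheaf.map (homOfLE e).op (X.presheaf.map _ (strHom X c)) = _
  rw [← ConcreteCategory.comp_apply, ← Functor.map_comp]
  rfl

theorem evOn_appLE (f : X ⟶ Y) [f.IsOver SC] {V : Y.Opens} {U : X.Opens} (e : U ≤ f ⁻¹ᵁ V) (a : Γ(Y, V))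
    {z : Pts X} (hz : z.pt ∈ U) : evOn U (f.appLE V U e a) z = evOn V a (Pts.map f z) := by
  rw [Scheme.Hom.appLE, ConcreteCategory.comp_apply, evOn_map e _ z hz, evOn_app]

open Classical in
/-- The germ of evaluations. -/
noncomputable def germHom {l : Ultrafilter (Pts X)} {U : X.Opens}
    (hU : ∀ᶠ z in (l : Filter (Pts X)), z.pt ∈ U) : Γ(X, U) →+* Germ (l : Filter (Pts X)) ℂ where
  toFun a := (evOn U a : Germ (l : Filter (Pts X)) ℂ)
  map_zero' := Germ.coe_eq.2 (hU.mono fun z hz => (evOn_eq _ hz).trans (map_zero (evHom z U hz)))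
  map_one' := Germ.coe_eq.2 (hU.mono fun z hz => (evOn_eq _ hz).trans (map_one (evHom z U hz)))
  map_add' a b := Germ.coe_eq.2 (hU.mono fun z hz => by
    show evOn U (a + b) z = evOn U a z + evOn U b z
    rw [evOn_eq _ hz, evOn_eq _ hz, evOn_eq _ hz]
    exact map_add (evHom z U hz) a b)
  map_mul' a b := Germ.coe_eq.2 (hU.mono fun z hz => by
    show evOn U (a * b) z = evOn U a z * evOn U b z
    rw [evOn_eq _ hz, evOn_eq _ hz, evOn_eq _ hz]
    exact map_mul (evHom z U hz) a b)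

theorem germHom_map {l : Ultrafilter (Pts X)} {U W : X.Opens} (hW : ∀ᶠ z in (l : Filter (Pts X)), z.pt ∈ W)
    (hWU : W ≤ U) :
    (germHom hW).comp (X.presheaf.map (homOfLE hWU).op).hom = germHom (hW.mono fun _ h => hWU h) :=
  RingHom.ext fun a => Germ.coe_eq.2 (hW.mono fun z hz => evOn_map hWU a z hz)

/-- The generic point of a germ of points. -/
theorem specMap_germHom_eq {l : Ultrafilter (Pts X)} {U U' : X.Opens} (hU : IsAffineOpen U) (hU' : IsAffineOpen U')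
    (h : ∀ᶠ z in (l : Filter (Pts X)), z.pt ∈ U) (h' : ∀ᶠ z in (l : Filter (Pts X)), z.pt ∈ U')
    {W : X.Opens} (hW : IsAffineOpen W) (hWU : W ≤ U) (hWU' : W ≤ U')
    (hlW : ∀ᶠ z in (l : Filter (Pts X)), z.pt ∈ W) :
    Spec.map (CommRingCat.ofHom (germHom h)) ≫ hU.fromSpec = Spec.map (CommRingCat.ofHom (germHom h')) ≫ hU'.fromSpec := by
  have key : ∀ {U : X.Opens} (hU : IsAffineOpen U) (h : ∀ᶠ z in (l : Filter (Pts X)), z.pt ∈ U) (hWU : W ≤ U),
      Spec.map (CommRingCat.ofHom (germHom h)) ≫ hU.fromSpec = Spec.map (CommRingCat.ofHom (germHom hlW)) ≫ hW.fromSpec := by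
    intro U hU h hWU
    rw [← hU.map_fromSpec hW (homOfLE hWU).op, ← Spec.map_comp_assoc]
    congr 2
    exact CommRingCat.hom_ext (germHom_map hlW hWU).symm
  rw [key hU h hWU, key hU' h' hWU']

/-- Proper morphisms give proper maps. -/
theorem isProperMap_of_isProper [LocallyOfFiniteType (X ↘ SC)] (f : X ⟶ Y) [f.IsOver SC] [IsProper f] :
    IsProperMap (Pts.map f) := by
  rw [isProperMap_iff_ultrafilter]
  refine ⟨Pts.continuous_map f, fun 𝒰 y hy => ?_⟩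
  obtain ⟨V, hV, hyV, -⟩ := exists_isAffineOpen_mem_and_subset (x := y.pt) (U := ⊤) trivial
  choose W hW hxW hWV using fun (x : X) (hx : x ∈ f ⁻¹ᵁ V) =>
    exists_isAffineOpen_mem_and_subset (x := x) (U := f ⁻¹ᵁ V) hx
  have hcov : (f ⁻¹ᵁ V : Set X) ⊆ ⋃ p : (f ⁻¹ᵁ V : Set X), (W p.1 p.2 : Set X) :=
    fun x hx => Set.mem_iUnion.2 ⟨⟨x, hx⟩, hxW x hx⟩
  obtain ⟨s, hs⟩ := (f.isCompact_preimage hV.isCompact).elim_finite_subcover
    (fun p : (f ⁻¹ᵁ V : Set X) => (W p.1 p.2 : Set X)) (fun p => (W p.1 p.2).2) hcov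
  have hev : ∀ᶠ z in (𝒰 : Filter (Pts X)), z.pt ∈ f ⁻¹ᵁ V := by
    filter_upwards [hy.eventually ((Pts.isOpen_preimage_pt V).mem_nhds hyV)] with z hz
    have hz' : (Pts.map f z).pt ∈ V := hz
    rwa [Pts.pt_map] at hz'
  obtain ⟨p, hp, hpU⟩ : ∃ p ∈ s, ∀ᶠ z in (𝒰 : Filter (Pts X)), z.pt ∈ W p.1 p.2 := by
    have h1 : (⋃ p ∈ (s : Set (f ⁻¹ᵁ V : Set X)), {z : Pts X | z.pt ∈ W p.1 p.2}) ∈ 𝒰 := by
      filter_upwards [hev] with z hz
      obtain ⟨q, hq, hzq⟩ := Set.mem_iUnion₂.1 (hs hz)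
      exact Set.mem_iUnion₂.2 ⟨q, hq, hzq⟩
    exact (Ultrafilter.finite_biUnion_mem_iff s.finite_toSet).1 h1
  set U₀ := W p.1 p.2
  have hU₀ : IsAffineOpen U₀ := hW p.1 p.2
  have e₀ : U₀ ≤ f ⁻¹ᵁ V := hWV p.1 p.2
  let α₀ : Γ(Y, V) →+* Germ (𝒰 : Filter (Pts X)) ℂ := (germHom hpU).comp (f.appLE V U₀ e₀).hom
  have hα₀ : ∀ a, α₀ a = ((fun z => evOn V a (Pts.map f z)) : Germ (𝒰 : Filter (Pts X)) ℂ) := fun a =>
    Germ.coe_eq.2 (hpU.mono fun z hz => evOn_appLE f e₀ a hz)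
  have hlim : ∀ a, Tendsto (fun z => evOn V a (Pts.map f z)) 𝒰 (𝓝 (evOn V a y)) := fun a =>
    (continuousAt_evOn a hyV).tendsto.comp hy
  let α' : Γ(Y, V) →+* bddRing 𝒰 := α₀.codRestrict (bddRing 𝒰).toSubring fun a => by
    rw [hα₀]; exact ⟨_, Germ.coe_tendsto.2 (hlim a)⟩
  let Sq : ValuativeCommSq f :=
    { R := bddRing 𝒰, K := Germ (𝒰 : Filter (Pts X)) ℂ,
      i₁ := Spec.map (CommRingCat.ofHom (germHom hpU)) ≫ hU₀.fromSpec,
      i₂ := Spec.map (CommRingCat.ofHom α') ≫ hV.fromSpec,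
      commSq := ⟨by
        rw [Category.assoc, ← hV.SpecMap_appLE_fromSpec f hU₀ e₀, ← Spec.map_comp_assoc, ← Spec.map_comp_assoc]
        congr 2⟩ }
  have hex : ValuativeCriterion.Existence f := by
    have h1 : (ValuativeCriterion.Existence ⊓ @QuasiCompact) f := by
      rw [← UniversallyClosed.eq_valuativeCriterion]; infer_instance
    exact h1.1
  obtain ⟨L, hL1, hL2⟩ := (hex Sq).exists_lift
  have hLV : L (closedPoint (bddRing 𝒰)) ∈ f ⁻¹ᵁ V := by
    show f (L (closedPoint (bddRing 𝒰))) ∈ V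
    rw [← Scheme.Hom.comp_apply, hL2, Scheme.Hom.comp_apply]
    exact hV.range_fromSpec.le ⟨_, rfl⟩
  obtain ⟨U, hU, hxU, eU⟩ := exists_isAffineOpen_mem_and_subset hLV
  have hsub : Set.range L ⊆ Set.range hU.fromSpec := by
    rintro _ ⟨q, rfl⟩
    rw [hU.range_fromSpec]
    exact ((specializes_closedPoint q).map L.continuous).mem_open U.2 hxU
  let L' := IsOpenImmersion.lift hU.fromSpec L hsub
  have hL' : L' ≫ hU.fromSpec = L := IsOpenImmersion.lift_fac _ _ hsub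
  let φ : Γ(X, U) →+* bddRing 𝒰 := (Spec.preimage L').hom
  have hi₁ : Spec.map (CommRingCat.ofHom ((algebraMap (bddRing 𝒰) (Germ (𝒰 : Filter (Pts X)) ℂ)).comp φ)) ≫ hU.fromSpec =
      Spec.map (CommRingCat.ofHom (germHom hpU)) ≫ hU₀.fromSpec := by
    rw [CommRingCat.ofHom_comp, Spec.map_comp, Category.assoc,
      show CommRingCat.ofHom φ = Spec.preimage L' from rfl, Spec.map_preimage, hL']
    exact hL1
  let η := (Spec.map (CommRingCat.ofHom (germHom hpU)) ≫ hU₀.fromSpec) (closedPoint _)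
  have hηU₀ : η ∈ U₀ := by
    show (Spec.map (CommRingCat.ofHom (germHom hpU)) ≫ hU₀.fromSpec) (closedPoint _) ∈ U₀
    rw [Scheme.Hom.comp_apply]
    exact hU₀.range_fromSpec.le ⟨_, rfl⟩
  have hηU : η ∈ U := by
    show (Spec.map (CommRingCat.ofHom (germHom hpU)) ≫ hU₀.fromSpec) (closedPoint _) ∈ U
    rw [← hi₁, Scheme.Hom.comp_apply]
    exact hU.range_fromSpec.le ⟨_, rfl⟩
  obtain ⟨t, htU, hηt⟩ := hU₀.exists_basicOpen_le (V := U) ⟨η, hηU⟩ hηU₀
  have hevt : ∀ᶠ z in (𝒰 : Filter (Pts X)), z.pt ∈ X.basicOpen t := by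
    have h1 : germHom hpU t ≠ 0 := fun h1 => by
      have h2 : Spec.map (CommRingCat.ofHom (germHom hpU)) (closedPoint _) ∈
          hU₀.fromSpec ⁻¹ᵁ X.basicOpen t := by
        show hU₀.fromSpec _ ∈ X.basicOpen t
        rw [← Scheme.Hom.comp_apply]; exact hηt
      rw [hU₀.fromSpec_preimage_basicOpen] at h2
      refine h2 ?_
      show germHom hpU t ∈ (closedPoint (Germ (𝒰 : Filter (Pts X)) ℂ)).asIdeal
      rw [h1]
      exact zero_mem _
    have h2 : ∀ᶠ z in (𝒰 : Filter (Pts X)), evOn U₀ t z ≠ 0 := by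
      rcases 𝒰.em (fun z => evOn U₀ t z = 0) with h3 | h3
      · exact absurd (Germ.coe_eq.2 h3 : germHom hpU t = 0) h1
      · exact h3
    filter_upwards [h2, hpU] with z hz hz'
    rw [evOn_eq _ hz'] at hz
    exact (mem_basicOpen_iff z hz' t).2 hz
  have hevU : ∀ᶠ z in (𝒰 : Filter (Pts X)), z.pt ∈ U := hevt.mono fun z hz => htU hz
  have hG : germHom hevU = (algebraMap (bddRing 𝒰) (Germ (𝒰 : Filter (Pts X)) ℂ)).comp φ := by
    have := (specMap_germHom_eq hU hU₀ hevU hpU (hU₀.basicOpen t) htU (X.basicOpen_le t) hevt).trans hi₁.symm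
    exact congrArg CommRingCat.Hom.hom (Spec.map_injective ((cancel_mono hU.fromSpec).1 this))
  have hval : ∀ a, Tendsto (evOn U a) 𝒰 (𝓝 (st 𝒰 (φ a))) := fun a => by
    have h1 : (evOn U a : Germ (𝒰 : Filter (Pts X)) ℂ) = (φ a : Germ (𝒰 : Filter (Pts X)) ℂ) :=
      RingHom.congr_fun hG a
    have h2 : (evOn U a : Germ (𝒰 : Filter (Pts X)) ℂ) ∈ bddRing 𝒰 := h1 ▸ (φ a).2
    have h3 := tendsto_st 𝒰 h2
    rwa [show (⟨_, h2⟩ : bddRing 𝒰) = φ a from Subtype.ext h1] at h3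
  have hc : ∀ c, (st 𝒰).comp φ (strOn U c) = c := fun c =>
    tendsto_nhds_unique (hval (strOn U c))
      (tendsto_const_nhds.congr' (hevU.mono fun z hz => ((evOn_eq _ hz).trans (ev_strOn z U hz c)).symm))
  let x := ofHom hU ((st 𝒰).comp φ) hc
  have hxx : x.pt ∈ U := pt_ofHom hU _ hc
  have hconv : Tendsto id (𝒰 : Filter (Pts X)) (𝓝 x) :=
    tendsto_nhds_of_affine hU hxx hevU fun a => by
      rw [evOn_eq _ hxx, ev_ofHom]
      exact hval a
  refine ⟨x, ?_, tendsto_id'.1 hconv⟩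
  have hxV : (Pts.map f x).pt ∈ V := by rw [Pts.pt_map]; exact eU hxx
  refine ext_of_ev hV hxV hyV fun a => ?_
  rw [← evOn_eq a hxV, ← evOn_eq a hyV]
  exact tendsto_nhds_unique ((continuousAt_evOn a hxV).tendsto.comp
    ((Pts.continuous_map f).continuousAt.tendsto.comp hconv)) (hlim a)

/-- Generic surjectivity on points for finitely generated domains. -/
theorem exists_ne_zero_extend {C D : Type} [CommRing C] [CommRing D] [Algebra ℂ C] [Algebra ℂ D]
    [Algebra.FiniteType ℂ C] [Algebra.FiniteType ℂ D] [IsDomain D] (ι : C →ₐ[ℂ] D)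
    (hι : Function.Injective ι) :
    ∃ g : C, g ≠ 0 ∧ ∀ χ : C →ₐ[ℂ] ℂ, χ g ≠ 0 → ∃ ψ : D →ₐ[ℂ] ℂ, ψ.comp ι = χ := by
  letI := ι.toRingHom.toAlgebra
  haveI : IsScalarTower ℂ C D := IsScalarTower.of_algebraMap_eq fun c => (ι.commutes c).symm
  haveI : IsNoetherianRing C := Algebra.FiniteType.isNoetherianRing ℂ C
  haveI : Algebra.FiniteType C D := .of_restrictScalars_finiteType ℂ C D
  have hfp : ι.toRingHom.FinitePresentation := Algebra.FinitePresentation.of_finiteType.1 ‹_›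
  obtain ⟨S, hS⟩ := PrimeSpectrum.exists_constructibleSetData_iff.2 (PrimeSpectrum.isConstructible_range_comap hfp)
  haveI : IsDomain C := hι.isDomain ι.toRingHom
  have h0 : (⟨⊥, Ideal.isPrime_bot⟩ : PrimeSpectrum C) ∈ S.toSet := by
    rw [hS]
    refine ⟨⟨⊥, Ideal.isPrime_bot⟩, PrimeSpectrum.ext ?_⟩
    exact (Ideal.comap_bot_of_injective _ hι)
  obtain ⟨P, hP, h1, h2⟩ := Set.mem_iUnion₂.1 (show _ ∈ ⋃ P ∈ S, P.toSet from h0)
  refine ⟨P.f, fun h => h2 (by simp [PrimeSpectrum.mem_zeroLocus, h]), fun χ hχ => ?_⟩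
  have hm : (⟨RingHom.ker χ.toRingHom, RingHom.ker_isPrime _⟩ : PrimeSpectrum C) ∈
      Set.range (PrimeSpectrum.comap ι.toRingHom) := by
    rw [← hS]
    refine Set.mem_biUnion hP ⟨fun a ha => ?_, fun h => hχ ?_⟩
    · have : a = 0 := Ideal.mem_bot.1 (h1 ha)
      rw [this]
      exact zero_mem _
    · exact h rfl
  obtain ⟨Q, hQ⟩ := hm
  obtain ⟨M, hM, hQM⟩ := Q.asIdeal.exists_le_maximal Q.2.ne_top
  obtain ⟨ψ, hψ⟩ := exists_algHom_of_isMaximal M
  refine ⟨ψ, (algHom_eq_of_ker_le fun a ha => ?_).symm⟩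
  have : a ∈ Q.asIdeal.comap ι.toRingHom := (PrimeSpectrum.ext_iff.1 hQ).ge ha
  have h3 : ι a ∈ RingHom.ker ψ.toRingHom := hψ.ge (hQM this)
  exact h3

/-- Proper maps of points come from universally closed morphisms. -/
theorem existence_of_isProperMap [LocallyOfFiniteType (X ↘ SC)] [LocallyOfFiniteType (Y ↘ SC)]
    (f : X ⟶ Y) [f.IsOver SC] [QuasiCompact f] (hf : IsProperMap (Pts.map f)) :
    ValuativeCriterion.Existence f := by
  intro Sq
  obtain ⟨V, hV, hyV, -⟩ := exists_isAffineOpen_mem_and_subset (x := Sq.i₂ (closedPoint Sq.R)) (U := ⊤) trivial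
  have hsub₂ : Set.range Sq.i₂ ⊆ Set.range hV.fromSpec := by
    rintro _ ⟨q, rfl⟩
    rw [hV.range_fromSpec]
    exact ((specializes_closedPoint q).map Sq.i₂.continuous).mem_open V.2 hyV
  let α : Γ(Y, V) →+* Sq.R := (Spec.preimage (IsOpenImmersion.lift hV.fromSpec Sq.i₂ hsub₂)).hom
  have hα : Spec.map (CommRingCat.ofHom α) ≫ hV.fromSpec = Sq.i₂ := by
    rw [show CommRingCat.ofHom α = Spec.preimage (IsOpenImmersion.lift hV.fromSpec Sq.i₂ hsub₂) from rfl,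
      Spec.map_preimage, IsOpenImmersion.lift_fac]
  let η := Sq.i₁ (closedPoint Sq.K)
  have hηV : η ∈ f ⁻¹ᵁ V := by
    show f (Sq.i₁ (closedPoint Sq.K)) ∈ V
    rw [← Scheme.Hom.comp_apply, Sq.commSq.w, Scheme.Hom.comp_apply, ← hα, Scheme.Hom.comp_apply]
    exact hV.range_fromSpec.le ⟨_, rfl⟩
  choose W hW hxW hWV using fun (x : X) (hx : x ∈ f ⁻¹ᵁ V) =>
    exists_isAffineOpen_mem_and_subset (x := x) (U := f ⁻¹ᵁ V) hx
  obtain ⟨s, hs⟩ := (f.isCompact_preimage hV.isCompact).elim_finite_subcover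
    (fun p : (f ⁻¹ᵁ V : Set X) => (W p.1 p.2 : Set X)) (fun p => (W p.1 p.2).2)
    (fun x hx => Set.mem_iUnion.2 ⟨⟨x, hx⟩, hxW x hx⟩)
  -- the generic point on affines around it
  have hfac : ∀ {U : X.Opens} (hU : IsAffineOpen U), η ∈ U →
      ∃ β : Γ(X, U) →+* Sq.K, Spec.map (CommRingCat.ofHom β) ≫ hU.fromSpec = Sq.i₁ := by
    intro U hU hη
    have hsub : Set.range Sq.i₁ ⊆ Set.range hU.fromSpec := by
      rintro _ ⟨q, rfl⟩
      rw [hU.range_fromSpec, Subsingleton.elim q (closedPoint Sq.K)]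
      exact hη
    refine ⟨(Spec.preimage (IsOpenImmersion.lift hU.fromSpec Sq.i₁ hsub)).hom, ?_⟩
    rw [show CommRingCat.ofHom (Spec.preimage (IsOpenImmersion.lift hU.fromSpec Sq.i₁ hsub)).hom =
      Spec.preimage (IsOpenImmersion.lift hU.fromSpec Sq.i₁ hsub) from rfl,
      Spec.map_preimage, IsOpenImmersion.lift_fac]
  classical
  let t := s.filter fun p => η ∈ W p.1 p.2
  choose β hβ using fun p : t => hfac (hW p.1.1 p.1.2) (Finset.mem_filter.1 p.2).2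
  by_cases hgood : ∃ p : t, ∀ b, β p b ∈ Set.range (algebraMap Sq.R Sq.K)
  · obtain ⟨p, hp⟩ := hgood
    have hinj : Function.Injective (algebraMap Sq.R Sq.K) := IsFractionRing.injective _ _
    let φ : Γ(X, W p.1.1 p.1.2) →+* Sq.R :=
      (RingEquiv.ofBijective (algebraMap Sq.R Sq.K).rangeRestrict
        ⟨fun a b h => hinj (congrArg Subtype.val h), (algebraMap Sq.R Sq.K).rangeRestrict_surjective⟩).symm.toRingHom.comp
        ((β p).codRestrict (algebraMap Sq.R Sq.K).range fun b => hp b)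
    have hφ : (algebraMap Sq.R Sq.K).comp φ = β p := RingHom.ext fun b => by
      have := (RingEquiv.ofBijective (algebraMap Sq.R Sq.K).rangeRestrict
        ⟨fun a b h => hinj (congrArg Subtype.val h), (algebraMap Sq.R Sq.K).rangeRestrict_surjective⟩).apply_symm_apply
        ((β p).codRestrict (algebraMap Sq.R Sq.K).range (fun b => hp b) b)
      exact congrArg Subtype.val this
    have e : W p.1.1 p.1.2 ≤ f ⁻¹ᵁ V := hWV p.1.1 p.1.2
    refine ⟨⟨⟨Spec.map (CommRingCat.ofHom φ) ≫ (hW p.1.1 p.1.2).fromSpec, ?_, ?_⟩⟩⟩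
    · rw [← Spec.map_comp_assoc, ← CommRingCat.ofHom_comp, hφ, hβ p]
    · have hw : CommRingCat.ofHom ((β p).comp (f.appLE V _ e).hom) = CommRingCat.ofHom ((algebraMap Sq.R Sq.K).comp α) := by
        apply Spec.map_injective
        rw [← cancel_mono hV.fromSpec, CommRingCat.ofHom_comp, CommRingCat.ofHom_comp, Spec.map_comp, Spec.map_comp,
          Category.assoc, Category.assoc, hα, CommRingCat.ofHom_hom, hV.SpecMap_appLE_fromSpec f (hW p.1.1 p.1.2) e,
          ← Category.assoc, hβ p]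
        exact Sq.commSq.w
      rw [Category.assoc, ← hV.SpecMap_appLE_fromSpec f (hW p.1.1 p.1.2) e, ← Spec.map_comp_assoc, ← hα]
      congr 2
      refine CommRingCat.hom_ext (RingHom.ext fun a => hinj ?_)
      have := congrArg (fun k : CommRingCat.of Γ(Y, V) ⟶ CommRingCat.of Sq.K => k.hom a) hw
      rw [← hφ] at this
      exact this
  push Not at hgood
  choose b hb using hgood
  have hinv : ∀ p : t, ∃ r : Sq.R, algebraMap Sq.R Sq.K r * β p (b p) = 1 ∧ ¬ IsUnit r := by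
    intro p
    rcases (ValuationRing.isInteger_or_isInteger (R := Sq.R) (β p (b p))) with h | ⟨r, hr⟩
    · exact absurd h (hb p)
    · have h0 : β p (b p) ≠ 0 := fun h => hb p ⟨0, by rw [h, map_zero]⟩
      refine ⟨r, by rw [hr, inv_mul_cancel₀ h0], fun hu => hb p ⟨↑hu.unit⁻¹, ?_⟩⟩
      have : algebraMap Sq.R Sq.K r * algebraMap Sq.R Sq.K ↑hu.unit⁻¹ = 1 := by
        rw [← map_mul, IsUnit.mul_val_inv, map_one]
      rw [hr] at this
      exact (inv_mul_eq_one₀ h0).1 this |>.symm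
  choose r hr hru using hinv
  obtain ⟨W₀, hW₀, hηW₀, hW₀t⟩ : ∃ W₀ : X.Opens, IsAffineOpen W₀ ∧ η ∈ W₀ ∧
      ∀ x ∈ W₀, x ∈ f ⁻¹ᵁ V ∧ ∀ p : t, x ∈ W p.1.1 p.1.2 := by
    have ho : IsOpen ((f ⁻¹ᵁ V : Set X) ∩ ⋂ p : t, (W p.1.1 p.1.2 : Set X)) :=
      (f ⁻¹ᵁ V).2.inter (isOpen_iInter_of_finite fun p : t => (W p.1.1 p.1.2).2)
    obtain ⟨W₀, hW₀, hη, hsub⟩ := exists_isAffineOpen_mem_and_subset (x := η) (U := ⟨_, ho⟩)
      ⟨hηV, Set.mem_iInter.2 fun p => (Finset.mem_filter.1 p.2).2⟩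
    exact ⟨W₀, hW₀, hη, fun x hx => ⟨(hsub hx).1, fun p => Set.mem_iInter.1 (hsub hx).2 p⟩⟩
  obtain ⟨β₀, hβ₀⟩ := hfac hW₀ hηW₀
  have e₀ : W₀ ≤ f ⁻¹ᵁ V := fun x hx => (hW₀t x hx).1
  have hres : ∀ p : t, β₀.comp (X.presheaf.map (homOfLE (fun x hx => (hW₀t x hx).2 p : W₀ ≤ W p.1.1 p.1.2)).op).hom = β p := by
    intro p
    refine congrArg CommRingCat.Hom.hom (Spec.map_injective (a₁ := CommRingCat.ofHom (β₀.comp _)) (a₂ := CommRingCat.ofHom (β p)) ?_)
    rw [← cancel_mono (hW p.1.1 p.1.2).fromSpec, CommRingCat.ofHom_comp, Spec.map_comp, Category.assoc,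
      CommRingCat.ofHom_hom, (hW p.1.1 p.1.2).map_fromSpec hW₀, hβ₀, hβ p]
  have hαβ : β₀.comp (f.appLE V W₀ e₀).hom = (algebraMap Sq.R Sq.K).comp α := by
    refine congrArg CommRingCat.Hom.hom (Spec.map_injective (a₁ := CommRingCat.ofHom (β₀.comp _))
      (a₂ := CommRingCat.ofHom ((algebraMap Sq.R Sq.K).comp α)) ?_)
    rw [← cancel_mono hV.fromSpec, CommRingCat.ofHom_comp, CommRingCat.ofHom_comp, Spec.map_comp, Spec.map_comp,
      Category.assoc, Category.assoc, hα, CommRingCat.ofHom_hom, hV.SpecMap_appLE_fromSpec f hW₀ e₀,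
      ← Category.assoc, hβ₀]
    exact Sq.commSq.w
  letI : Algebra ℂ Sq.R := (α.comp (strOn V)).toAlgebra
  letI : Algebra ℂ Sq.K := ((algebraMap Sq.R Sq.K).comp (α.comp (strOn V))).toAlgebra
  haveI : IsScalarTower ℂ Sq.R Sq.K := IsScalarTower.of_algebraMap_eq fun c => rfl
  have hβstr : ∀ c, β₀ (strOn W₀ c) = algebraMap ℂ Sq.K c := fun c => by
    rw [← appLE_strOn f e₀ c]
    exact RingHom.congr_fun hαβ (strOn V c)
  obtain ⟨n, gV, hgV⟩ := exists_gens hV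
  obtain ⟨m, gW, hgW⟩ := exists_gens hW₀
  let gC : Fin n ⊕ t → Sq.R := Sum.elim (fun k => α (gV k)) r
  let C := Algebra.adjoin ℂ (Set.range fun k => algebraMap Sq.R Sq.K (gC k))
  let D := Algebra.adjoin ℂ ((Set.range fun k => algebraMap Sq.R Sq.K (gC k)) ∪ Set.range fun k => β₀ (gW k))
  haveI : Algebra.FiniteType ℂ C := Algebra.FiniteType.adjoin_of_finite (Set.finite_range _)
  haveI : Algebra.FiniteType ℂ D :=
    Algebra.FiniteType.adjoin_of_finite ((Set.finite_range _).union (Set.finite_range _))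
  have hCD : C ≤ D := Algebra.adjoin_mono Set.subset_union_left
  have hCR : C ≤ (IsScalarTower.toAlgHom ℂ Sq.R Sq.K).range :=
    Algebra.adjoin_le fun _ ⟨k, hk⟩ => ⟨gC k, hk⟩
  let CR : C →ₐ[ℂ] Sq.R := (AlgEquiv.ofInjective (IsScalarTower.toAlgHom ℂ Sq.R Sq.K)
    (IsFractionRing.injective Sq.R Sq.K)).symm.toAlgHom.comp (Subalgebra.inclusion hCR)
  obtain ⟨M, hM, hle⟩ := ((IsLocalRing.maximalIdeal Sq.R).comap CR.toRingHom).exists_le_maximal
    (Ideal.comap_ne_top _ (IsLocalRing.maximalIdeal.isMaximal _).ne_top)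
  obtain ⟨c, hcM⟩ := exists_algHom_of_isMaximal M
  obtain ⟨g, hg, hext⟩ := exists_ne_zero_extend (Subalgebra.inclusion hCD) (Subalgebra.inclusion_injective hCD)
  have hcl := mem_closure_setOf_ne_zero hg c
  rw [mem_closure_iff_nhdsWithin_neBot] at hcl
  let l₀ : Filter (C →ₐ[ℂ] ℂ) := comap (fun χ => (χ : C → ℂ)) (𝓝 (c : C → ℂ)) ⊓ 𝓟 {χ | χ g ≠ 0}
  haveI : l₀.NeBot := by
    rw [← map_neBot_iff fun χ : C →ₐ[ℂ] ℂ => (χ : C → ℂ), Filter.push_pull', map_principal]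
    exact hcl
  let l₁ : Ultrafilter (C →ₐ[ℂ] ℂ) := Ultrafilter.of l₀
  have hl₁ : (l₁ : Filter (C →ₐ[ℂ] ℂ)) ≤ l₀ := Ultrafilter.of_le _
  have hev : ∀ᶠ χ in (l₁ : Filter (C →ₐ[ℂ] ℂ)), ∃ ψ : D →ₐ[ℂ] ℂ, ψ.comp (Subalgebra.inclusion hCD) = χ :=
    Filter.Eventually.filter_mono hl₁ ((mem_inf_of_right (mem_principal_self _) : {χ : C →ₐ[ℂ] ℂ | χ g ≠ 0} ∈ l₀) |>
      fun h => Filter.mem_of_superset h fun χ hχ => hext χ hχ)
  have hWD : ∀ a, β₀ a ∈ D := fun a => by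
    obtain ⟨P, rfl⟩ := hgW a
    induction P using MvPolynomial.induction_on with
    | C c => rw [MvPolynomial.eval₂Hom_C, hβstr]; exact D.algebraMap_mem c
    | add p q hp hq => rw [map_add, map_add]; exact D.add_mem hp hq
    | mul_X p k hp =>
      rw [map_mul, map_mul, MvPolynomial.eval₂Hom_X']
      exact D.mul_mem hp (Algebra.subset_adjoin (Or.inr ⟨k, rfl⟩))
  let βD : Γ(X, W₀) →+* D := β₀.codRestrict D.toSubring hWD
  have hβD : ∀ c, βD (strOn W₀ c) = algebraMap ℂ D c := fun c => Subtype.ext (hβstr c)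
  classical
  let ψ : (C →ₐ[ℂ] ℂ) → Option (D →ₐ[ℂ] ℂ) := fun χ =>
    if h : ∃ ψ : D →ₐ[ℂ] ℂ, ψ.comp (Subalgebra.inclusion hCD) = χ then some h.choose else none
  obtain ⟨χ₀, ψ₀, hψ₀⟩ := hev.exists
  let Ψ : (C →ₐ[ℂ] ℂ) → (D →ₐ[ℂ] ℂ) := fun χ => (ψ χ).getD ψ₀
  have hΨ : ∀ᶠ χ in (l₁ : Filter (C →ₐ[ℂ] ℂ)), (Ψ χ).comp (Subalgebra.inclusion hCD) = χ :=
    hev.mono fun χ h => by
      show ((ψ χ).getD ψ₀).comp _ = χ
      simp only [ψ, dif_pos h, Option.getD_some]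
      exact h.choose_spec
  let z : (C →ₐ[ℂ] ℂ) → Pts X := fun χ => ofHom hW₀ ((Ψ χ).toRingHom.comp βD) fun c => by
    rw [RingHom.comp_apply, hβD]
    exact (Ψ χ).commutes c
  have hz : ∀ χ, (z χ).pt ∈ W₀ := fun χ => pt_ofHom hW₀ _ _
  have hzev : ∀ χ a, evOn W₀ a (z χ) = Ψ χ (βD a) := fun χ a => by
    rw [evOn_eq _ (hz χ)]; exact ev_ofHom hW₀ _ _ a
  have hCα : ∀ a, algebraMap Sq.R Sq.K (α a) ∈ C := fun a => by
    obtain ⟨P, rfl⟩ := hgV a
    induction P using MvPolynomial.induction_on with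
    | C c => rw [MvPolynomial.eval₂Hom_C]; exact C.algebraMap_mem c
    | add p q hp hq => rw [map_add, map_add, map_add]; exact C.add_mem hp hq
    | mul_X p k hp =>
      rw [map_mul, map_mul, map_mul, MvPolynomial.eval₂Hom_X']
      exact C.mul_mem hp (Algebra.subset_adjoin ⟨Sum.inl k, rfl⟩)
  let cV : Γ(Y, V) →+* ℂ := c.toRingHom.comp (((algebraMap Sq.R Sq.K).comp α).codRestrict C.toSubring hCα)
  have hcV : ∀ k, cV (strOn V k) = k := fun k => c.commutes k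
  let y := ofHom hV cV hcV
  have hy : Tendsto (fun χ => Pts.map f (z χ)) (l₁ : Filter (C →ₐ[ℂ] ℂ)) (𝓝 y) := by
    refine tendsto_nhds_of_affine hV (pt_ofHom hV cV hcV) (Eventually.of_forall fun χ => ?_) fun a => ?_
    · rw [Pts.pt_map]; exact e₀ (hz χ)
    · have h1 : Tendsto (fun χ : C →ₐ[ℂ] ℂ => χ ⟨algebraMap Sq.R Sq.K (α a), hCα a⟩) (l₁ : Filter _) (𝓝 (cV a)) :=
        ((((continuous_apply _).tendsto (c : C → ℂ)).comp tendsto_comap).mono_left inf_le_left).mono_left hl₁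
      rw [evOn_eq _ (pt_ofHom hV cV hcV), show y.ev V _ a = cV a from ev_ofHom hV cV hcV a]
      refine h1.congr' (hΨ.mono fun χ hχ => ?_)
      show _ = evOn V a (Pts.map f (z χ))
      rw [← evOn_appLE f e₀ a (hz χ), hzev]
      refine (AlgHom.congr_fun hχ ⟨algebraMap Sq.R Sq.K (α a), hCα a⟩).symm.trans ?_
      exact congrArg (Ψ χ) (Subtype.ext (RingHom.congr_fun hαβ a).symm)
  obtain ⟨x, hxy, hx⟩ := (isProperMap_iff_ultrafilter.1 hf).2 (𝒰 := l₁.map z) (y := y)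
    (by rw [Ultrafilter.coe_map, tendsto_map'_iff]; exact hy)
  rw [Ultrafilter.coe_map] at hx
  have hxV : x.pt ∈ f ⁻¹ᵁ V := by
    show f x.pt ∈ V
    rw [← Pts.pt_map, hxy]
    exact pt_ofHom hV cV hcV
  obtain ⟨p, hps, hxp⟩ : ∃ p ∈ s, x.pt ∈ W p.1 p.2 := by simpa using hs hxV
  have hclos : x.pt ∈ closure ({η} : Set X) := by
    refine isClosed_closure.mem_of_tendsto (b := (l₁ : Filter (C →ₐ[ℂ] ℂ)))
      ((Pts.continuous_pt.tendsto x).comp hx) (Eventually.of_forall fun χ => ?_)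
    show (z χ).pt ∈ closure ({η} : Set X)
    have hη' : η = hW₀.fromSpec (⟨RingHom.ker β₀, RingHom.ker_isPrime _⟩ : PrimeSpectrum Γ(X, W₀)) := by
      show Sq.i₁ (closedPoint Sq.K) = _
      rw [← hβ₀, Scheme.Hom.comp_apply]
      refine congrArg hW₀.fromSpec (PrimeSpectrum.ext ?_)
      show Ideal.comap β₀ (IsLocalRing.maximalIdeal Sq.K) = RingHom.ker β₀
      rw [IsLocalRing.maximalIdeal_eq_bot]
      rfl
    rw [← fromSpec_primeAt hW₀ (z χ) (hz χ), hη', ← specializes_iff_mem_closure]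
    refine ((PrimeSpectrum.le_iff_specializes (⟨RingHom.ker β₀, RingHom.ker_isPrime _⟩ : PrimeSpectrum Γ(X, W₀))
      (primeAt (z χ) (hz χ))).1 fun a ha => ?_).map hW₀.fromSpec.continuous
    show (z χ).ev W₀ (hz χ) a = 0
    rw [← evOn_eq a (hz χ), hzev, show βD a = 0 from Subtype.ext ha, map_zero]
  have hηp : η ∈ W p.1 p.2 := by
    obtain ⟨w, hw, hw'⟩ := mem_closure_iff.1 hclos _ (W p.1 p.2).2 hxp
    rwa [show w = η from hw'] at hw
  let p' : t := ⟨p, Finset.mem_filter.2 ⟨hps, hηp⟩⟩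
  have hrC : algebraMap Sq.R Sq.K (r p') ∈ C := Algebra.subset_adjoin ⟨Sum.inr p', rfl⟩
  have hc0 : c ⟨_, hrC⟩ = 0 := by
    refine RingHom.mem_ker.1 (hcM.ge (hle ?_))
    show CR ⟨_, hrC⟩ ∈ IsLocalRing.maximalIdeal Sq.R
    have : CR ⟨algebraMap Sq.R Sq.K (r p'), hrC⟩ = r p' := by
      apply IsFractionRing.injective Sq.R Sq.K
      exact congrArg Subtype.val ((AlgEquiv.ofInjective (IsScalarTower.toAlgHom ℂ Sq.R Sq.K)
        (IsFractionRing.injective Sq.R Sq.K)).apply_symm_apply _)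
    rw [this]
    exact hru p'
  have h1 : Tendsto (fun χ => evOn (W p.1 p.2) (b p') (z χ) * χ ⟨_, hrC⟩) (l₁ : Filter (C →ₐ[ℂ] ℂ))
      (𝓝 (evOn (W p.1 p.2) (b p') x * 0)) := by
    refine ((continuousAt_evOn (b p') hxp).tendsto.comp hx).mul ?_
    rw [← hc0]
    exact ((((continuous_apply _).tendsto (c : C → ℂ)).comp tendsto_comap).mono_left inf_le_left).mono_left hl₁
  have h2 : Tendsto (fun χ => evOn (W p.1 p.2) (b p') (z χ) * χ ⟨_, hrC⟩) (l₁ : Filter (C →ₐ[ℂ] ℂ)) (𝓝 1) := by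
    refine tendsto_const_nhds.congr' (hΨ.mono fun χ hχ => ?_)
    show 1 = evOn (W p.1 p.2) (b p') (z χ) * χ ⟨_, hrC⟩
    have hle' : W₀ ≤ W p.1 p.2 := fun x hx => (hW₀t x hx).2 p'
    rw [← evOn_map hle' (b p') (z χ) (hz χ), hzev, ← AlgHom.congr_fun hχ ⟨_, hrC⟩, AlgHom.comp_apply, ← map_mul]
    refine ((congrArg (Ψ χ) (Subtype.ext ?_)).trans (map_one (Ψ χ))).symm
    show β₀ (X.presheaf.map _ (b p')) * algebraMap Sq.R Sq.K (r p') = 1
    rw [mul_comm]
    exact (congrArg (_ * ·) (RingHom.congr_fun (hres p') (b p'))).trans (hr p')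
  rw [mul_zero] at h1
  exact absurd (tendsto_nhds_unique h1 h2) zero_ne_one

theorem isSeparatedMap_iff [LocallyOfFiniteType (X ↘ SC)] [LocallyOfFiniteType (Y ↘ SC)] (f : X ⟶ Y)
    [f.IsOver SC] : IsSeparated f ↔ IsSeparatedMap (Pts.map f) := by
  haveI := lft_of_over f
  haveI := isLocallyNoetherian (X := X)
  letI : (pullback.diagonalObj f).Over SC := An.pullbackOver f f
  haveI : LocallyOfFiniteType (pullback f f ↘ SC) := by
    show LocallyOfFiniteType (pullback.fst f f ≫ (X ↘ SC))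
    infer_instance
  haveI : LocallyOfFiniteType (pullback.diagonalObj f ↘ SC) := ‹_›
  haveI : (pullback.diagonal f).IsOver SC := ⟨by
    show pullback.diagonal f ≫ pullback.fst f f ≫ (X ↘ SC) = _
    rw [pullback.diagonal_fst_assoc]⟩
  have hH := isHomeomorph_pullback (X := X) (Y := X) (S := Y) f f
  have hrange : (fun z : An.Pts (pullback f f) =>
      (⟨(An.Pts.map (pullback.fst f f) z, An.Pts.map (pullback.snd f f) z),
        An.Pts.map_pullback_condition f f z⟩ : {q : An.Pts X × An.Pts X // An.Pts.map f q.1 = An.Pts.map f q.2})) ''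
      Set.range (Pts.map (pullback.diagonal f)) = Function.pullbackDiagonal (Pts.map f) := by
    ext q
    constructor
    · rintro ⟨_, ⟨w, rfl⟩, rfl⟩
      show Pts.map (pullback.fst f f) _ = Pts.map (pullback.snd f f) _
      refine Subtype.ext ?_
      simp
    · intro hq
      refine ⟨Pts.map (pullback.diagonal f) q.1.1, ⟨_, rfl⟩, Subtype.ext (Prod.ext (Subtype.ext ?_) ((Subtype.ext ?_ : _ = q.1.1).trans hq))⟩
      · simp
      · simp
  rw [isSeparatedMap_iff_isClosed_diagonal, ← hrange,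
    (show IsHomeomorph _ from hH).isClosedEmbedding.isClosed_iff_image_isClosed.symm, range_map,
    ← isClosed_iff (isLocallyConstructible_range (pullback.diagonal f))]
  refine ⟨fun _ => (pullback.diagonal f).isClosedEmbedding.isClosed_range, fun h => ?_⟩
  exact ⟨IsClosedImmersion.of_isPreimmersion _ h⟩

theorem isProper_iff [LocallyOfFiniteType (X ↘ SC)] [LocallyOfFiniteType (Y ↘ SC)]
    (f : X ⟶ Y) [f.IsOver SC] [QuasiCompact f] :
    IsProper f ↔ IsProperMap (Pts.map f) ∧ IsSeparatedMap (Pts.map f) := by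
  refine ⟨fun _ => ⟨isProperMap_of_isProper f, (isSeparatedMap_iff f).1 inferInstance⟩, fun ⟨h1, h2⟩ => ?_⟩
  haveI := lft_of_over f
  haveI := (isSeparatedMap_iff f).2 h2
  haveI := UniversallyClosed.of_valuativeCriterion f (existence_of_isProperMap f h1)
  exact {}

end AnLib

namespace AnLib

variable {X : Scheme.{0}} [X.Over SC]

instance : (X ↘ SC).IsOver SC := ⟨Category.comp_id _⟩

theorem subsingleton_pts_SC : Subsingleton (Pts SC) :=
  ⟨fun a b => Subtype.ext (by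
    have ha : a.1 ≫ 𝟙 SC = 𝟙 SC := a.2
    have hb : b.1 ≫ 𝟙 SC = 𝟙 SC := b.2
    rw [Category.comp_id] at ha hb
    rw [ha, hb])⟩

theorem map_over_const (a : Pts SC) : Pts.map (X ↘ SC) = fun _ => a :=
  funext fun _ => subsingleton_pts_SC.elim _ _

theorem isSeparated_iff_t2Space [LocallyOfFiniteType (X ↘ SC)] :
    IsSeparated (X ↘ SC) ↔ T2Space (Pts X) := by
  haveI : LocallyOfFiniteType (SC ↘ SC) := inferInstanceAs (LocallyOfFiniteType (𝟙 SC))
  rw [isSeparatedMap_iff, map_over_const ⟨𝟙 SC, Category.comp_id _⟩, ← t2space_iff_isSeparatedMap]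

theorem isProper_iff_compact [LocallyOfFiniteType (X ↘ SC)] [QuasiCompact (X ↘ SC)] :
    IsProper (X ↘ SC) ↔ CompactSpace (Pts X) ∧ T2Space (Pts X) := by
  haveI : LocallyOfFiniteType (SC ↘ SC) := inferInstanceAs (LocallyOfFiniteType (𝟙 SC))
  haveI := subsingleton_pts_SC
  rw [isProper_iff, map_over_const ⟨𝟙 SC, Category.comp_id _⟩, ← t2space_iff_isSeparatedMap, isProperMap_const_iff]

end AnLib
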