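import Groth.Agent.AnLib.Dense
import Mathlib.Analysis.Complex.RemovableSingularity
import Mathlib.Analysis.Complex.Liouville
import Mathlib.LinearAlgebra.Lagrange
import Mathlib.Algebra.MvPolynomial.Equiv

/-! Separately holomorphic functions of polynomial growth off a hypersurface are polynomials. -/

set_option autoImplicit false

open Filter Topology Polynomial

namespace AnLib

/-- An entire function of polynomial growth is a polynomial. -/
theorem exists_poly_of_growth {N : ℕ} : ∀ {g : ℂ → ℂ}, Differentiable ℂ g → ∀ {C : ℝ},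
    (∀ t, ‖g t‖ ≤ C * (1 + ‖t‖) ^ N) → ∃ P : ℂ[X], P.natDegree ≤ N ∧ ∀ t, P.eval t = g t := by
  induction N with
  | zero =>
    intro g hg C hC
    refine ⟨Polynomial.C (g 0), le_of_eq (natDegree_C _), fun t => ?_⟩
    rw [eval_C]
    refine hg.apply_eq_apply_of_bounded ?_ 0 t
    refine isBounded_iff_forall_norm_le.2 ⟨C, ?_⟩
    rintro _ ⟨s, rfl⟩
    simpa using hC s
  | succ N ih =>
    intro g hg C hC
    have hq : Differentiable ℂ (dslope g 0) := by
      rw [← differentiableOn_univ]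
      exact (Complex.differentiableOn_dslope univ_mem).2 hg.differentiableOn
    obtain ⟨B, hB⟩ := (isCompact_closedBall (0 : ℂ) 1).exists_bound_of_continuousOn hq.continuous.continuousOn
    have hbound : ∀ t, ‖dslope g 0 t‖ ≤ (max B 0 + 2 * (|C| + ‖g 0‖)) * (1 + ‖t‖) ^ N := fun t => by
      have h1 : 1 ≤ (1 + ‖t‖) ^ N := one_le_pow₀ (le_add_of_nonneg_right (norm_nonneg t))
      rcases le_total ‖t‖ 1 with ht | ht
      · calc ‖dslope g 0 t‖ ≤ max B 0 := (hB t (by simpa using ht)).trans (le_max_left _ _)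
          _ ≤ (max B 0 + 2 * (|C| + ‖g 0‖)) * 1 := by
            rw [mul_one]; exact le_add_of_nonneg_right (by positivity)
          _ ≤ _ := mul_le_mul_of_nonneg_left h1 (by positivity)
      · have ht0 : t ≠ 0 := fun h => by rw [h, norm_zero] at ht; exact absurd ht (by norm_num)
        rw [dslope_of_ne _ ht0, slope_def_field, sub_zero, norm_div, div_le_iff₀ (norm_pos_iff.2 ht0)]
        calc ‖g t - g 0‖ ≤ ‖g t‖ + ‖g 0‖ := norm_sub_le _ _
          _ ≤ (|C| + ‖g 0‖) * (1 + ‖t‖) ^ (N + 1) := by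
            rw [add_mul]
            refine add_le_add ((hC t).trans (mul_le_mul_of_nonneg_right (le_abs_self C) (by positivity))) ?_
            exact le_mul_of_one_le_right (norm_nonneg _) (one_le_pow₀ (le_add_of_nonneg_right (norm_nonneg t)))
          _ ≤ (|C| + ‖g 0‖) * ((1 + ‖t‖) ^ N * (2 * ‖t‖)) := by
            rw [pow_succ]
            gcongr
            linarith
          _ = 2 * (|C| + ‖g 0‖) * (1 + ‖t‖) ^ N * ‖t‖ := by ring
          _ ≤ _ := by
            gcongr
            exact le_add_of_nonneg_left (le_max_right _ _)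
    obtain ⟨Q, hQ, hQe⟩ := ih hq hbound
    refine ⟨Polynomial.C (g 0) + X * Q, ?_, fun t => ?_⟩
    · refine (natDegree_add_le _ _).trans (max_le (by simp) (natDegree_mul_le.trans ?_))
      rw [natDegree_X]; omega
    · have := sub_smul_dslope g 0 t
      rw [sub_zero, smul_eq_mul] at this
      rw [eval_add, eval_C, eval_mul, eval_X, hQe, this]
      ring

/-- The one-variable statement with finitely many removable singularities. -/
theorem exists_poly_of_growth_off_finite {f : ℂ → ℂ} {S : Set ℂ} (hS : S.Finite) {N : ℕ} {C : ℝ}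
    (hf : ∀ t ∉ S, DifferentiableAt ℂ f t) (hb : ∀ t ∉ S, ‖f t‖ ≤ C * (1 + ‖t‖) ^ N) :
    ∃ P : ℂ[X], P.natDegree ≤ N ∧ ∀ t ∉ S, P.eval t = f t := by
  let g : ℂ → ℂ := fun t => limUnder (𝓝[≠] t) f
  have hnear : ∀ t, ∀ᶠ s in 𝓝[≠] t, s ∉ S := fun t => by
    have h1 : IsOpen (S \ {t})ᶜ := (hS.sdiff).isClosed.isOpen_compl
    have h2 : (S \ {t})ᶜ ∈ 𝓝 t := h1.mem_nhds (by simp)
    filter_upwards [nhdsWithin_le_nhds h2, self_mem_nhdsWithin] with s hs hst hsS
    exact hs ⟨hsS, hst⟩
  have hfg : ∀ t ∉ S, g t = f t := fun t ht =>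
    ((hf t ht).continuousAt.tendsto.mono_left nhdsWithin_le_nhds).limUnder_eq
  have hdiff : ∀ t, DifferentiableAt ℂ g t := fun t => by
    have h1 : ∀ᶠ s in 𝓝[≠] t, s ∉ S ∧ ‖f s‖ ≤ |C| * (1 + (‖t‖ + 1)) ^ N := by
      filter_upwards [hnear t, nhdsWithin_le_nhds (Metric.closedBall_mem_nhds t zero_lt_one)] with s hs hst
      refine ⟨hs, (hb s hs).trans (mul_le_mul (le_abs_self C) (pow_le_pow_left₀ (by positivity) ?_ N)
        (by positivity) (abs_nonneg C))⟩
      have := norm_le_norm_add_norm_sub' s t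
      rw [mem_closedBall_iff_norm] at hst
      linarith
    obtain ⟨U, hU, hUs⟩ := eventually_nhdsWithin_iff.1 h1 |>.exists_mem
    have hd : DifferentiableOn ℂ f (U \ {t}) := fun s hs =>
      (hf s (hUs s hs.1 hs.2).1).differentiableWithinAt
    have hbd : BddAbove (norm ∘ f '' (U \ {t})) := ⟨|C| * (1 + (‖t‖ + 1)) ^ N, by
      rintro _ ⟨s, hs, rfl⟩; exact (hUs s hs.1 hs.2).2⟩
    have h2 := (Complex.differentiableOn_update_limUnder_of_bddAbove hU hd hbd).differentiableAt hU
    refine h2.congr_of_eventuallyEq ?_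
    filter_upwards [hU] with s hs
    by_cases hst : s = t
    · subst hst; rw [Function.update_self]
    · rw [Function.update_of_ne hst, hfg s (hUs s hs hst).1]
  have hgb : ∀ t, ‖g t‖ ≤ C * (1 + ‖t‖) ^ N := fun t => by
    refine le_of_tendsto_of_tendsto (f := fun s => ‖f s‖) (g := fun s => C * (1 + ‖s‖) ^ N)
      (b := 𝓝[≠] t) ?_ ?_ ((hnear t).mono hb)
    · refine (((hdiff t).continuousAt.tendsto.mono_left nhdsWithin_le_nhds).congr' ?_).norm
      exact (hnear t).mono hfg
    · exact (Continuous.tendsto (by fun_prop) t).mono_left nhdsWithin_le_nhds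
  obtain ⟨P, hP, hPe⟩ := exists_poly_of_growth (fun t => hdiff t) hgb
  exact ⟨P, hP, fun t ht => (hPe t).trans (hfg t ht)⟩

/-- Polynomial bound. -/
theorem exists_bound_mvPolynomial {n : ℕ} (P : MvPolynomial (Fin n) ℂ) :
    ∃ (C : ℝ) (N : ℕ), 0 ≤ C ∧ ∀ p : Fin n → ℂ, ‖MvPolynomial.eval p P‖ ≤ C * (1 + ‖p‖) ^ N := by
  induction P using MvPolynomial.induction_on with
  | C a => exact ⟨‖a‖, 0, norm_nonneg a, fun p => by simp⟩
  | add P Q hP hQ =>
    obtain ⟨C, N, hC, hP⟩ := hP
    obtain ⟨C', N', hC', hQ⟩ := hQ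
    refine ⟨C + C', max N N', add_nonneg hC hC', fun p => ?_⟩
    rw [map_add, add_mul]
    have h1 : 1 ≤ 1 + ‖p‖ := le_add_of_nonneg_right (norm_nonneg p)
    refine (norm_add_le _ _).trans (add_le_add ((hP p).trans ?_) ((hQ p).trans ?_))
    · exact mul_le_mul_of_nonneg_left (pow_le_pow_right₀ h1 (le_max_left _ _)) hC
    · exact mul_le_mul_of_nonneg_left (pow_le_pow_right₀ h1 (le_max_right _ _)) hC'
  | mul_X P i hP =>
    obtain ⟨C, N, hC, hP⟩ := hP
    refine ⟨C, N + 1, hC, fun p => ?_⟩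
    rw [map_mul, MvPolynomial.eval_X, norm_mul, pow_succ, ← mul_assoc]
    exact mul_le_mul (hP p) ((norm_le_pi_norm p i).trans (le_add_of_nonneg_left zero_le_one)) (norm_nonneg _)
      (by positivity)

/-- Separately holomorphic functions of polynomial growth off a hypersurface are polynomials. -/
theorem exists_mvPolynomial_of_growth : ∀ {n : ℕ} {D : MvPolynomial (Fin n) ℂ}, D ≠ 0 →
    ∀ {F : (Fin n → ℂ) → ℂ}, ContinuousOn F {p | MvPolynomial.eval p D ≠ 0} →
    (∀ p, MvPolynomial.eval p D ≠ 0 → ∀ i, DifferentiableAt ℂ (fun t => F (Function.update p i t)) (p i)) →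
    ∀ {N : ℕ} {C : ℝ}, 0 ≤ C → (∀ p, MvPolynomial.eval p D ≠ 0 → ‖F p‖ ≤ C * (1 + ‖p‖) ^ N) →
    ∃ P : MvPolynomial (Fin n) ℂ, ∀ p, MvPolynomial.eval p D ≠ 0 → MvPolynomial.eval p P = F p := by
  intro n
  induction n with
  | zero =>
    intro D _ F _ _ N C _ _
    exact ⟨MvPolynomial.C (F 0), fun p _ => by rw [MvPolynomial.eval_C, Subsingleton.elim p 0]⟩
  | succ n ih =>
    intro D hD F hc hd N C hC hb
    set E := MvPolynomial.finSuccEquiv ℂ n D with hE
    have hE0 : E ≠ 0 := by simpa [hE] using hD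
    let D₁ := E.leadingCoeff
    have hD₁ : D₁ ≠ 0 := leadingCoeff_ne_zero.2 hE0
    have hev : ∀ (t : ℂ) (x : Fin n → ℂ), MvPolynomial.eval (Fin.cons t x : Fin (n + 1) → ℂ) D =
        (E.map (MvPolynomial.eval x)).eval t := fun t x => MvPolynomial.eval_eq_eval_mv_eval' x t D
    -- the good sample values
    obtain ⟨v, hv⟩ : ∃ v : Fin n → ℂ, MvPolynomial.eval v D₁ ≠ 0 := by
      obtain ⟨v, hv, -⟩ := mem_closure_iff.1 (mem_closure_ne_zero hD₁ 0) Set.univ isOpen_univ trivial |>
        fun ⟨v, _, hv⟩ => (⟨v, hv, trivial⟩ : ∃ v, MvPolynomial.eval v D₁ ≠ 0 ∧ True)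
      exact ⟨v, hv⟩
    have hEv : E.map (MvPolynomial.eval v) ≠ 0 := fun h =>
      hv (by simpa [coeff_map] using congrArg (fun q : ℂ[X] => q.coeff E.natDegree) h)
    have hinf : {t : ℂ | (E.map (MvPolynomial.eval v)).eval t ≠ 0}.Infinite :=
      (finite_setOf_isRoot hEv).infinite_compl
    obtain ⟨T, hT, hTc⟩ := hinf.exists_subset_card_eq (N + 1)
    have hT0 : ∀ t ∈ T, E.eval (MvPolynomial.C t) ≠ 0 := fun t ht h => hT ht (by
      have := congrArg (MvPolynomial.eval v) h
      rwa [map_zero, ← eval_map_apply, MvPolynomial.eval_C] at this)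
    have hevT : ∀ (t : ℂ) (x : Fin n → ℂ), MvPolynomial.eval x (E.eval (MvPolynomial.C t)) =
        MvPolynomial.eval (Fin.cons t x : Fin (n + 1) → ℂ) D := fun t x => by
      rw [hev, ← eval_map_apply, MvPolynomial.eval_C]
    have hPt : ∀ t ∈ T, ∃ P : MvPolynomial (Fin n) ℂ, ∀ x, MvPolynomial.eval x (E.eval (MvPolynomial.C t)) ≠ 0 →
        MvPolynomial.eval x P = F (Fin.cons t x) := by
      intro t ht
      refine ih (hT0 t ht) (F := fun x => F (Fin.cons t x)) ?_ (fun x hx i => ?_)
        (C := C * (1 + ‖t‖) ^ N) (N := N) (by positivity) fun x hx => ?_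
      · refine hc.comp (Continuous.continuousOn (by fun_prop)) fun x hx => ?_
        show MvPolynomial.eval (Fin.cons t x : Fin (n + 1) → ℂ) D ≠ 0
        rw [← hevT]; exact hx
      · have h1 := hd (Fin.cons t x) (by rw [← hevT]; exact hx) i.succ
        rw [Fin.cons_succ] at h1
        simpa only [Fin.cons_update] using h1
      · refine (hb (Fin.cons t x) (by rw [← hevT]; exact hx)).trans ?_
        rw [mul_assoc, ← mul_pow]
        refine mul_le_mul_of_nonneg_left (pow_le_pow_left₀ (by positivity) ?_ N) hC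
        have : ‖(Fin.cons t x : Fin (n + 1) → ℂ)‖ ≤ ‖t‖ + ‖x‖ :=
          (pi_norm_le_iff_of_nonneg (by positivity)).2 fun i => by
            refine Fin.cases ?_ (fun j => ?_) i
            · exact le_add_of_nonneg_right (norm_nonneg _)
            · exact (norm_le_pi_norm x j).trans (le_add_of_nonneg_left (norm_nonneg _))
        nlinarith [norm_nonneg t, norm_nonneg x]
    choose! Pt hPt using hPt
    let P : MvPolynomial (Fin (n + 1)) ℂ :=
      ∑ t ∈ T, Polynomial.aeval (MvPolynomial.X 0) (Lagrange.basis T id t) * MvPolynomial.rename Fin.succ (Pt t)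
    refine ⟨P, ?_⟩
    let G : MvPolynomial (Fin n) ℂ := D₁ * ∏ t ∈ T, E.eval (MvPolynomial.C t)
    have hG : G ≠ 0 := mul_ne_zero hD₁ (Finset.prod_ne_zero_iff.2 hT0)
    have hgood : ∀ (t : ℂ) (x : Fin n → ℂ), MvPolynomial.eval x G ≠ 0 →
        MvPolynomial.eval (Fin.cons t x : Fin (n + 1) → ℂ) D ≠ 0 →
        MvPolynomial.eval (Fin.cons t x : Fin (n + 1) → ℂ) P = F (Fin.cons t x) := by
      intro t x hx ht
      rw [map_mul, mul_ne_zero_iff, map_prod, Finset.prod_ne_zero_iff] at hx
      have hEx : E.map (MvPolynomial.eval x) ≠ 0 := fun h =>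
        hx.1 (by simpa [coeff_map] using congrArg (fun q : ℂ[X] => q.coeff E.natDegree) h)
      have hd' : ∀ s ∉ {t | (E.map (MvPolynomial.eval x)).IsRoot t}, DifferentiableAt ℂ (fun s => F (Fin.cons s x)) s := by
        intro s hs
        have hs' : MvPolynomial.eval (Fin.cons s x : Fin (n + 1) → ℂ) D ≠ 0 := by rw [hev]; exact hs
        have h1 := hd _ hs' 0
        simpa only [Fin.cons_zero, Fin.update_cons_zero] using h1
      have hb' : ∀ s ∉ {t | (E.map (MvPolynomial.eval x)).IsRoot t}, ‖F (Fin.cons s x)‖ ≤ C * (1 + ‖x‖) ^ N * (1 + ‖s‖) ^ N := by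
        intro s hs
        refine (hb _ (by rw [hev]; exact hs)).trans ?_
        rw [mul_assoc, ← mul_pow]
        refine mul_le_mul_of_nonneg_left (pow_le_pow_left₀ (by positivity) ?_ N) hC
        have : ‖(Fin.cons s x : Fin (n + 1) → ℂ)‖ ≤ ‖s‖ + ‖x‖ :=
          (pi_norm_le_iff_of_nonneg (by positivity)).2 fun i => by
            refine Fin.cases ?_ (fun j => ?_) i
            · exact le_add_of_nonneg_right (norm_nonneg _)
            · exact (norm_le_pi_norm x j).trans (le_add_of_nonneg_left (norm_nonneg _))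
        nlinarith [norm_nonneg s, norm_nonneg x]
      obtain ⟨Q, hQ, hQe⟩ := exists_poly_of_growth_off_finite (finite_setOf_isRoot hEx) hd' hb'
      have hQT : ∀ s ∈ T, Q.eval s = F (Fin.cons s x) := fun s hs => hQe s (by
        show ¬ _ = 0
        rw [← hev, ← hevT]; exact hx.2 s hs)
      rw [← hQe t (by show ¬ _ = 0; rw [← hev]; exact ht),
        Lagrange.eq_interpolate_of_eval_eq (fun s => F (Fin.cons s x)) (v := id) (Set.injOn_id _)
          (lt_of_le_of_lt degree_le_natDegree (by rw [hTc]; exact_mod_cast Nat.lt_succ_of_le hQ)) hQT,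
        Lagrange.interpolate_apply, eval_finsetSum, map_sum]
      refine Finset.sum_congr rfl fun s hs => ?_
      rw [map_mul, MvPolynomial.eval_rename, eval_mul, eval_C, mul_comm]
      congr 1
      · rw [show ((Fin.cons t x : Fin (n + 1) → ℂ) ∘ Fin.succ) = x from _root_.funext fun j => by simp,
          hPt s hs x (hx.2 s hs)]
      · have h1 := (Polynomial.aeval_algHom_apply (MvPolynomial.aeval (Fin.cons t x : Fin (n + 1) → ℂ))
          (MvPolynomial.X 0) (Lagrange.basis T id s)).symm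
        rw [MvPolynomial.aeval_X, Fin.cons_zero] at h1
        simpa using h1
    intro p hp
    have ho : IsOpen {q : Fin (n + 1) → ℂ | MvPolynomial.eval q D ≠ 0} :=
      (MvPolynomial.continuous_eval D).isOpen_preimage _ isOpen_ne
    have hG' : MvPolynomial.rename (Fin.succ : Fin n → Fin (n + 1)) G ≠ 0 := fun h =>
      hG (MvPolynomial.rename_injective _ (Fin.succ_injective n) (by rw [h, map_zero]))
    have hcl := mem_closure_ne_zero hG' p
    rw [mem_closure_iff_nhdsWithin_neBot] at hcl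
    refine tendsto_nhds_unique' hcl ((MvPolynomial.continuous_eval P).tendsto p |>.mono_left nhdsWithin_le_nhds)
      (((hc.continuousAt (ho.mem_nhds hp)).tendsto.mono_left nhdsWithin_le_nhds).congr' ?_)
    filter_upwards [nhdsWithin_le_nhds (ho.mem_nhds hp), self_mem_nhdsWithin] with q hq hqG
    have hq' : Fin.cons (q 0) (q ∘ Fin.succ) = q := Fin.cons_self_tail q
    have := hgood (q 0) (q ∘ Fin.succ) (by rwa [MvPolynomial.eval_rename] at hqG)
      (by rw [hq']; exact hq)
    rw [hq'] at this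
    exact this.symm

end AnLib
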