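import Groth.Agent.AnLib.ConnectedCore
import Mathlib.RingTheory.AlgebraicIndependent.Adjoin
import Mathlib.RingTheory.AlgebraicIndependent.Transcendental
import Mathlib.RingTheory.AlgebraicIndependent.TranscendenceBasis
import Mathlib.RingTheory.Norm.Basic
import Mathlib.Algebra.MvPolynomial.NoZeroDivisors
import Mathlib.FieldTheory.IsAlgClosed.AlgebraicClosure
import Mathlib.FieldTheory.Perfect
import Mathlib.Topology.Connected.TotallyDisconnected

/-! Functions with continuous roots of every order are constants. -/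

set_option autoImplicit false

open Filter Topology Polynomial

namespace AnLib

variable {A : Type} [CommRing A] [IsDomain A] [Algebra ℂ A] [Algebra.FiniteType ℂ A]

/-- A continuous `n`-th root of a regular function is algebraic. -/
theorem exists_root_fractionRing {u : A} (hu : ∀ χ : A →ₐ[ℂ] ℂ, χ u ≠ 0) {n : ℕ} (hn : 0 < n)
    (w : Set.range (fun χ : A →ₐ[ℂ] ℂ => (χ : A → ℂ)) → ℂ) (hw : Continuous w)
    (hwn : ∀ v, w v ^ n = v.1 u) :
    ∃ θ : FractionRing A, θ ^ n = algebraMap A (FractionRing A) u := by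
  classical
  let K := FractionRing A
  let Ω := AlgebraicClosure K
  haveI : CharZero A := charZero_of_injective_algebraMap (algebraMap ℂ A).injective
  haveI : CharZero K := charZero_of_injective_algebraMap (IsFractionRing.injective A K)
  obtain ⟨θ, hθ⟩ := IsAlgClosed.exists_pow_nat_eq (algebraMap K Ω (algebraMap A K u)) hn
  have hθi : IsIntegral K θ := Algebra.IsIntegral.isIntegral θ
  set h := minpoly K θ
  obtain ⟨a, b, hab⟩ := (minpoly.irreducible hθi).separable
  obtain ⟨s, hs⟩ := (‹Algebra.FiniteType ℂ A›).out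
  let gens : Finset K := s.image (algebraMap A K) ∪ (h.coeffs ∪ (a.coeffs ∪ b.coeffs))
  let A' := Algebra.adjoin ℂ (gens : Set K)
  haveI : Algebra.FiniteType ℂ A' := Algebra.FiniteType.adjoin_of_finite gens.finite_toSet
  have hι : ∀ x : A, algebraMap A K x ∈ A' := fun x => by
    have hx : x ∈ Algebra.adjoin ℂ (s : Set A) := hs.ge trivial
    induction hx using Algebra.adjoin_induction with
    | mem y hy => exact Algebra.subset_adjoin (Finset.mem_union_left _ (Finset.mem_image_of_mem _ hy))
    | algebraMap c => rw [← IsScalarTower.algebraMap_apply]; exact A'.algebraMap_mem c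
    | add y z _ _ hy hz => rw [map_add]; exact A'.add_mem hy hz
    | mul y z _ _ hy hz => rw [map_mul]; exact A'.mul_mem hy hz
  let ι : A →ₐ[ℂ] A' := (IsScalarTower.toAlgHom ℂ A K).codRestrict A' hι
  have hlift : ∀ p : K[X], p.coeffs ⊆ gens → ∃ p' : (A')[X], p'.map A'.val.toRingHom = p := fun p hp =>
    (Polynomial.mem_lifts p).1 ((Polynomial.lifts_iff_coeff_lifts p).2 fun i => by
      by_cases hi : p.coeff i = 0
      · exact ⟨0, by rw [hi, map_zero]⟩
      · exact ⟨⟨_, Algebra.subset_adjoin (hp (Polynomial.coeff_mem_coeffs hi))⟩, rfl⟩)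
  obtain ⟨h₀, hh₀⟩ := hlift h (Finset.subset_union_left.trans Finset.subset_union_right)
  obtain ⟨a', ha'⟩ := hlift a (Finset.subset_union_left.trans (Finset.subset_union_right.trans Finset.subset_union_right))
  obtain ⟨b', hb'⟩ := hlift b (Finset.subset_union_right.trans (Finset.subset_union_right.trans Finset.subset_union_right))
  have hinj : Function.Injective A'.val.toRingHom := Subtype.val_injective
  have hm : h₀.Monic := monic_of_injective hinj (by rw [hh₀]; exact minpoly.monic hθi)
  have hab' : a' * h₀ + b' * derivative h₀ = 1 := map_injective _ hinj (by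
    rw [Polynomial.map_add, Polynomial.map_mul, Polynomial.map_mul, ← derivative_map, hh₀, ha', hb',
      Polynomial.map_one]; exact hab)
  -- the algebra generated by the root
  let B := AdjoinRoot h₀
  let g : A' →+* Ω := (algebraMap K Ω).comp A'.val.toRingHom
  have hg : h₀.eval₂ g θ = 0 := by rw [← eval₂_map, hh₀]; exact minpoly.aeval K θ
  let e : B →+* Ω := AdjoinRoot.lift g θ hg
  have he : Function.Injective e := (injective_iff_map_eq_zero e).2 fun z hz => by
    obtain ⟨q, rfl⟩ := AdjoinRoot.mk_surjective z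
    rw [AdjoinRoot.lift_mk, ← eval₂_map] at hz
    rw [AdjoinRoot.mk_eq_zero, ← modByMonic_eq_zero_iff_dvd hm]
    refine map_injective _ hinj ?_
    rw [map_modByMonic _ hm, hh₀, Polynomial.map_zero, modByMonic_eq_zero_iff_dvd (minpoly.monic hθi)]
    exact minpoly.dvd K θ hz
  haveI : IsDomain B := he.isDomain e
  haveI : Algebra.FiniteType ℂ B := Algebra.FiniteType.trans (S := A') inferInstance inferInstance
  let j : A → B := fun x => AdjoinRoot.of h₀ (ι x)
  have hroot : AdjoinRoot.root h₀ ^ n = j u := he (by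
    rw [map_pow, AdjoinRoot.lift_root, AdjoinRoot.lift_of, hθ]; rfl)
  let jₐ : A →ₐ[ℂ] B := ⟨(AdjoinRoot.of h₀).comp ι.toRingHom, fun c => by
    show AdjoinRoot.of h₀ (ι (algebraMap ℂ A c)) = _
    rw [ι.commutes, AdjoinRoot.algebraMap_eq']
    rfl⟩
  let SB := Set.range fun χ : B →ₐ[ℂ] ℂ => (χ : B → ℂ)
  let r : SB → Set.range (fun χ : A →ₐ[ℂ] ℂ => (χ : A → ℂ)) := fun v =>
    ⟨v.1 ∘ jₐ, by obtain ⟨χ, hχ⟩ := v.2; exact ⟨χ.comp jₐ, by rw [← hχ]; rfl⟩⟩
  have hr : Continuous r := Continuous.subtype_mk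
    (continuous_pi fun x => (continuous_apply (jₐ x)).comp (continuous_subtype_val (p := fun v => v ∈ SB))) _
  let T : SB → ℂ := fun v => v.1 (AdjoinRoot.root h₀) / w (r v)
  have hw0 : ∀ v, w v ≠ 0 := fun v h0 => by
    obtain ⟨χ, hχ⟩ := v.2
    refine hu χ ?_
    rw [show χ u = v.1 u from congrFun hχ u, ← hwn, h0, zero_pow hn.ne']
  have hT : Continuous T :=
    ((continuous_apply _).comp continuous_subtype_val).div (hw.comp hr) fun v => hw0 _
  have hTn : ∀ v, T v ^ n = 1 := fun v => by
    obtain ⟨χ, hχ⟩ := v.2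
    rw [div_pow, hwn, div_eq_one_iff_eq (by rw [← hwn]; exact pow_ne_zero _ (hw0 _))]
    show v.1 (AdjoinRoot.root h₀) ^ n = v.1 (j u)
    rw [← hχ, ← map_pow, hroot]
  have hTconst : ∀ v v', T v = T v' := by
    haveI : PreconnectedSpace SB := isPreconnected_iff_preconnectedSpace.1 (isPreconnected_range_algHom B)
    intro v v'
    refine isPreconnected_univ.constant_of_mapsTo (T := {z : ℂ | z ^ n = 1}) ?_ hT.continuousOn
      (fun v _ => hTn v) trivial trivial
    refine Set.Finite.isDiscrete ?_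
    refine ((nthRoots n (1 : ℂ)).toFinset.finite_toSet).subset fun z hz => ?_
    rw [Finset.mem_coe, Multiset.mem_toFinset, mem_nthRoots hn]
    exact hz
  -- all roots over a point coincide
  obtain ⟨M, hM⟩ := Ideal.exists_maximal A'
  obtain ⟨χ', -⟩ := exists_algHom_of_isMaximal M
  set hp := h₀.map χ'.toRingHom
  have hpm : hp.Monic := hm.map _
  have hsep : hp.Separable := by
    refine ⟨a'.map χ'.toRingHom, b'.map χ'.toRingHom, ?_⟩
    have := congrArg (Polynomial.map χ'.toRingHom) hab'
    rwa [Polynomial.map_add, Polynomial.map_mul, Polynomial.map_mul, ← derivative_map, Polynomial.map_one] at this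
  have hlifts : ∀ r₀ ∈ hp.roots, ∃ ψ : B →ₐ[ℂ] ℂ, ψ (AdjoinRoot.root h₀) = r₀ ∧ ∀ x : A, ψ (jₐ x) = χ' (ι x) := by
    intro r₀ hr₀
    have h0 : h₀.eval₂ χ'.toRingHom r₀ = 0 := by
      rw [← eval_map]; exact isRoot_of_mem_roots hr₀
    refine ⟨⟨AdjoinRoot.lift χ'.toRingHom r₀ h0, fun c => ?_⟩, AdjoinRoot.lift_root h0, fun x => AdjoinRoot.lift_of h0⟩
    show AdjoinRoot.lift χ'.toRingHom r₀ h0 (algebraMap ℂ B c) = c
    rw [AdjoinRoot.algebraMap_eq']
    exact (AdjoinRoot.lift_of h0).trans (χ'.commutes c)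
  have huniq : ∀ r₁ ∈ hp.roots, ∀ r₂ ∈ hp.roots, r₁ = r₂ := by
    intro r₁ h1 r₂ h2
    obtain ⟨ψ₁, e1, e1'⟩ := hlifts r₁ h1
    obtain ⟨ψ₂, e2, e2'⟩ := hlifts r₂ h2
    have h12 := hTconst ⟨_, ψ₁, rfl⟩ ⟨_, ψ₂, rfl⟩
    have hrr : r ⟨_, ψ₁, rfl⟩ = r ⟨_, ψ₂, rfl⟩ := Subtype.ext (_root_.funext fun x => (e1' x).trans (e2' x).symm)
    simp only [T, hrr, e1, e2] at h12
    exact (div_left_inj' (hw0 _)).1 h12
  have hdeg : h.natDegree = 1 := by
    have h1 : hp.roots.card = h.natDegree := by
      rw [← (IsAlgClosed.splits hp).natDegree_eq_card_roots, hm.natDegree_map, ← hh₀, hm.natDegree_map]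
    have h2 : hp.roots.toFinset.card ≤ 1 := Finset.card_le_one.2 fun r₁ h1 r₂ h2 =>
      huniq r₁ (Multiset.mem_toFinset.1 h1) r₂ (Multiset.mem_toFinset.1 h2)
    rw [Multiset.toFinset_card_of_nodup (nodup_roots hsep), h1] at h2
    have h3 := minpoly.natDegree_pos hθi
    rw [show h = minpoly K θ from rfl] at *
    omega
  obtain ⟨θ₀, hθ₀⟩ := minpoly.natDegree_eq_one_iff.1 hdeg
  refine ⟨θ₀, (algebraMap K Ω).injective ?_⟩
  rw [map_pow, hθ₀, hθ]

/-- An element of a function field with roots of all orders is a constant. -/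
theorem exists_const_of_roots {u : A} (hu : ∀ n : ℕ, 0 < n → ∃ θ : FractionRing A, θ ^ n = algebraMap A (FractionRing A) u) :
    ∃ c : ℂ, u = algebraMap ℂ A c := by
  classical
  let K := FractionRing A
  by_cases hal : IsAlgebraic ℂ (algebraMap A K u)
  · haveI : Algebra.IsAlgebraic ℂ (IntermediateField.adjoin ℂ {algebraMap A K u}) :=
      IntermediateField.isAlgebraic_adjoin_simple hal.isIntegral
    obtain ⟨c, hc⟩ : algebraMap A K u ∈ Set.range (algebraMap ℂ K) := by
      obtain ⟨c, hc⟩ := IsAlgClosed.algebraMap_bijective_of_isIntegral (k := ℂ)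
        (K := IntermediateField.adjoin ℂ {algebraMap A K u}) |>.2 ⟨_, IntermediateField.mem_adjoin_simple_self ℂ _⟩
      exact ⟨c, congrArg Subtype.val hc⟩
    exact ⟨c, IsFractionRing.injective A K (by rw [← hc, ← IsScalarTower.algebraMap_apply])⟩
  exfalso
  obtain ⟨t, hut, ht⟩ := exists_isTranscendenceBasis_superset (R := ℂ) (A := K) (s := {algebraMap A K u})
    (algebraicIndependent_unique_type_iff.mpr hal)
  let F := IntermediateField.adjoin ℂ (Set.range ((↑) : t → K))
  haveI : Algebra.IsAlgebraic F K := ht.isAlgebraic_field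
  haveI : CharZero A := charZero_of_injective_algebraMap (algebraMap ℂ A).injective
  obtain ⟨s, hs⟩ := (‹Algebra.FiniteType ℂ A›).out
  haveI : FiniteDimensional F K := by
    let S := IntermediateField.adjoin F ((algebraMap A K) '' (s : Set A))
    haveI : FiniteDimensional F S := by
      haveI : Finite ((algebraMap A K) '' (s : Set A)) := (s.finite_toSet.image _).to_subtype
      exact IntermediateField.finiteDimensional_adjoin fun x _ => Algebra.IsIntegral.isIntegral x
    have hA : ∀ x : A, algebraMap A K x ∈ S := fun x => by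
      have hx : x ∈ Algebra.adjoin ℂ (s : Set A) := hs.ge trivial
      induction hx using Algebra.adjoin_induction with
      | mem y hy => exact IntermediateField.subset_adjoin _ _ ⟨y, hy, rfl⟩
      | algebraMap c =>
        rw [← IsScalarTower.algebraMap_apply, IsScalarTower.algebraMap_apply ℂ F K]
        exact S.algebraMap_mem _
      | add y z _ _ hy hz => rw [map_add]; exact S.add_mem hy hz
      | mul y z _ _ hy hz => rw [map_mul]; exact S.mul_mem hy hz
    have hS : S = ⊤ := eq_top_iff.2 fun z _ => by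
      obtain ⟨x, y, -, rfl⟩ := IsFractionRing.div_surjective (A := A) z
      exact S.div_mem (hA x) (hA y)
    exact Module.Finite.equiv ((IntermediateField.equivOfEq hS).trans IntermediateField.topEquiv).toLinearEquiv
  set d := Module.finrank F K
  have hd : 0 < d := Module.finrank_pos
  obtain ⟨θ, hθ⟩ := hu (d + 1) (Nat.succ_pos d)
  let u' : F := ⟨algebraMap A K u, IntermediateField.subset_adjoin _ _ ⟨⟨_, hut rfl⟩, rfl⟩⟩
  have hN : u' ^ d = (Algebra.norm F θ) ^ (d + 1) := by
    rw [← Algebra.norm_algebraMap (S := K) u', ← map_pow, hθ]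
    rfl
  let e := ht.1.aevalEquivField
  set i : t := ⟨algebraMap A K u, hut rfl⟩
  have hX : e (algebraMap _ _ (MvPolynomial.X i)) = u' := Subtype.ext (by
    refine (ht.1.aevalEquivField_algebraMap_apply_coe _).trans ?_
    rw [MvPolynomial.aeval_X])
  have hF : (algebraMap (MvPolynomial t ℂ) (FractionRing (MvPolynomial t ℂ)) (MvPolynomial.X i)) ^ d =
      (e.symm (Algebra.norm F θ)) ^ (d + 1) := by
    apply e.injective
    rw [map_pow, hX, map_pow, AlgEquiv.apply_symm_apply, hN]
  obtain ⟨p, q, hq, hpq⟩ := IsFractionRing.div_surjective (A := MvPolynomial t ℂ) (e.symm (Algebra.norm F θ))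
  have hq0 : q ≠ 0 := nonZeroDivisors.ne_zero hq
  rw [← hpq, div_pow, eq_div_iff (pow_ne_zero _ ((map_ne_zero_iff _ (IsFractionRing.injective _ _)).2 hq0)),
    ← map_pow, ← map_pow, ← map_pow, ← map_mul] at hF
  have hF' := IsFractionRing.injective (MvPolynomial t ℂ) (FractionRing (MvPolynomial t ℂ)) hF
  have hp0 : p ≠ 0 := fun h0 => by
    rw [h0, zero_pow (Nat.succ_ne_zero d)] at hF'
    exact mul_ne_zero (pow_ne_zero _ (MvPolynomial.X_ne_zero i)) (pow_ne_zero _ hq0) hF'
  have hpow : ∀ {f : MvPolynomial t ℂ}, f ≠ 0 → ∀ k : ℕ, (f ^ k).totalDegree = k * f.totalDegree := by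
    intro f hf k
    induction k with
    | zero => simp
    | succ k ih => rw [pow_succ, MvPolynomial.totalDegree_mul_of_isDomain (pow_ne_zero _ hf) hf, ih]; ring
  have h1 := congrArg MvPolynomial.totalDegree hF'
  rw [MvPolynomial.totalDegree_mul_of_isDomain (pow_ne_zero _ (MvPolynomial.X_ne_zero i)) (pow_ne_zero _ hq0),
    hpow (MvPolynomial.X_ne_zero i), hpow hq0, hpow hp0, MvPolynomial.totalDegree_X, mul_one] at h1
  have h2 : (d + 1) ∣ d := (Nat.dvd_add_iff_left (Dvd.intro _ rfl)).2 ⟨_, h1⟩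
  exact absurd (Nat.le_of_dvd hd h2) (by omega)

end AnLib
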